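import Groth.Agent.AGFObs.Reg

/-!
Rational actions on algebras from pointwise data.
-/

set_option autoImplicit false

universe u

noncomputable section

open CategoryTheory MonoidalCategory CartesianMonoidalCategory MonObj GrpObj AlgebraicGeometry
open scoped TensorProduct
open Groth.Agent.AGFPoints.Basic Groth.Agent.AGFLang

namespace Groth.Agent.AGFObs

variable {k : Type u} [Field k] [IsAlgClosed k] {G : Over (Spec (CommRingCat.of k))} [GrpObj G]
  [IsAffine G.left] [Smooth G.hom]

/-- equal at all rational points of the first factor -/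
theorem tensor_ext {V : Type u} [AddCommGroup V] [Module k V] {w w' : Coord G ⊗[k] V}
    (h : ∀ z : Pts G, TensorProduct.lid k V ((valHom z).toLinearMap.rTensor V w) =
      TensorProduct.lid k V ((valHom z).toLinearMap.rTensor V w')) : w = w' :=
  sub_eq_zero.1 (tensor_eq_zero fun z => by rw [map_sub, map_sub, h z, sub_self])

/-- equal at all pairs of rational points -/
theorem tensor₂_ext {V : Type u} [AddCommGroup V] [Module k V] {w w' : (Coord G ⊗[k] Coord G) ⊗[k] V}
    (h : ∀ x y : Pts G, TensorProduct.lid k V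
        ((Algebra.TensorProduct.lift (valHom x) (valHom y) fun _ _ => Commute.all _ _).toLinearMap.rTensor V w) =
      TensorProduct.lid k V
        ((Algebra.TensorProduct.lift (valHom x) (valHom y) fun _ _ => Commute.all _ _).toLinearMap.rTensor V w')) : w = w' := by
  apply (TensorProduct.assoc k (Coord G) (Coord G) V).injective
  have e : ∀ (x y : Pts G) (u : (Coord G ⊗[k] Coord G) ⊗[k] V),
      TensorProduct.lid k V ((valHom y).toLinearMap.rTensor V (TensorProduct.lid k (Coord G ⊗[k] V)
        ((valHom x).toLinearMap.rTensor (Coord G ⊗[k] V) (TensorProduct.assoc k (Coord G) (Coord G) V u)))) =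
      TensorProduct.lid k V
        ((Algebra.TensorProduct.lift (valHom x) (valHom y) fun _ _ => Commute.all _ _).toLinearMap.rTensor V u) := by
    intro x y u
    induction u with
    | zero => simp
    | add a b ha hb => simp only [map_add, ha, hb]
    | tmul ab v =>
      induction ab with
      | zero => simp
      | add a b ha hb => simp only [map_add, TensorProduct.add_tmul, ha, hb]
      | tmul a b => simp [-valHom_apply, mul_smul, TensorProduct.smul_tmul']
  exact tensor_ext fun x => tensor_ext fun y => by rw [e, e]; exact h x y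

variable {A : Type u} [CommRing A] [Algebra k A] (δ : A →ₐ[k] Coord G ⊗[k] A)

/-- evaluation of a coaction at an algebra valued point -/
def cB {B : Type u} [CommRing B] [Algebra k B] (g : VecGrp.pt k B ⟶ G) : A →ₐ[k] B ⊗[k] A :=
  (Algebra.TensorProduct.map (valHom g) (AlgHom.id k A)).comp δ

/-- evaluation of a coaction at a rational point -/
def cAct (g : Pts G) : A →ₐ[k] A := (Algebra.TensorProduct.lid k A).toAlgHom.comp (cB δ g)

theorem cAct_eq (g : Pts G) (a : A) :
    cAct δ g a = TensorProduct.lid k A ((valHom g).toLinearMap.rTensor A (δ a)) := by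
  show Algebra.TensorProduct.lid k A ((Algebra.TensorProduct.map (valHom g) (AlgHom.id k A)) (δ a)) = _
  generalize δ a = w
  induction w with
  | zero => simp
  | add a b ha hb => simp only [map_add, ha, hb]
  | tmul a b => simp [-valHom_apply]

omit [IsAlgClosed k] [Smooth G.hom] in
/-- its linear extension -/
def cT {B : Type u} [CommRing B] [Algebra k B] (g : VecGrp.pt k B ⟶ G) : B ⊗[k] A →ₐ[B] B ⊗[k] A :=
  Algebra.TensorProduct.lift (Algebra.ofId B (B ⊗[k] A)) (cB δ g) fun _ _ => Commute.all _ _

theorem cT_tmul {B : Type u} [CommRing B] [Algebra k B] (g : VecGrp.pt k B ⟶ G) (b : B) (a : A) :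
    cT δ g (b ⊗ₜ a) = b • cB δ g a := by
  rw [cT, Algebra.TensorProduct.lift_tmul, Algebra.smul_def]
  rfl

theorem cB_natural {B B' : Type u} [CommRing B] [Algebra k B] [CommRing B'] [Algebra k B'] (φ : B →ₐ[k] B')
    (g : VecGrp.pt k B ⟶ G) (a : A) : φ.toLinearMap.rTensor A (cB δ g a) = cB δ (VecGrp.ptMap φ ≫ g) a := by
  show φ.toLinearMap.rTensor A (Algebra.TensorProduct.map (valHom g) (AlgHom.id k A) (δ a)) =
    Algebra.TensorProduct.map (valHom (VecGrp.ptMap φ ≫ g)) (AlgHom.id k A) (δ a)
  rw [valHom_ptMap]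
  generalize δ a = w
  induction w with
  | zero => simp
  | add a b ha hb => simp only [map_add, ha, hb]
  | tmul a b => simp [-valHom_apply]

theorem cT_natural {B B' : Type u} [CommRing B] [Algebra k B] [CommRing B'] [Algebra k B'] (φ : B →ₐ[k] B')
    (g : VecGrp.pt k B ⟶ G) (x : B ⊗[k] A) :
    φ.toLinearMap.rTensor A (cT δ g x) = cT δ (VecGrp.ptMap φ ≫ g) (φ.toLinearMap.rTensor A x) := by
  induction x with
  | zero => simp
  | add x y hx hy => simp only [map_add, hx, hy]
  | tmul b a =>
    rw [cT_tmul, LinearMap.rTensor_tmul, cT_tmul, ← cB_natural]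
    exact VecGrp.Wmap_smul φ b _

theorem cT_pt (g : Pts G) (x : k ⊗[k] A) :
    TensorProduct.lid k A (cT δ g x) = cAct δ g (TensorProduct.lid k A x) := by
  induction x with
  | zero => simp
  | add x y hx hy => simp only [map_add, hx, hy]
  | tmul b a => rw [cT_tmul, map_smul, TensorProduct.lid_tmul, map_smul]; rfl

variable (h1 : ∀ a, cAct δ (1 : Pts G) a = a) (hm : ∀ g h a, cAct δ (g * h) a = cAct δ g (cAct δ h a))

include h1 in
theorem cB_one {B : Type u} [CommRing B] [Algebra k B] (a : A) :
    cB δ (1 : VecGrp.pt k B ⟶ G) a = (1 : B) ⊗ₜ a := by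
  have e : VecGrp.ptMap (Algebra.ofId k B) ≫ (1 : Pts G) = 1 := MonObj.comp_one _
  rw [← e, ← cB_natural, show cB δ (1 : Pts G) a = (1 : k) ⊗ₜ[k] a from (TensorProduct.lid k A).injective (by
    rw [TensorProduct.lid_tmul, one_smul]; exact h1 a)]
  simp

include hm in
theorem cT_cB {B : Type u} [CommRing B] [Algebra k B] (g h : VecGrp.pt k B ⟶ G) (a : A) :
    cT δ g (cB δ h a) = cB δ (g * h) a := by
  let uL : VecGrp.pt k (Coord G ⊗[k] Coord G) ⟶ G := ofHom Algebra.TensorProduct.includeLeft
  let uR : VecGrp.pt k (Coord G ⊗[k] Coord G) ⟶ G := ofHom Algebra.TensorProduct.includeRight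
  let ψ : ∀ {C : Type u} [CommRing C] [Algebra k C] (x y : VecGrp.pt k C ⟶ G), Coord G ⊗[k] Coord G →ₐ[k] C :=
    fun x y => Algebra.TensorProduct.lift (valHom x) (valHom y) fun _ _ => Commute.all _ _
  have eL : ∀ {C : Type u} [CommRing C] [Algebra k C] (x y : VecGrp.pt k C ⟶ G), VecGrp.ptMap (ψ x y) ≫ uL = x :=
    fun x y => valHom_inj (by rw [valHom_ptMap, valHom_ofHom]; exact Algebra.TensorProduct.lift_comp_includeLeft _ _ fun _ _ => Commute.all _ _)
  have eR : ∀ {C : Type u} [CommRing C] [Algebra k C] (x y : VecGrp.pt k C ⟶ G), VecGrp.ptMap (ψ x y) ≫ uR = y :=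
    fun x y => valHom_inj (by rw [valHom_ptMap, valHom_ofHom]; exact AlgHom.ext fun c => by simp [ψ])
  have key : cT δ uL (cB δ uR a) = cB δ (uL * uR) a := tensor₂_ext fun x y => by
    show TensorProduct.lid k A ((ψ x y).toLinearMap.rTensor A _) = TensorProduct.lid k A ((ψ x y).toLinearMap.rTensor A _)
    rw [cT_natural, cB_natural, cB_natural, MonObj.comp_mul, eL, eR, cT_pt]
    exact (hm x y a).symm
  have h2 := congrArg ((ψ g h).toLinearMap.rTensor A) key
  rwa [cT_natural, cB_natural, cB_natural, MonObj.comp_mul, eL, eR] at h2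

include h1 hm in
/-- an action by algebra automorphisms from a pointwise action -/
def ofCoact : VecGrp.GMod G A where
  ρ B _ _ :=
    (LinearMap.GeneralLinearGroup.generalLinearEquiv B (B ⊗[k] A)).toMonoidHom.comp
      (MonoidHom.toHomUnits
        ({ toFun := fun g => (cT δ g).toLinearMap
           map_one' := LinearMap.ext fun x => by
             show cT δ (1 : VecGrp.pt k B ⟶ G) x = x
             induction x with
             | zero => simp
             | add x y hx hy => simp only [map_add, hx, hy]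
             | tmul b a => rw [cT_tmul, cB_one δ h1, TensorProduct.smul_tmul', smul_eq_mul, _root_.mul_one]
           map_mul' := fun g h => LinearMap.ext fun x => by
             show cT δ (g * h) x = cT δ g (cT δ h x)
             induction x with
             | zero => simp
             | add x y hx hy => simp only [map_add, hx, hy]
             | tmul b a => rw [cT_tmul, cT_tmul, map_smul, cT_cB δ hm] } : (VecGrp.pt k B ⟶ G) →* Module.End B (B ⊗[k] A)))
  naturality {B B'} _ _ _ _ φ g x := cT_natural δ φ g x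

theorem ofCoact_isMult : (ofCoact δ h1 hm).IsMult := fun _ _ _ g =>
  ⟨fun x y => map_mul (cT δ g) x y, map_one (cT δ g)⟩

theorem act_ofCoact (g : Pts G) (a : A) : act (ofCoact δ h1 hm) g a = cAct δ g a := by
  show TensorProduct.lid k A (cT δ g ((1 : k) ⊗ₜ a)) = _
  rw [cT_pt, TensorProduct.lid_tmul, one_smul]

section OfMult

variable (ρ : VecGrp.GMod G A) (hρ : ρ.IsMult)

/-- the coaction of an action by automorphisms -/
def coactOf : A →ₐ[k] Coord G ⊗[k] A :=
  AlgHom.ofLinearMap
    (((ρ.ρ (Coord G) (uPt G)).toLinearMap.restrictScalars k) ∘ₗ TensorProduct.mk k (Coord G) A 1)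
    (hρ (Coord G) (uPt G)).2
    (fun a b => by
      show ρ.ρ (Coord G) (uPt G) ((1 : Coord G) ⊗ₜ[k] (a * b)) = _
      refine (congrArg (ρ.ρ (Coord G) (uPt G)) ?_).trans ((hρ (Coord G) (uPt G)).1 _ _)
      show (1 : Coord G) ⊗ₜ[k] (a * b) = ((1 : Coord G) ⊗ₜ[k] a) * ((1 : Coord G) ⊗ₜ[k] b)
      rw [Algebra.TensorProduct.tmul_mul_tmul, _root_.one_mul])

theorem cAct_coactOf (g : Pts G) (a : A) : cAct (coactOf ρ hρ) g a = act ρ g a := by
  rw [cAct_eq]
  show _ = TensorProduct.lid k A (ρ.ρ k g ((1 : k) ⊗ₜ a))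
  rw [ρ_eq]
  rfl

end OfMult

variable {H : Over (Spec (CommRingCat.of k))} [GrpObj H] [IsAffine H.left] [Smooth H.hom]

/-- invariance at rational points is invariance -/
theorem mem_fixedUnder_iff {M : Type u} [AddCommGroup M] [Module k M] (ρ : VecGrp.GMod G M) (i : H ⟶ G) (x : M) :
    x ∈ ρ.fixedUnder i ↔ ∀ z : Pts H, act ρ (z ≫ i) x = x := by
  constructor
  · intro h z
    simpa using congrArg (TensorProduct.lid k M) ((ρ_one_tmul ρ (z ≫ i) x).symm.trans (h k z))
  · intro h B _ _ t
    rw [ρ_smul_of_pts ρ i x 1 (fun z => by rw [map_one, one_smul, h z]) B t, map_one, one_smul]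

theorem mem_fixedSubalgebra_iff (ρ : VecGrp.GMod G A) (hρ : ρ.IsMult) (i : H ⟶ G) (x : A) :
    x ∈ ρ.fixedSubalgebra hρ i ↔ ∀ z : Pts H, act ρ (z ≫ i) x = x :=
  mem_fixedUnder_iff ρ i x

end Groth.Agent.AGFObs
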