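import Groth.Agent.AGFObs.Gm

/-!
Rational modules and functions on the group.
-/

set_option autoImplicit false

universe u

noncomputable section

open CategoryTheory MonoidalCategory CartesianMonoidalCategory MonObj GrpObj AlgebraicGeometry
open scoped TensorProduct
open Groth.Agent.AGFPoints.Basic Groth.Agent.AGFLang

namespace Groth.Agent.AGFObs

variable {k : Type u} [Field k] {G H : Over (Spec (CommRingCat.of k))} [GrpObj G]

section Module

variable {V : Type u} [AddCommGroup V] [Module k V] (ρ : VecGrp.GMod G V)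

/-- the action of a rational point -/
def act (g : Pts G) : V →ₗ[k] V :=
  (TensorProduct.lid k V).toLinearMap ∘ₗ (ρ.ρ k g).toLinearMap ∘ₗ (TensorProduct.lid k V).symm.toLinearMap

theorem ρ_one_tmul (g : Pts G) (v : V) : ρ.ρ k g ((1 : k) ⊗ₜ[k] v) = (1 : k) ⊗ₜ[k] act ρ g v :=
  ((TensorProduct.lid k V).symm_apply_apply _).symm

theorem act_mul (g h : Pts G) (v : V) : act ρ (g * h) v = act ρ g (act ρ h v) := by
  simp [act, LinearEquiv.mul_apply]

theorem act_one (v : V) : act ρ (1 : Pts G) v = v := by simp [act]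

variable [IsAffine G.left]

/-- matrix coefficient -/
def coef (φ : Module.Dual k V) : V →ₗ[k] Coord G :=
  (TensorProduct.rid k (Coord G)).toLinearMap ∘ₗ φ.lTensor (Coord G) ∘ₗ
    ((ρ.ρ (Coord G) (uPt G)).toLinearMap.restrictScalars k) ∘ₗ TensorProduct.mk k (Coord G) V 1

theorem ρ_eq (v : V) {B : Type u} [CommRing B] [Algebra k B] (x : VecGrp.pt k B ⟶ G) :
    ρ.ρ B x ((1 : B) ⊗ₜ[k] v) = (valHom x).toLinearMap.rTensor V (ρ.ρ (Coord G) (uPt G) ((1 : Coord G) ⊗ₜ[k] v)) := by
  have h := ρ.naturality (valHom x) (uPt G) ((1 : Coord G) ⊗ₜ[k] v)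
  rw [← eq_ptMap_uPt, VecGrp.Wmap_tmul, map_one] at h
  exact h.symm

theorem val_coef (φ : Module.Dual k V) (v : V) (x : Pts G) : valHom x (coef ρ φ v) = φ (act ρ x v) := by
  have e : φ (act ρ x v) = φ (TensorProduct.lid k V ((valHom x).toLinearMap.rTensor V
      (ρ.ρ (Coord G) (uPt G) ((1 : Coord G) ⊗ₜ[k] v)))) := by
    rw [← ρ_eq]; rfl
  rw [e]
  show valHom x (TensorProduct.rid k (Coord G) (φ.lTensor (Coord G) (ρ.ρ (Coord G) (uPt G) ((1 : Coord G) ⊗ₜ[k] v)))) = _
  generalize ρ.ρ (Coord G) (uPt G) ((1 : Coord G) ⊗ₜ[k] v) = w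
  induction w using TensorProduct.induction_on with
  | zero => simp [-valHom_apply]
  | add a b ha hb => simp only [map_add, ha, hb]
  | tmul a b => simp [-valHom_apply, mul_comm]

variable [GrpObj H] [IsAffine H.left] [IsAlgClosed k] [Smooth H.hom]

/-- scaling at rational points is scaling at all points -/
theorem ρ_smul_of_pts (i : H ⟶ G) (v : V) (c : Coord H)
    (h : ∀ z : Pts H, act ρ (z ≫ i) v = valHom z c • v) (B : Type u) [CommRing B] [Algebra k B]
    (t : VecGrp.pt k B ⟶ H) : ρ.ρ B (t ≫ i) ((1 : B) ⊗ₜ[k] v) = valHom t c • ((1 : B) ⊗ₜ[k] v) := by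
  have hu : ρ.ρ (Coord H) (uPt H ≫ i) ((1 : Coord H) ⊗ₜ[k] v) = c ⊗ₜ[k] v := by
    refine sub_eq_zero.1 (tensor_eq_zero fun z => ?_)
    have hn := ρ.naturality (valHom z) (uPt H ≫ i) ((1 : Coord H) ⊗ₜ[k] v)
    rw [← Category.assoc, ← eq_ptMap_uPt, VecGrp.Wmap_tmul, map_one, ρ_one_tmul, h z] at hn
    rw [map_sub, map_sub, LinearMap.rTensor_tmul, TensorProduct.lid_tmul, sub_eq_zero]
    exact (congrArg (TensorProduct.lid k V) hn).trans (by simp [-valHom_apply])
  have hn := ρ.naturality (valHom t) (uPt H ≫ i) ((1 : Coord H) ⊗ₜ[k] v)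
  rw [← Category.assoc, ← eq_ptMap_uPt, VecGrp.Wmap_tmul, map_one, hu, VecGrp.Wmap_tmul] at hn
  rw [← hn, TensorProduct.smul_tmul', smul_eq_mul, _root_.mul_one]

/-- equivariance at rational points is equivariance at all points -/
theorem equivariant_of_pts (i : H ⟶ G) {U : Type u} [AddCommGroup U] [Module k U] (σ : VecGrp.GMod H U)
    (φ : U →ₗ[k] V) (h : ∀ (z : Pts H) (x : U), φ (act σ z x) = act ρ (z ≫ i) (φ x))
    (B : Type u) [CommRing B] [Algebra k B] (t : VecGrp.pt k B ⟶ H) (x : B ⊗[k] U) :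
    φ.baseChange B (σ.ρ B t x) = ρ.ρ B (t ≫ i) (φ.baseChange B x) := by
  suffices H0 : (φ.baseChange B ∘ₗ (σ.ρ B t).toLinearMap : B ⊗[k] U →ₗ[B] B ⊗[k] V) =
      (ρ.ρ B (t ≫ i)).toLinearMap ∘ₗ φ.baseChange B from LinearMap.congr_fun H0 x
  refine TensorProduct.AlgebraTensorModule.ext fun b u => ?_
  rw [show b ⊗ₜ[k] u = b • ((1 : B) ⊗ₜ[k] u) by rw [TensorProduct.smul_tmul', smul_eq_mul, _root_.mul_one],
    map_smul, map_smul]
  congr 1
  show φ.baseChange B (σ.ρ B t (1 ⊗ₜ u)) = ρ.ρ B (t ≫ i) (φ.baseChange B (1 ⊗ₜ u))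
  rw [LinearMap.baseChange_tmul]
  have hu : φ.baseChange (Coord H) (σ.ρ (Coord H) (uPt H) ((1 : Coord H) ⊗ₜ[k] u)) =
      ρ.ρ (Coord H) (uPt H ≫ i) ((1 : Coord H) ⊗ₜ[k] φ u) := by
    refine sub_eq_zero.1 (tensor_eq_zero fun z => ?_)
    rw [map_sub, map_sub, sub_eq_zero]
    have hn := ρ.naturality (valHom z) (uPt H ≫ i) ((1 : Coord H) ⊗ₜ[k] φ u)
    have hm := σ.naturality (valHom z) (uPt H) ((1 : Coord H) ⊗ₜ[k] u)
    rw [← Category.assoc, ← eq_ptMap_uPt, VecGrp.Wmap_tmul, map_one, ρ_one_tmul, ← h] at hn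
    rw [← eq_ptMap_uPt, VecGrp.Wmap_tmul, map_one, ρ_one_tmul] at hm
    have hb : (valHom z).toLinearMap.rTensor V
        (φ.baseChange (Coord H) (σ.ρ (Coord H) (uPt H) ((1 : Coord H) ⊗ₜ[k] u))) = (1 : k) ⊗ₜ[k] φ (act σ z u) :=
      (VecGrp.baseChange_natural φ (valHom z) _).trans ((congrArg (φ.baseChange k) hm).trans (by simp))
    exact (congrArg (TensorProduct.lid k V) (hb.trans hn.symm))
  have h1 := congrArg (VecGrp.Wmap (M := V) (valHom t)) hu
  rw [VecGrp.baseChange_natural, σ.naturality, ρ.naturality, ← Category.assoc, ← eq_ptMap_uPt, VecGrp.Wmap_tmul,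
    VecGrp.Wmap_tmul, map_one] at h1
  exact h1

end Module

section Fun

variable [IsAffine G.left]

/-- translation of functions by an algebra-valued point -/
def rtB {B : Type u} [CommRing B] [Algebra k B] (g : VecGrp.pt k B ⟶ G) : Coord G →ₐ[k] B ⊗[k] Coord G :=
  valHom ((VecGrp.ptMap (Algebra.TensorProduct.includeRight : Coord G →ₐ[k] B ⊗[k] Coord G) ≫ uPt G) *
    (VecGrp.ptMap (Algebra.TensorProduct.includeLeft : B →ₐ[k] B ⊗[k] Coord G) ≫ g))

/-- its linear extension -/
def TB {B : Type u} [CommRing B] [Algebra k B] (g : VecGrp.pt k B ⟶ G) : B ⊗[k] Coord G →ₐ[B] B ⊗[k] Coord G :=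
  Algebra.TensorProduct.lift (Algebra.ofId B (B ⊗[k] Coord G)) (rtB g) fun _ _ => Commute.all _ _

theorem TB_tmul {B : Type u} [CommRing B] [Algebra k B] (g : VecGrp.pt k B ⟶ G) (b : B) (a : Coord G) :
    TB g (b ⊗ₜ a) = b • rtB g a := by
  rw [TB, Algebra.TensorProduct.lift_tmul, Algebra.smul_def]
  rfl

theorem TB_mul {B : Type u} [CommRing B] [Algebra k B] (g h : VecGrp.pt k B ⟶ G) (a : Coord G) :
    TB g (rtB h a) = rtB (g * h) a := by
  have eR : ((TB g).restrictScalars k).comp (Algebra.TensorProduct.includeRight : Coord G →ₐ[k] B ⊗[k] Coord G) = rtB g :=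
    AlgHom.ext fun c => (TB_tmul g 1 c).trans (one_smul _ _)
  have eL : ((TB g).restrictScalars k).comp (Algebra.TensorProduct.includeLeft : B →ₐ[k] B ⊗[k] Coord G) =
      (Algebra.TensorProduct.includeLeft : B →ₐ[k] B ⊗[k] Coord G) :=
    AlgHom.ext fun c => (TB g).commutes c
  have h1 : ((TB g).restrictScalars k).comp (rtB h) = rtB (g * h) := by
    rw [rtB, ← valHom_ptMap, MonObj.comp_mul, ← Category.assoc, ← Category.assoc, ← ptMap_comp, ← ptMap_comp, eR, eL]
    rw [rtB, ← eq_ptMap_uPt, rtB, MonObj.comp_mul, _root_.mul_assoc]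
  exact DFunLike.congr_fun h1 a

theorem rtB_one {B : Type u} [CommRing B] [Algebra k B] (a : Coord G) :
    rtB (1 : VecGrp.pt k B ⟶ G) a = (1 : B) ⊗ₜ a := by
  rw [rtB, MonObj.comp_one, _root_.mul_one, valHom_ptMap, AlgHom.comp_apply, valHom_uPt]
  rfl

variable [IsAlgClosed k] [Smooth G.hom] (W : Submodule k (Coord G))

/-- the base change of the inclusion -/
abbrev jW (B : Type u) [CommRing B] [Algebra k B] : B ⊗[k] W →ₗ[B] B ⊗[k] Coord G := W.subtype.baseChange B

theorem jW_injective (B : Type u) [CommRing B] [Algebra k B] : Function.Injective (jW W B) :=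
  Module.Flat.lTensor_preserves_injective_linearMap (M := B) W.subtype W.injective_subtype

theorem rtB_natural {B B' : Type u} [CommRing B] [Algebra k B] [CommRing B'] [Algebra k B'] (φ : B →ₐ[k] B')
    (g : VecGrp.pt k B ⟶ G) (a : Coord G) :
    φ.toLinearMap.rTensor (Coord G) (rtB g a) = rtB (VecGrp.ptMap φ ≫ g) a := by
  let ψ : B ⊗[k] Coord G →ₐ[k] B' ⊗[k] Coord G := Algebra.TensorProduct.map φ (AlgHom.id k (Coord G))
  have e : ∀ w, φ.toLinearMap.rTensor (Coord G) w = ψ w := by
    intro w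
    induction w with
    | zero => simp
    | add x y hx hy => simp only [map_add, hx, hy]
    | tmul x y => simp [ψ]
  have eR : ψ.comp (Algebra.TensorProduct.includeRight : Coord G →ₐ[k] B ⊗[k] Coord G) = Algebra.TensorProduct.includeRight :=
    AlgHom.ext fun c => by simp [ψ]
  have eL : ψ.comp (Algebra.TensorProduct.includeLeft : B →ₐ[k] B ⊗[k] Coord G) =
      (Algebra.TensorProduct.includeLeft : B' →ₐ[k] B' ⊗[k] Coord G).comp φ :=
    AlgHom.ext fun c => by simp [ψ]
  have h1 : ψ.comp (rtB g) = rtB (VecGrp.ptMap φ ≫ g) := by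
    rw [rtB, ← valHom_ptMap, MonObj.comp_mul, ← Category.assoc, ← Category.assoc, ← ptMap_comp, ← ptMap_comp, eR, eL,
      ptMap_comp, Category.assoc]
    rfl
  rw [e]
  exact DFunLike.congr_fun h1 a

theorem rtB_pt (g : Pts G) (a : Coord G) : TensorProduct.lid k (Coord G) (rtB g a) = Rt g a := by
  let l : k ⊗[k] Coord G →ₐ[k] Coord G := (Algebra.TensorProduct.lid k (Coord G)).toAlgHom
  have eR : l.comp (Algebra.TensorProduct.includeRight : Coord G →ₐ[k] k ⊗[k] Coord G) = AlgHom.id k _ :=
    AlgHom.ext fun c => by simp [l]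
  have eL : l.comp (Algebra.TensorProduct.includeLeft : k →ₐ[k] k ⊗[k] Coord G) = Algebra.ofId k (Coord G) :=
    Subsingleton.elim _ _
  have h1 : l.comp (rtB g) = Rt g := by
    rw [rtB, Rt, ← valHom_ptMap, MonObj.comp_mul, ← Category.assoc, ← Category.assoc, ← ptMap_comp, ← ptMap_comp, eR, eL,
      ptMap_id, Category.id_comp]
  exact DFunLike.congr_fun h1 a

variable {W} (hW : ∀ g, ∀ f ∈ W, Rt g f ∈ W)

include hW in
theorem rtB_mem {B : Type u} [CommRing B] [Algebra k B] (g : VecGrp.pt k B ⟶ G) (x : B ⊗[k] W) :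
    TB g (jW W B x) ∈ LinearMap.range (jW W B) := by
  induction x with
  | zero => simp
  | add x y hx hy => rw [map_add, map_add]; exact add_mem hx hy
  | tmul b w =>
    rw [LinearMap.baseChange_tmul, TB_tmul]
    refine Submodule.smul_mem _ _ ?_
    have hu : W.mkQ.lTensor (Coord G) (rtB (uPt G) (w : Coord G)) = 0 := by
      refine tensor_eq_zero fun z => ?_
      rw [show (valHom z).toLinearMap.rTensor (Coord G ⧸ W) (W.mkQ.lTensor (Coord G) (rtB (uPt G) (w : Coord G))) =
          W.mkQ.lTensor k ((valHom z).toLinearMap.rTensor (Coord G) (rtB (uPt G) (w : Coord G))) from by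
            rw [← LinearMap.comp_apply, ← LinearMap.comp_apply (W.mkQ.lTensor k),
              LinearMap.rTensor_comp_lTensor, LinearMap.lTensor_comp_rTensor],
        rtB_natural, ← eq_ptMap_uPt, ← (TensorProduct.lid k (Coord G)).symm_apply_apply (rtB z (w : Coord G)), rtB_pt]
      simp [(Submodule.Quotient.mk_eq_zero W).2 (hW z _ w.2)]
    have hB : W.mkQ.lTensor B (rtB g (w : Coord G)) = 0 := by
      rw [eq_ptMap_uPt g, ← rtB_natural, ← LinearMap.comp_apply, LinearMap.lTensor_comp_rTensor,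
        ← LinearMap.rTensor_comp_lTensor, LinearMap.comp_apply, hu, map_zero]
    obtain ⟨y, hy⟩ := (lTensor_exact B (LinearMap.exact_subtype_mkQ W) W.mkQ_surjective _).1 hB
    exact ⟨y, hy⟩

/-- the endomorphism of a translation stable space -/
def endW {B : Type u} [CommRing B] [Algebra k B] (g : VecGrp.pt k B ⟶ G) : B ⊗[k] W →ₗ[B] B ⊗[k] W :=
  (LinearEquiv.ofInjective (jW W B) (jW_injective W B)).symm.toLinearMap ∘ₗ
    ((TB g).toLinearMap ∘ₗ jW W B).codRestrict (LinearMap.range (jW W B)) (fun x => rtB_mem hW g x)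

theorem jW_endW {B : Type u} [CommRing B] [Algebra k B] (g : VecGrp.pt k B ⟶ G) (x : B ⊗[k] W) :
    jW W B (endW hW g x) = TB g (jW W B x) :=
  congrArg Subtype.val ((LinearEquiv.ofInjective (jW W B) (jW_injective W B)).apply_symm_apply _)

/-- as a homomorphism -/
def endHom (B : Type u) [CommRing B] [Algebra k B] : (VecGrp.pt k B ⟶ G) →* Module.End B (B ⊗[k] W) where
  toFun g := endW hW g
  map_one' := LinearMap.ext fun x => jW_injective W B (by
    rw [jW_endW, Module.End.one_apply]
    induction x with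
    | zero => simp
    | add x y hx hy => simp only [map_add, hx, hy]
    | tmul b w => rw [LinearMap.baseChange_tmul, TB_tmul, rtB_one, TensorProduct.smul_tmul', smul_eq_mul, _root_.mul_one])
  map_mul' g h := LinearMap.ext fun x => jW_injective W B (by
    rw [Module.End.mul_apply, jW_endW, jW_endW, jW_endW]
    induction x with
    | zero => simp
    | add x y hx hy => simp only [map_add, hx, hy]
    | tmul b w => rw [LinearMap.baseChange_tmul, TB_tmul, TB_tmul, map_smul, TB_mul])

/-- right translation on a stable space, as a rational module -/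
def funMod : VecGrp.GMod G W where
  ρ B _ _ := (LinearMap.GeneralLinearGroup.generalLinearEquiv B (B ⊗[k] W)).toMonoidHom.comp (endHom hW B).toHomUnits
  naturality {B B'} _ _ _ _ φ g x := by
    show φ.toLinearMap.rTensor W (endW hW g x) = endW hW (VecGrp.ptMap φ ≫ g) (φ.toLinearMap.rTensor W x)
    refine jW_injective W B' ?_
    rw [jW_endW]
    have e : ∀ y : B ⊗[k] W, jW W B' (φ.toLinearMap.rTensor W y) = φ.toLinearMap.rTensor (Coord G) (jW W B y) :=
      fun y => (VecGrp.baseChange_natural W.subtype φ y).symm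
    rw [e, e, jW_endW]
    generalize jW W B x = y
    induction y with
    | zero => simp
    | add x y hx hy => simp only [map_add, hx, hy]
    | tmul b a =>
      rw [TB_tmul, LinearMap.rTensor_tmul, TB_tmul, ← rtB_natural]
      exact VecGrp.Wmap_smul φ b _

theorem act_funMod (g : Pts G) (w : W) : (act (funMod hW) g w : Coord G) = Rt g w := by
  show W.subtype (TensorProduct.lid k W (endW hW g ((1 : k) ⊗ₜ w))) = _
  have e : ∀ y : k ⊗[k] W, W.subtype (TensorProduct.lid k W y) = TensorProduct.lid k (Coord G) (jW W k y) := by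
    intro y
    induction y with
    | zero => simp
    | add x y hx hy => simp only [map_add, hx, hy]
    | tmul b a => simp
  rw [e, jW_endW, LinearMap.baseChange_tmul, TB_tmul, one_smul]
  exact rtB_pt g _

end Fun

section Pi

variable {V : Type u} [AddCommGroup V] [Module k V] (ρ : VecGrp.GMod G V) (J : Type u) [Fintype J] [DecidableEq J]

/-- finitely many copies of a rational module -/
def piMod : VecGrp.GMod G (J → V) where
  ρ B _ _ :=
    { toFun := fun g => (TensorProduct.piRight k B B (fun _ : J => V)).trans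
        ((LinearEquiv.piCongrRight fun _ => ρ.ρ B g).trans (TensorProduct.piRight k B B (fun _ : J => V)).symm)
      map_one' := LinearEquiv.ext fun x => by
        apply (TensorProduct.piRight k B B (fun _ : J => V)).injective
        funext j
        simp
      map_mul' := fun g h => LinearEquiv.ext fun x => by
        apply (TensorProduct.piRight k B B (fun _ : J => V)).injective
        funext j
        simp only [map_mul, LinearEquiv.mul_apply, LinearEquiv.trans_apply, LinearEquiv.apply_symm_apply,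
          LinearEquiv.piCongrRight_apply] }
  naturality {B B'} _ _ _ _ φ g x := by
    apply (TensorProduct.piRight k B' B' (fun _ : J => V)).injective
    have e : ∀ (y : B ⊗[k] (J → V)) (j : J), TensorProduct.piRight k B' B' (fun _ : J => V) (VecGrp.Wmap φ y) j =
        VecGrp.Wmap φ (TensorProduct.piRight k B B (fun _ : J => V) y j) := by
      intro y j
      induction y with
      | zero => simp
      | add x y hx hy => simp only [map_add, Pi.add_apply, hx, hy]
      | tmul b a => simp
    funext j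
    rw [e]
    simp only [MonoidHom.coe_mk, OneHom.coe_mk, LinearEquiv.trans_apply, LinearEquiv.apply_symm_apply,
      LinearEquiv.piCongrRight_apply, e]
    exact ρ.naturality φ g _

theorem act_piMod (g : Pts G) (v : J → V) (j : J) : act (piMod ρ J) g v j = act ρ g (v j) := by
  show (TensorProduct.lid k (J → V) ((piMod ρ J).ρ k g ((1 : k) ⊗ₜ v))) j = _
  have e : ∀ y : k ⊗[k] (J → V), TensorProduct.lid k (J → V) y j =
      TensorProduct.lid k V (TensorProduct.piRight k k k (fun _ : J => V) y j) := by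
    intro y
    induction y with
    | zero => simp
    | add x y hx hy => simp only [map_add, Pi.add_apply, hx, hy]
    | tmul b a => simp
  rw [e]
  simp [piMod, act]

end Pi

end Groth.Agent.AGFObs
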