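import Groth.Agent.AGFObs.Basic
import Groth.Agent.Borel50.NoUnip
import Groth.Agent.AffGrp.Bridge
import Groth.Agent.LieUnip.Points
import Groth.Agent.Comod.QuotAffine
import Groth.Agent.S5423
import Groth.Agent.S3264

/-!
A non-trivial connected group without subtori has a non-zero additive function.
-/

set_option autoImplicit false

universe u

noncomputable section

open CategoryTheory MonoidalCategory CartesianMonoidalCategory MonObj GrpObj AlgebraicGeometry Limits
open scoped TensorProduct
open Groth.Agent.AGFPoints.Basic Groth.Agent.AGFLang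

namespace Groth.Agent.AGFObs.Additive

open Groth.Agent.Borel50 Groth.Agent.Borel50.Pts Groth.Agent.Borel50.Lin Groth.Agent.Borel50.Density WithConv

attribute [local instance] ptTop

variable {k : Type u} [Field k] [IsAlgClosed k] {U : Over (Spec (CommRingCat.of k))} [GrpObj U] [IsAffine U.left]
  [Smooth U.hom] [ConnectedSpace U.left]

/-- without subtori there is no torsion prime to the characteristic -/
theorem no_torsion (hU : Red.HasNoSubtorus k U) {n : ℕ} (hn : (n : k) ≠ 0) {x : Pt U} (hx : x ^ n = 1) : x = 1 := by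
  classical
  have := FixedPt.qc_G U
  obtain ⟨B, _, iB, hB⟩ := Conj.exists_borel U
  have := hB.1
  have := hB.2.1
  have := hB.2.2.1
  have := hB.2.2.2.1
  have : IsAffine B.left := isAffine_of_isAffineHom iB.left
  have := FixedPt.qc_G B
  have := GrpScheme.HomFlat.isReduced_of_smooth B.hom
  have := preconnectedSpace_pt (G := B)
  obtain ⟨M, ⟨Φ₀⟩⟩ := exists_rep (G := B)
  obtain ⟨d, hd⟩ := Solvable.points_of_isSolvableGrp hB.2.2.2.2.1
  obtain ⟨P, Q, hQP, hup⟩ := Φ₀.exists_upper hd
  let Φ := Φ₀.conj P Q hQP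
  obtain ⟨T, hT, hcov⟩ := Φ.exists_toral_lift hup
  obtain ⟨K, _, j, _, _, hjc, hK, hr⟩ := Lin.Torus.exists_torus hT
  have : Mono iB := Over.mono_of_mono_left iB
  have htriv : IsIso K.hom := hU K (j ≫ iB) hK
  have hT1 : ∀ t ∈ T, t = 1 := fun t ht => by
    rw [← hr] at ht
    obtain ⟨w, rfl⟩ := ht
    have hw : w = 1 := Over.OverMorphism.ext ((cancel_mono K.hom).1 (by rw [Over.w, Over.w]))
    rw [hw, map_one]
  have hdiag : ∀ y : Pt B, y ∈ Φ.unipotent hup 1 := fun y => by
    obtain ⟨t, ht, he⟩ := hcov y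
    refine Φ.mem_unipotent_of_diag ?_
    rw [← he, hT1 t ht, map_one]
  have hnil := Φ.upperCentralSeries_eq_top hup T (fun t ht y => by rw [hT1 t ht, _root_.one_mul, _root_.mul_one]) hcov
  have : IsIso iB := Nilp.isIso_of_nilpotent_borel _ U B iB hB hnil
  have hy : (x ≫ inv iB) ^ n = 1 := ptHom_injective iB (by
    rw [map_pow, map_one]
    show ((x ≫ inv iB) ≫ iB) ^ n = 1
    rw [Category.assoc, IsIso.inv_hom_id, Category.comp_id, hx])
  have := Φ.eq_one_of_unipotent_torsion hup hn (hdiag _) hy
  rw [← Category.comp_id x, ← IsIso.inv_hom_id iB, ← Category.assoc, this]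
  exact MonObj.one_comp iB

/-- a non-trivial connected group without subtori has a non-zero additive function -/
theorem exists_additive (hU : Red.HasNoSubtorus k U) (hne : ∃ z : Pts U, z ≠ 1) :
    ∃ a : Coord U, a ≠ 0 ∧ ∀ z w : Pts U, valHom (z * w) a = valHom z a + valHom w a := by
  classical
  obtain ⟨A, hA, e, he⟩ := AffGrp.Bridge.exists_iso (R := CommRingCat.of k) U
  let S := (Spec A).asOver (Spec (CommRingCat.of k))
  have : IsIso e.hom.left := inferInstanceAs (IsIso ((Over.forget _).map e.hom))
  have : AlgebraicGeometry.IsReduced (Spec A) := by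
    have := GrpScheme.HomFlat.isReduced_of_smooth U.hom
    let φ : Spec A ⟶ U.left := e.hom.left
    have : IsIso φ := ‹IsIso e.hom.left›
    exact isReduced_of_isOpenImmersion φ
  have : _root_.IsReduced A := (affine_isReduced_iff A).1 inferInstance
  have : Algebra.FiniteType k A := by
    have h : LocallyOfFiniteType S.hom := by rw [← Over.w e.hom]; infer_instance
    have h' : LocallyOfFiniteType (Spec.map (CommRingCat.ofHom (algebraMap k A))) := h
    rw [HasRingHomProperty.Spec_iff (P := @LocallyOfFiniteType)] at h'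
    exact RingHom.finiteType_algebraMap.1 h'
  let ee : (Spec (CommRingCat.of k)).asOver (Spec (CommRingCat.of k)) ≅ 𝟙_ (Over (Spec (CommRingCat.of k))) :=
    Over.isoMk (Iso.refl _) (by
      show 𝟙 _ ≫ 𝟙 _ = Spec.map (CommRingCat.ofHom (algebraMap k k))
      simp)
  let φ : Pt U ≃* WithConv (A →ₐ[k] k) :=
    { toFun := fun g => Spec.mapMulEquiv.symm (ee.hom ≫ g ≫ e.inv)
      invFun := fun w => ee.inv ≫ Spec.mapMulEquiv w ≫ e.hom
      left_inv := fun g => by simp
      right_inv := fun w => by
        show Spec.mapMulEquiv.symm (ee.hom ≫ (ee.inv ≫ Spec.mapMulEquiv w ≫ e.hom) ≫ e.inv) = w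
        simp
      map_mul' := fun g h => by
        rw [← map_mul, ← MonObj.comp_mul, ← MonObj.mul_comp] }
  let e0 : VecGrp.pt k k ≅ 𝟙_ (Over (Spec (CommRingCat.of k))) :=
    Over.isoMk (Iso.refl _) (by
      show 𝟙 _ ≫ 𝟙 _ = Spec.map (CommRingCat.ofHom (algebraMap k k))
      simp)
  let ψ : Pts U ≃* Pt U :=
    { toFun := fun g => e0.inv ≫ g
      invFun := fun g => e0.hom ≫ g
      left_inv := fun g => by simp
      right_inv := fun g => by simp
      map_mul' := fun g h => MonObj.comp_mul _ _ _ }
  have hunip : HopfRep.IsUnipotent k A := (Groth.Agent.S5423.result k A).2 fun g V _ _ _ _ => by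
    by_contra hg
    obtain ⟨ℓ, hℓ, hℓk, f, hf⟩ := LieUnip.exists_mu_of_not_nilpotent g V hg
    have : Fact ℓ.Prime := ⟨hℓ⟩
    haveI : NeZero ℓ := ⟨hℓ.ne_zero⟩
    haveI : NeZero (ℓ : k) := ⟨hℓk⟩
    obtain ⟨ζ, hζ⟩ := HasEnoughRootsOfUnity.exists_primitiveRoot k ℓ
    let c : Multiplicative (ZMod ℓ) →* k := (AddChar.zmodChar ℓ hζ.pow_eq_one).toMonoidHom
    let χ : MonoidAlgebra k (Multiplicative (ZMod ℓ)) →ₐ[k] k := MonoidAlgebra.lift k k _ c
    let w : WithConv (A →ₐ[k] k) := toConv (χ.comp (f : A →ₐ[k] MonoidAlgebra k (Multiplicative (ZMod ℓ))))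
    have hpow : ∀ m : ℕ, w ^ m = toConv ((MonoidAlgebra.lift k k _ (c ^ m)).comp
        (f : A →ₐ[k] MonoidAlgebra k (Multiplicative (ZMod ℓ)))) := by
      intro m
      induction m with
      | zero =>
        rw [pow_zero, pow_zero]
        refine WithConv.ofConv_injective (AlgHom.ext fun a => ?_)
        show Bialgebra.counitAlgHom k A a = MonoidAlgebra.lift k k _ (1 : Multiplicative (ZMod ℓ) →* k) (f a)
        rw [Bialgebra.counitAlgHom_apply, ← CoalgHomClass.counit_comp_apply f a]
        generalize f a = z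
        induction z using MonoidAlgebra.induction_linear with
        | zero => simp
        | add x y hx hy => simp only [map_add, hx, hy]
        | single m r => simp
      | succ m ih =>
        rw [pow_succ, ih, pow_succ]
        refine WithConv.ofConv_injective ?_
        have hd := AlgHom.convMul_comp_bialgHom_distrib (toConv (MonoidAlgebra.lift k k _ (c ^ m)))
          (toConv χ) f
        refine (show _ = _ from hd.symm).trans ?_
        refine congrArg (fun t : MonoidAlgebra k (Multiplicative (ZMod ℓ)) →ₐ[k] k => t.comp _) ?_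
        apply MonoidAlgebra.algHom_ext
        case single_one_left => exact Subsingleton.elim _ _
        intro x
        rw [AlgHom.convMul_apply]
        simp [χ]
    have hw : w ^ ℓ = 1 := by
      rw [hpow, ← pow_zero w, hpow]
      congr 3
      refine MonoidHom.ext fun x => ?_
      rw [MonoidHom.pow_apply, pow_zero, MonoidHom.one_apply]
      obtain ⟨x, rfl⟩ := Multiplicative.ofAdd.surjective x
      show (AddChar.zmodChar ℓ hζ.pow_eq_one x) ^ ℓ = 1
      rw [AddChar.zmodChar_apply, ← pow_mul, mul_comm, pow_mul, hζ.pow_eq_one, one_pow]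
    have h1 : φ.symm w = 1 := no_torsion hU hℓk (by rw [← map_pow, hw, map_one])
    have hw1 : w = 1 := by rw [← φ.apply_symm_apply w, h1, map_one]
    rw [← pow_one w, ← pow_zero w, hpow, hpow] at hw1
    obtain ⟨a, ha⟩ := hf (MonoidAlgebra.single (Multiplicative.ofAdd (1 : ZMod ℓ)) 1)
    have := DFunLike.congr_fun (congrArg WithConv.ofConv hw1) a
    simp only [AlgHom.comp_apply] at this
    rw [show (f : A →ₐ[k] MonoidAlgebra k (Multiplicative (ZMod ℓ))) a = f a from rfl, ha] at this
    simp only [MonoidAlgebra.lift_single, one_smul, pow_one, pow_zero, MonoidHom.one_apply] at this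
    refine hζ.ne_one hℓ.one_lt ?_
    have e1 : c (Multiplicative.ofAdd (1 : ZMod ℓ)) = ζ := by
      show AddChar.zmodChar ℓ hζ.pow_eq_one 1 = ζ
      rw [AddChar.zmodChar_apply, ZMod.val_one, pow_one]
    rw [← e1, this]
  haveI hI : (RingHom.ker (BialgHom.id k A : A →+* A)).IsHopfIdeal k := H85.UnipTest.isHopfIdeal_ker (BialgHom.id k A)
  have hker : RingHom.ker (BialgHom.id k A : A →+* A) = ⊥ := (RingHom.injective_iff_ker_eq_bot _).1 fun _ _ h => h
  have hIne : RingHom.ker (BialgHom.id k A : A →+* A) ≠ RingHom.ker (Bialgebra.counitAlgHom k A) := fun h => by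
    rw [hker] at h
    obtain ⟨z, hz⟩ := hne
    refine hz ((ψ.trans φ).injective ?_)
    rw [map_one]
    refine WithConv.ofConv_injective (AlgHom.ext fun a => ?_)
    have ha : a - algebraMap k A (Bialgebra.counitAlgHom k A a) ∈ RingHom.ker (Bialgebra.counitAlgHom k A) := by
      simp [RingHom.mem_ker, -Bialgebra.counitAlgHom_apply]
    rw [← h, Ideal.mem_bot, sub_eq_zero] at ha
    conv_lhs => rw [ha, AlgHom.commutes]
    rfl
  obtain ⟨x, hx0, hx⟩ := (Groth.Agent.S3264.result k A).1 hunip _ hIne
  obtain ⟨x, rfl⟩ := Ideal.Quotient.mk_surjective x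
  have hadd : ∀ g h : A →ₐ[k] k, (toConv g * toConv h).ofConv x = g x + h x := fun g h => by
    have hle : RingHom.ker (BialgHom.id k A : A →+* A) ≤ ⊥ := hker.le
    let π : A ⧸ RingHom.ker (BialgHom.id k A : A →+* A) →ₐ[k] A :=
      Ideal.Quotient.liftₐ _ (AlgHom.id k A) fun a ha => hle ha
    have hπ := congrArg (Algebra.TensorProduct.map (g.comp π) (h.comp π)) hx
    rw [map_add, Algebra.TensorProduct.map_tmul, Algebra.TensorProduct.map_tmul, map_one, map_one,
      Bialgebra.Quotient.comul_mk] at hπ
    rw [AlgHom.convMul_apply]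
    have key : ∀ z : A ⊗[k] A, LinearMap.mul' k k (Algebra.TensorProduct.map (g.comp π) (h.comp π)
        (TensorProduct.map (Bialgebra.Quotient.mkBialgHom (R := k) (RingHom.ker (BialgHom.id k A : A →+* A)) : A →ₗ[k] _)
          (Bialgebra.Quotient.mkBialgHom (R := k) (RingHom.ker (BialgHom.id k A : A →+* A)) : A →ₗ[k] _) z)) =
        Algebra.TensorProduct.lift g h (fun _ _ => Commute.all _ _) z := fun z => by
      induction z with
      | zero => simp
      | tmul a b => simp [π]
      | add a b ha hb => simp only [map_add, ha, hb]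
    refine ((key _).symm.trans (congrArg (LinearMap.mul' k k) hπ)).trans ?_
    simp [π]
  let a : Coord U := e.inv.left.appTop (Comod.QuotAffine.glob x)
  have hval : ∀ z : Pts U, valHom z a = ((ψ.trans φ) z).ofConv x := fun z => by
    let w := (ψ.trans φ) z
    have hz : (Spec.mapMulEquiv w).left = (z ≫ e.inv).left := by
      show (Spec.mapMulEquiv (Spec.mapMulEquiv.symm (ee.hom ≫ (e0.inv ≫ z) ≫ e.inv))).left = _
      rw [MulEquiv.apply_symm_apply]
      simp [ee, e0]
      exact Category.id_comp _
    show (Scheme.ΓSpecIso (CommRingCat.of k)).hom (z.left.appTop (e.inv.left.appTop (Comod.QuotAffine.glob x))) = _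
    rw [show z.left.appTop (e.inv.left.appTop (Comod.QuotAffine.glob x)) = (z ≫ e.inv).left.appTop (Comod.QuotAffine.glob x)
      from rfl, ← hz]
    exact (congrArg (Scheme.ΓSpecIso (CommRingCat.of k)).hom (Comod.QuotAffine.appTop_glob w.ofConv.toRingHom x)).trans
      (Iso.inv_hom_id_apply (Scheme.ΓSpecIso (CommRingCat.of k)) _)
  refine ⟨a, fun h0 => hx0 ?_, fun z w => ?_⟩
  · have hall : ∀ g : WithConv (A →ₐ[k] k), g.ofConv x = 0 := fun g => by
      rw [← (ψ.trans φ).apply_symm_apply g, ← hval, h0, map_zero]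
    rw [show x = 0 from UnipLib.ext_pts (k := k) fun g => by rw [map_zero]; exact hall (toConv g), map_zero]
  · rw [hval, hval, hval, map_mul]
    exact hadd _ _

end Groth.Agent.AGFObs.Additive
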