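import Groth.Agent.AGFObs.Coact
import Groth.Agent.AGFQuot.Basic
import Groth.Agent.Comod.QuotAffine
import Groth.Prelude.Def_AGF
import Mathlib.AlgebraicGeometry.AlgClosed.Basic

/-!
Quotients by subgroups with separating invariants are affine.
-/

set_option autoImplicit false

universe u

noncomputable section

open CategoryTheory MonoidalCategory CartesianMonoidalCategory MonObj GrpObj AlgebraicGeometry
open scoped TensorProduct
open Groth.Agent.AGFPoints.Basic Groth.Agent.AGFLang Groth.Agent.Comod.QuotAffine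

namespace Groth.Agent.AGFObs

variable {k : Type u} [Field k] {G : Over (Spec (CommRingCat.of k))}

/-- the underlying point of a rational point -/
def pz (x : Pts G) : G.left := x.left.base (IsLocalRing.closedPoint k)

theorem mem_basicOpen_iff (x : Pts G) (f : Coord G) :
    pz x ∈ G.left.basicOpen (U := ⊤) f ↔ valHom x f ≠ 0 := by
  show IsLocalRing.closedPoint k ∈ x.left ⁻¹ᵁ G.left.basicOpen (U := ⊤) f ↔ _
  rw [Scheme.preimage_basicOpen_top]
  refine (Iff.of_eq (congrArg (IsLocalRing.closedPoint k ∈ ·) (basicOpen_eq_of_affine' (R := CommRingCat.of k) _))).trans ?_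
  show valHom x f ∉ IsLocalRing.maximalIdeal k ↔ _
  rw [IsLocalRing.maximalIdeal_eq_bot, Ideal.mem_bot]

variable [IsAlgClosed k] [LocallyOfFiniteType G.hom]

/-- a non-empty locally closed set contains a rational point -/
theorem exists_pz {V Z : Set G.left} (hV : IsOpen V) (hZ : IsClosed Z) (h : (V ∩ Z).Nonempty) :
    ∃ x : Pts G, pz x ∈ V ∧ pz x ∈ Z := by
  have : JacobsonSpace G.left := LocallyOfFiniteType.jacobsonSpace G.hom
  obtain ⟨p, hp, hpc⟩ := nonempty_inter_closedPoints h (hV.isLocallyClosed.inter hZ.isLocallyClosed)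
  refine ⟨Over.homMk (pointOfClosedPoint G.hom p hpc) ?_, ?_⟩
  · rw [pointOfClosedPoint_comp]
    show 𝟙 (Spec (CommRingCat.of k)) = Spec.map (CommRingCat.ofHom (algebraMap k k))
    rw [Algebra.algebraMap_self, CommRingCat.ofHom_id, Spec.map_id]
  · show pointOfClosedPoint G.hom p hpc (IsLocalRing.closedPoint k) ∈ V ∧
      pointOfClosedPoint G.hom p hpc (IsLocalRing.closedPoint k) ∈ Z
    rw [pointOfClosedPoint_apply]
    exact hp

variable [IsAffine G.left]

/-- functions vanishing at the rational points of a set -/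
def vI (Z : Set G.left) : Ideal (Coord G) := ⨅ (x : Pts G) (_ : pz x ∈ Z), RingHom.ker (valHom x)

omit [IsAlgClosed k] [LocallyOfFiniteType G.hom] [IsAffine G.left] in
theorem mem_vI {Z : Set G.left} {f : Coord G} : f ∈ vI Z ↔ ∀ x : Pts G, pz x ∈ Z → valHom x f = 0 := by
  simp [vI, Submodule.mem_iInf, -valHom_apply]

omit [IsAlgClosed k] [LocallyOfFiniteType G.hom] [IsAffine G.left] in
theorem vI_isRadical (Z : Set G.left) : (vI Z).IsRadical := fun f ⟨n, hn⟩ =>
  mem_vI.2 fun x hx => eq_zero_of_pow_eq_zero (n := n) (by rw [← map_pow]; exact mem_vI.1 hn x hx)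

omit [IsAlgClosed k] [LocallyOfFiniteType G.hom] in
theorem mem_of_vI {Z : Set G.left} (hZ : IsClosed Z) {x : Pts G} (hx : ∀ f ∈ vI Z, valHom x f = 0) : pz x ∈ Z := by
  by_contra hxZ
  obtain ⟨f, hle, hxf⟩ := (isAffineOpen_top G.left).exists_basicOpen_le (V := ⟨Zᶜ, hZ.isOpen_compl⟩) ⟨pz x, hxZ⟩ trivial
  refine (mem_basicOpen_iff x f).1 hxf (hx f (mem_vI.2 fun y hy => ?_))
  by_contra h0
  exact hle ((mem_basicOpen_iff y f).2 h0) hy

variable [Smooth G.hom] [GrpObj G] {H : Over (Spec (CommRingCat.of k))} [GrpObj H] [Smooth H.hom] (i : H ⟶ G) [IsMonHom i]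
  [IsClosedImmersion i.left] {X : Over (Spec (CommRingCat.of k))} (q : G ⟶ X)
  (hpb : IsPullback (fst G H) ((G ◁ i) ≫ μ[G]) q q)

include hpb in
/-- invariant functions descend -/
theorem exists_desc [Surjective q.left] [Flat q.left] [LocallyOfFinitePresentation q.left] {f : Coord G}
    (hf : f ∈ Inv i) : ∃ c : Γ(X.left, ⊤), (q.left.appTop c : Coord G) = f := by
  let g := secHom (X := G.left) f
  have hcomp : ∀ {Z : Scheme.{u}} (g₁ g₂ : Z ⟶ G.left), g₁ ≫ q.left = g₂ ≫ q.left → g₁ ≫ g = g₂ ≫ g := by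
    intro Z g₁ g₂ h
    let T : Over (Spec (CommRingCat.of k)) := Over.mk (g₁ ≫ G.hom)
    let a₁ : T ⟶ G := Over.homMk g₁ rfl
    let a₂ : T ⟶ G := Over.homMk g₂ (show g₂ ≫ G.hom = g₁ ≫ G.hom by
      rw [← Over.w q, ← Category.assoc, ← Category.assoc, h])
    have ha : a₁ ≫ q = a₂ ≫ q := Over.OverMorphism.ext h
    have key : (fst G H).left ≫ g = ((G ◁ i) ≫ μ[G]).left ≫ g := by
      simp only [g, comp_secHom]
      exact congrArg secHom ((isRTransInv_iff_mem i f).2 hf).symm
    have e1 : g₁ = (hpb.lift a₁ a₂ ha).left ≫ (fst G H).left :=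
      (congrArg (fun m => m.left) (hpb.lift_fst a₁ a₂ ha)).symm
    have e2 : g₂ = (hpb.lift a₁ a₂ ha).left ≫ ((G ◁ i) ≫ μ[G]).left :=
      (congrArg (fun m => m.left) (hpb.lift_snd a₁ a₂ ha)).symm
    rw [e1, e2, Category.assoc, Category.assoc, key]
  refine ⟨coord (EffectiveEpi.desc q.left g fun g₁ g₂ h => hcomp g₁ g₂ h), ?_⟩
  rw [← coord_comp, EffectiveEpi.fac]
  exact coord_secHom _

include hpb in
/-- a quotient with separating invariants is affine -/
theorem isAffine_quot [Surjective q.left] [Flat q.left] [LocallyOfFinitePresentation q.left] [IsAffine H.left]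
    (hH : VecGrp.IsReductiveGrp k H) (thmAbi : AGF.ReductiveQuotSurj k) (thmAbiv : AGF.ReductiveQuotSeparates k) :
    IsAffine X.left := by
  classical
  have : _root_.IsReduced (Coord G) := isReduced (X := G)
  have : Algebra.FiniteType k (Coord G) := finiteType (X := G)
  let qs : G.left → X.left := fun P => q.left.base P
  have hqs : Continuous qs := q.left.continuous
  have hqsurj : Function.Surjective qs := q.left.surjective
  have : CompactSpace X.left := ⟨(Set.range_eq_univ.2 hqsurj) ▸ isCompact_range hqs⟩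
  have hfix : ∀ f : Coord G, f ∈ (regMod i).fixedSubalgebra (regMod_isMult i) (𝟙 H) ↔ f ∈ Inv i := fun f => by
    rw [mem_fixedSubalgebra_iff]
    constructor
    · intro h x g hg
      obtain ⟨z, rfl⟩ := hg
      have h1 := h z
      rw [Category.comp_id, act_regMod] at h1
      rw [← val_Rt, h1]
    · intro h z
      rw [Category.comp_id, act_regMod]
      exact ext_pts fun x => by rw [val_Rt]; exact h x _ ⟨z, rfl⟩
  have main : ∀ y : X.left, IsClosed ({y} : Set X.left) →
      ∃ c : Γ(X.left, ⊤), IsAffineOpen (X.left.basicOpen c) ∧ y ∈ X.left.basicOpen c := by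
    intro y hy
    obtain ⟨U, hU, hyU, -⟩ := exists_isAffineOpen_mem_and_subset (X := X.left) (x := y) (U := ⊤) trivial
    let Z : Set G.left := qs ⁻¹' (U : Set X.left)ᶜ
    let F : Set G.left := qs ⁻¹' {y}
    have hZ : IsClosed Z := U.isOpen.isClosed_compl.preimage hqs
    have hF : IsClosed F := hy.preimage hqs
    have hsat : ∀ S : Set X.left, ((vI (qs ⁻¹' S)).restrictScalars k : Submodule k (Coord G)) |>
        fun W => (regMod i).IsStable (𝟙 H) W := fun S => by
      refine stable_of_pts (regMod i) _ fun z f hf => ?_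
      rw [act_regMod]
      refine mem_vI.2 fun x hx => ?_
      rw [val_Rt]
      refine mem_vI.1 hf _ ?_
      have e : x ≫ q = (x * (z ≫ i)) ≫ q := (AGFQuot.Basic.comp_eq_iff hpb _ _).2 ⟨z, rfl⟩
      show ((x * (z ≫ i)) ≫ q).left.base _ ∈ S
      rw [← e]
      exact hx
    have htop : vI Z ⊔ vI F = ⊤ := by
      by_contra hne
      obtain ⟨M, hM, hle⟩ := Ideal.exists_le_maximal _ hne
      obtain ⟨x, hx⟩ := exists_pt M (hm := hM)
      have h1 : pz x ∈ Z := mem_of_vI hZ fun f hf => RingHom.mem_ker.1 (hx ▸ hle (Ideal.mem_sup_left hf))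
      have h2 : pz x ∈ F := mem_of_vI hF fun f hf => RingHom.mem_ker.1 (hx ▸ hle (Ideal.mem_sup_right hf))
      exact h1 ((show qs (pz x) = y from h2).symm ▸ hyU)
    have hsep := thmAbiv H hH (Coord G) (regMod i) (regMod_isMult i) (finiteType (X := G)) (vI Z) (vI F)
      (vI_isRadical Z) (vI_isRadical F) (hsat _) (hsat _) htop
    obtain ⟨a, ha, b, hb, hab⟩ := Submodule.mem_sup.1 ((Ideal.eq_top_iff_one _).1 hsep)
    have hab' : (a : Coord G) + b = 1 := congrArg Subtype.val hab
    obtain ⟨c, hc⟩ := exists_desc i q hpb ((hfix _).1 a.2)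
    have hmem : ∀ P : G.left, qs P ∈ X.left.basicOpen c ↔ P ∈ G.left.basicOpen (U := ⊤) (a : Coord G) := fun P => by
      show P ∈ q.left ⁻¹ᵁ X.left.basicOpen c ↔ _
      rw [Scheme.preimage_basicOpen_top]
      exact Iff.of_eq (congrArg (fun t => P ∈ G.left.basicOpen (U := ⊤) t) hc)
    have hle : X.left.basicOpen c ≤ U := by
      intro z hz
      obtain ⟨P, rfl⟩ := hqsurj z
      by_contra hPU
      obtain ⟨x, hx1, hx2⟩ := exists_pz (G.left.basicOpen (U := ⊤) (a : Coord G)).isOpen hZ ⟨P, (hmem P).1 hz, hPU⟩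
      exact (mem_basicOpen_iff x _).1 hx1 (mem_vI.1 ha x hx2)
    refine ⟨c, ?_, ?_⟩
    · have : X.left.basicOpen c = X.left.basicOpen (X.left.presheaf.map (homOfLE (le_top : U ≤ (⊤ : X.left.Opens))).op c) := by
        rw [Scheme.basicOpen_res]
        exact (inf_eq_right.2 hle).symm
      rw [this]
      exact hU.basicOpen _
    · obtain ⟨P, hP⟩ := hqsurj y
      obtain ⟨x, -, hxF⟩ := exists_pz isOpen_univ hF ⟨P, trivial, hP⟩
      rw [← show qs (pz x) = y from hxF]
      refine (hmem _).2 ((mem_basicOpen_iff x _).2 fun h0 => one_ne_zero (α := k) ?_)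
      rw [← map_one (valHom x), ← hab', map_add, h0, show valHom x (b : Coord G) = 0 from mem_vI.1 hb x hxF, add_zero]
  let s : Set Γ(X.left, ⊤) := {c | IsAffineOpen (X.left.basicOpen c)}
  refine isAffine_of_isAffineOpen_basicOpen s ?_ fun c hc => hc
  let toG : Γ(X.left, ⊤) →+* Coord G := q.left.appTop.hom
  have hinj : Function.Injective toG := by
    have : EffectiveEpi q.left := inferInstance
    exact appTop_injective q.left
  have hinv : ∀ c, toG c ∈ Inv i := fun c => (isRTransInv_iff_mem i _).1 <| by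
    show ((G ◁ i) ≫ μ[G]).left.appTop (q.left.appTop c) = (fst G H).left.appTop (q.left.appTop c)
    exact congrArg (fun m => m.left.appTop c) hpb.w.symm
  let ψ : Γ(X.left, ⊤) →+* ↥((regMod i).fixedSubalgebra (regMod_isMult i) (𝟙 H)) :=
    toG.codRestrict _ fun c => (hfix _).2 (hinv c)
  have hψ : Function.Bijective ψ := ⟨fun c d h => hinj (congrArg Subtype.val h), fun f => by
    obtain ⟨c, hc⟩ := exists_desc i q hpb ((hfix _).1 f.2)
    exact ⟨c, Subtype.ext hc⟩⟩
  by_contra hne
  have hne' : Ideal.map ψ (Ideal.span s) ≠ ⊤ := fun h => hne (by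
    rw [← Ideal.comap_map_of_bijective ψ hψ (I := Ideal.span s), h, Ideal.comap_top])
  obtain ⟨Q, hQ, hle⟩ := Ideal.exists_le_maximal _ hne'
  obtain ⟨p, hp, hpQ⟩ := thmAbi H hH (Coord G) (regMod i) (regMod_isMult i) (finiteType (X := G)) Q hQ.isPrime
  obtain ⟨M, hM, hpM⟩ := Ideal.exists_le_maximal _ hp.ne_top
  obtain ⟨x, hx⟩ := exists_pt M (hm := hM)
  have hz0 : ∀ c ∈ s, qs (pz x) ∉ X.left.basicOpen c := fun c hc hmem => by
    have h1 : toG c ∈ p := by
      have := hle (Ideal.mem_map_of_mem ψ (Ideal.subset_span hc))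
      rw [← hpQ] at this
      exact this
    have h2 : pz x ∈ q.left ⁻¹ᵁ X.left.basicOpen c := hmem
    rw [Scheme.preimage_basicOpen_top] at h2
    exact (mem_basicOpen_iff x _).1 h2 (RingHom.mem_ker.1 (hx ▸ hpM h1))
  obtain ⟨y, hy, hyc⟩ := (isClosed_closure (s := {qs (pz x)})).exists_closed_singleton ⟨_, subset_closure rfl⟩
  obtain ⟨c, hc, hyc'⟩ := main y hyc
  exact hz0 c hc ((specializes_iff_mem_closure.2 hy).mem_open (X.left.basicOpen c).isOpen hyc')

end Groth.Agent.AGFObs
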