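import Groth.Agent.AGFLang.Basic
import Groth.Agent.AGFHull.Reduced
import Mathlib

/-!
Linear algebraic groups over an algebraically closed field through rational points and functions.
-/

set_option autoImplicit false

universe u

noncomputable section

open CategoryTheory MonoidalCategory CartesianMonoidalCategory MonObj GrpObj AlgebraicGeometry
open scoped TensorProduct
open Groth.Agent.AGFPoints.Basic Groth.Agent.AGFLang

namespace Groth.Agent.AGFObs

variable {k : Type u} [Field k]

/-- rational points -/
abbrev Pts (X : Over (Spec (CommRingCat.of k))) : Type u := VecGrp.pt k k ⟶ X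

theorem valHom_uPt {X : Over (Spec (CommRingCat.of k))} [IsAffine X.left] (f : Coord X) : valHom (uPt X) f = f :=
  val_uPt f

section Reduced

variable [IsAlgClosed k] {X : Over (Spec (CommRingCat.of k))} [IsAffine X.left] [Smooth X.hom]

theorem smooth : Algebra.Smooth k (Coord X) := by
  have h := (HasRingHomProperty.iff_of_isAffine (P := @Smooth) (f := X.hom)).mp inferInstance
  exact (RingHom.Smooth.propertyIsLocal.respectsIso).2 X.hom.appTop.hom
    (Scheme.ΓSpecIso (CommRingCat.of k)).symm.commRingCatIsoToRingEquiv h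

theorem finiteType : Algebra.FiniteType k (Coord X) :=
  have := smooth (X := X)
  inferInstance

theorem exists_pt (m : Ideal (Coord X)) [hm : m.IsMaximal] :
    ∃ z : Pts X, RingHom.ker (valHom z) = m := by
  have := finiteType (X := X)
  letI := Ideal.Quotient.field m
  have : Module.Finite k (Coord X ⧸ m) := finite_of_finite_type_of_isJacobsonRing k _
  refine ⟨ofHom ((IsAlgClosed.lift : (Coord X ⧸ m) →ₐ[k] k).comp (Ideal.Quotient.mkₐ k m)), ?_⟩
  rw [valHom_ofHom]
  exact (RingHom.ker_comp_of_injective _ (IsAlgClosed.lift : (Coord X ⧸ m) →ₐ[k] k).toRingHom.injective).trans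
    Ideal.mk_ker

theorem isReduced : _root_.IsReduced (Coord X) :=
  have := smooth (X := X)
  AGFHull.isReduced_of_smooth k _

/-- a function vanishing at all rational points is zero -/
theorem eq_zero_of_pts {f : Coord X} (h : ∀ z : Pts X, valHom z f = 0) : f = 0 := by
  have := finiteType (X := X)
  have := isReduced (X := X)
  have : IsJacobsonRing (Coord X) := isJacobsonRing_of_finiteType (A := k)
  have h1 : f ∈ Ideal.jacobson (⊥ : Ideal (Coord X)) := by
    rw [Ideal.jacobson, Ideal.mem_sInf]
    rintro m ⟨-, hm⟩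
    obtain ⟨z, rfl⟩ := exists_pt m (hm := hm)
    exact h z
  rw [← Ideal.radical_eq_jacobson] at h1
  obtain ⟨n, hn⟩ := h1
  exact IsNilpotent.eq_zero ⟨n, hn⟩

theorem ext_pts {f g : Coord X} (h : ∀ z : Pts X, valHom z f = valHom z g) : f = g :=
  sub_eq_zero.1 (eq_zero_of_pts fun z => by rw [map_sub, h z, sub_self])

/-- a tensor vanishing at all rational points of the first factor is zero -/
theorem tensor_eq_zero {V : Type u} [AddCommGroup V] [Module k V] {w : Coord X ⊗[k] V}
    (h : ∀ z : Pts X, TensorProduct.lid k V ((valHom z).toLinearMap.rTensor V w) = 0) : w = 0 := by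
  obtain ⟨J, b⟩ : Σ J : Type u, Module.Basis J k V := ⟨_, Module.Basis.ofVectorSpace k V⟩
  classical
  refine (TensorProduct.equivFinsuppOfBasisRight b).injective (Finsupp.ext fun j => ?_)
  rw [map_zero, Finsupp.zero_apply]
  refine eq_zero_of_pts fun z => ?_
  have key : ∀ w : Coord X ⊗[k] V, valHom z (TensorProduct.equivFinsuppOfBasisRight b w j) =
      b.repr (TensorProduct.lid k V ((valHom z).toLinearMap.rTensor V w)) j := by
    intro w
    induction w with
    | zero => simp [-valHom_apply]
    | add x y hx hy => simp only [map_add, Finsupp.add_apply, hx, hy]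
    | tmul a v => simp [-valHom_apply]; ring
  rw [key, h z, map_zero, Finsupp.zero_apply]

end Reduced

section Comul

variable {G : Over (Spec (CommRingCat.of k))} [GrpObj G] [IsAffine G.left]

variable (G) in
/-- comultiplication -/
def comul : Coord G →ₐ[k] Coord G ⊗[k] Coord G :=
  valHom ((VecGrp.ptMap (Algebra.TensorProduct.includeLeft : Coord G →ₐ[k] Coord G ⊗[k] Coord G) ≫ uPt G) *
    (VecGrp.ptMap (Algebra.TensorProduct.includeRight : Coord G →ₐ[k] Coord G ⊗[k] Coord G) ≫ uPt G))

theorem valHom_mul {B : Type u} [CommRing B] [Algebra k B] (x y : VecGrp.pt k B ⟶ G) :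
    valHom (x * y) = (Algebra.TensorProduct.lift (valHom x) (valHom y) fun _ _ => Commute.all _ _).comp (comul G) := by
  have e1 : (Algebra.TensorProduct.lift (valHom x) (valHom y) fun _ _ => Commute.all _ _).comp
      (Algebra.TensorProduct.includeRight : Coord G →ₐ[k] Coord G ⊗[k] Coord G) = valHom y :=
    AlgHom.ext fun a => by simp
  rw [comul, ← valHom_ptMap, MonObj.comp_mul, ← Category.assoc, ← Category.assoc, ← ptMap_comp, ← ptMap_comp,
    Algebra.TensorProduct.lift_comp_includeLeft, e1]
  exact congrArg valHom (congrArg₂ (· * ·) (eq_ptMap_uPt x) (eq_ptMap_uPt y))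

/-- left translation: `L g f (x) = f (g x)` -/
def L (g : Pts G) : Coord G →ₐ[k] Coord G :=
  valHom ((VecGrp.ptMap (Algebra.ofId k (Coord G)) ≫ g) * uPt G)

/-- right translation: `R g f (x) = f (x g)` -/
def Rt (g : Pts G) : Coord G →ₐ[k] Coord G :=
  valHom (uPt G * (VecGrp.ptMap (Algebra.ofId k (Coord G)) ≫ g))

theorem ptMap_ofId_self (g : Pts G) : VecGrp.ptMap (Algebra.ofId k k) ≫ g = g := by
  rw [show Algebra.ofId k k = AlgHom.id k k from Subsingleton.elim _ _, ptMap_id, Category.id_comp]

theorem val_L (g x : Pts G) (f : Coord G) : valHom x (L g f) = valHom (g * x) f := by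
  rw [← AlgHom.comp_apply, L, ← valHom_ptMap, MonObj.comp_mul, ← Category.assoc, ← ptMap_comp, ← eq_ptMap_uPt,
    show (valHom x).comp (Algebra.ofId k (Coord G)) = Algebra.ofId k k from Subsingleton.elim _ _, ptMap_ofId_self]

theorem val_Rt (g x : Pts G) (f : Coord G) : valHom x (Rt g f) = valHom (x * g) f := by
  rw [← AlgHom.comp_apply, Rt, ← valHom_ptMap, MonObj.comp_mul, ← Category.assoc, ← ptMap_comp, ← eq_ptMap_uPt,
    show (valHom x).comp (Algebra.ofId k (Coord G)) = Algebra.ofId k k from Subsingleton.elim _ _, ptMap_ofId_self]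

theorem Rt_apply_eq (g : Pts G) (f : Coord G) :
    Rt g f = TensorProduct.rid k (Coord G) ((valHom g).toLinearMap.lTensor (Coord G) (comul G f)) := by
  rw [Rt, valHom_mul, AlgHom.comp_apply]
  generalize comul G f = w
  induction w with
  | zero => simp [-valHom_apply]
  | add x y hx hy => simp only [map_add, hx, hy]
  | tmul a b =>
    rw [Algebra.TensorProduct.lift_tmul, LinearMap.lTensor_tmul, TensorProduct.rid_tmul, valHom_uPt,
      valHom_ptMap, AlgHom.comp_apply, Algebra.ofId_apply, AlgHom.toLinearMap_apply, Algebra.smul_def, mul_comm]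

theorem L_apply_eq (g : Pts G) (f : Coord G) :
    L g f = TensorProduct.lid k (Coord G) ((valHom g).toLinearMap.rTensor (Coord G) (comul G f)) := by
  rw [L, valHom_mul, AlgHom.comp_apply]
  generalize comul G f = w
  induction w with
  | zero => simp [-valHom_apply]
  | add x y hx hy => simp only [map_add, hx, hy]
  | tmul a b =>
    rw [Algebra.TensorProduct.lift_tmul, LinearMap.rTensor_tmul, TensorProduct.lid_tmul]
    rw [valHom_ptMap, valHom_uPt, AlgHom.comp_apply, Algebra.ofId_apply, AlgHom.toLinearMap_apply, Algebra.smul_def]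

theorem exists_span_Rt (s : Finset (Coord G)) :
    ∃ W : Submodule k (Coord G), Module.Finite k W ∧ ∀ g, ∀ f ∈ s, Rt g f ∈ W := by
  classical
  choose S hS using fun f : Coord G => TensorProduct.exists_finset (comul G f)
  refine ⟨Submodule.span k (((s.biUnion S).image Prod.fst : Finset (Coord G)) : Set (Coord G)),
    Module.Finite.span_of_finite k (Finset.finite_toSet _), fun g f hf => ?_⟩
  rw [Rt_apply_eq, hS f, map_sum, map_sum]
  refine Submodule.sum_mem _ fun x hx => ?_
  rw [LinearMap.lTensor_tmul, TensorProduct.rid_tmul]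
  exact Submodule.smul_mem _ _ (Submodule.subset_span (Finset.mem_image_of_mem _ (Finset.mem_biUnion.2 ⟨f, hf, hx⟩)))

theorem exists_span_L (s : Finset (Coord G)) :
    ∃ W : Submodule k (Coord G), Module.Finite k W ∧ ∀ g, ∀ f ∈ s, L g f ∈ W := by
  classical
  choose S hS using fun f : Coord G => TensorProduct.exists_finset (comul G f)
  refine ⟨Submodule.span k (((s.biUnion S).image Prod.snd : Finset (Coord G)) : Set (Coord G)),
    Module.Finite.span_of_finite k (Finset.finite_toSet _), fun g f hf => ?_⟩
  rw [L_apply_eq, hS f, map_sum, map_sum]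
  refine Submodule.sum_mem _ fun x hx => ?_
  rw [LinearMap.rTensor_tmul, TensorProduct.lid_tmul]
  exact Submodule.smul_mem _ _ (Submodule.subset_span (Finset.mem_image_of_mem _ (Finset.mem_biUnion.2 ⟨f, hf, hx⟩)))

variable [IsAlgClosed k] [Smooth G.hom]

theorem Rt_Rt (g h : Pts G) (f : Coord G) : Rt g (Rt h f) = Rt (g * h) f :=
  ext_pts fun z => by rw [val_Rt, val_Rt, val_Rt, _root_.mul_assoc]

theorem L_L (g h : Pts G) (f : Coord G) : L g (L h f) = L (h * g) f :=
  ext_pts fun z => by rw [val_L, val_L, val_L, _root_.mul_assoc]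

theorem Rt_one (f : Coord G) : Rt (1 : Pts G) f = f :=
  ext_pts fun z => by rw [val_Rt, _root_.mul_one]

theorem L_one (f : Coord G) : L (1 : Pts G) f = f :=
  ext_pts fun z => by rw [val_L, _root_.one_mul]

/-- a finite set lies in a finite dimensional space stable under right translation -/
theorem exists_stable_Rt (s : Finset (Coord G)) :
    ∃ W : Submodule k (Coord G), Module.Finite k W ∧ (∀ f ∈ s, f ∈ W) ∧ ∀ g, ∀ f ∈ W, Rt g f ∈ W := by
  obtain ⟨W, hW, hW'⟩ := exists_span_Rt s
  let S : Set (Coord G) := {a | ∃ g, ∃ f ∈ s, Rt g f = a}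
  have hle : Submodule.span k S ≤ W := Submodule.span_le.2 (by rintro _ ⟨g, f, hf, rfl⟩; exact hW' g f hf)
  refine ⟨Submodule.span k S, Module.Finite.of_injective _ (Submodule.inclusion_injective hle),
    fun f hf => Submodule.subset_span ⟨1, f, hf, Rt_one f⟩, fun g f hf => ?_⟩
  have : Submodule.span k S ≤ (Submodule.span k S).comap (Rt g).toLinearMap := Submodule.span_le.2 (by
    rintro _ ⟨g', f', hf', rfl⟩
    exact Submodule.subset_span ⟨g * g', f', hf', (Rt_Rt g g' f').symm⟩)
  exact this hf

/-- invariance under right translation by a rational point -/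
theorem isRTransInv_pt_iff (g : Pts G) (f : Coord G) : AGF.IsRTransInv g f ↔ Rt g f = f := by
  have : IsAffine (VecGrp.pt k k).left := inferInstanceAs (IsAffine (Spec (CommRingCat.of k)))
  refine (isRTransInv_iff g f).trans ?_
  constructor
  · intro h
    have := h (Coord G) (uPt G) (VecGrp.ptMap (Algebra.ofId k (Coord G)))
    exact this.trans (val_uPt f)
  · intro h B _ _ x t
    have ht : t = VecGrp.ptMap (Algebra.ofId k B) := by
      refine Over.OverMorphism.ext ?_
      have h1 := Over.w t
      have e : (VecGrp.pt k k).hom = 𝟙 _ := by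
        change Spec.map (CommRingCat.ofHom (algebraMap k k)) = _
        rw [Algebra.algebraMap_self]
        exact Spec.map_id _
      rw [e, Category.comp_id] at h1
      exact h1
    subst ht
    have h1 := congrArg (valHom x) h
    rw [← AlgHom.comp_apply, Rt, ← valHom_ptMap, MonObj.comp_mul, ← Category.assoc, ← ptMap_comp, ← eq_ptMap_uPt,
      show (valHom x).comp (Algebra.ofId k (Coord G)) = Algebra.ofId k B from Subsingleton.elim _ _] at h1
    exact h1

end Comul

section Sub

variable {G H : Over (Spec (CommRingCat.of k))} [GrpObj G] [GrpObj H] [IsAffine G.left]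
  (i : H ⟶ G) [IsMonHom i]

/-- the rational points of the subgroup -/
def HP : Subgroup (Pts G) where
  carrier := {g | ∃ h : Pts H, h ≫ i = g}
  mul_mem' := by rintro _ _ ⟨a, rfl⟩ ⟨b, rfl⟩; exact ⟨a * b, MonObj.mul_comp a b i⟩
  one_mem' := ⟨1, MonObj.one_comp i⟩
  inv_mem' := by rintro _ ⟨a, rfl⟩; exact ⟨a⁻¹, GrpObj.inv_comp a i⟩

theorem mem_HP {g : Pts G} : g ∈ HP i ↔ ∃ h : Pts H, h ≫ i = g := Iff.rfl

/-- restriction of functions -/
def res : Coord G →ₐ[k] Coord H :=
  { i.left.appTop.hom with
    commutes' := fun c => by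
      show i.left.appTop (G.hom.appTop ((Scheme.ΓSpecIso (CommRingCat.of k)).inv c)) = _
      exact congr($((congrArg Scheme.Hom.appTop (Over.w i))) ((Scheme.ΓSpecIso (CommRingCat.of k)).inv c)) }

theorem val_res {B : Type u} [CommRing B] [Algebra k B] (t : VecGrp.pt k B ⟶ H) (f : Coord G) :
    valHom t (res i f) = valHom (t ≫ i) f := rfl

theorem valHom_comp {B : Type u} [CommRing B] [Algebra k B] (t : VecGrp.pt k B ⟶ H) :
    valHom (t ≫ i) = (valHom t).comp (res i) := rfl

theorem res_surjective [IsClosedImmersion i.left] : Function.Surjective (res i) :=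
  (IsClosedImmersion.isAffine_surjective_of_isAffine (f := i.left)).2

theorem mem_HP_iff [IsClosedImmersion i.left] {g : Pts G} :
    g ∈ HP i ↔ ∀ f, res i f = 0 → valHom g f = 0 := by
  have : IsAffine H.left := isAffine_of_isAffineHom i.left
  constructor
  · rintro ⟨h, rfl⟩ f hf
    rw [valHom_comp, AlgHom.comp_apply, hf, map_zero]
  · intro hg
    let φ : Coord H →ₐ[k] k :=
      AlgHom.liftOfSurjective (res i) (res_surjective i) (valHom g) fun f hf => hg f hf
    refine ⟨ofHom φ, valHom_inj ?_⟩
    rw [valHom_comp, valHom_ofHom]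
    exact AlgHom.liftOfSurjective_comp _ _ _ _

variable [IsAlgClosed k] [Smooth H.hom] [IsClosedImmersion i.left]

theorem res_eq_zero_iff {f : Coord G} : res i f = 0 ↔ ∀ g ∈ HP i, valHom g f = 0 := by
  have : IsAffine H.left := isAffine_of_isAffineHom i.left
  refine ⟨fun h g hg => (mem_HP_iff i).1 hg f h, fun h => eq_zero_of_pts fun z => ?_⟩
  rw [val_res]
  exact h _ ⟨z, rfl⟩

/-- right invariant functions -/
def Inv : Subalgebra k (Coord G) where
  carrier := {f | ∀ x, ∀ h ∈ HP i, valHom (x * h) f = valHom x f}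
  mul_mem' ha hb x h hh := by rw [map_mul, map_mul, ha x h hh, hb x h hh]
  add_mem' ha hb x h hh := by rw [map_add, map_add, ha x h hh, hb x h hh]
  algebraMap_mem' c x h _ := by rw [AlgHom.commutes, AlgHom.commutes]

theorem mem_Inv {f : Coord G} : f ∈ Inv i ↔ ∀ x, ∀ h ∈ HP i, valHom (x * h) f = valHom x f := Iff.rfl

variable [Smooth G.hom]

theorem L_mem_Inv (g : Pts G) {f : Coord G} (hf : f ∈ Inv i) : L g f ∈ Inv i := fun x h hh => by
  rw [val_L, val_L, ← _root_.mul_assoc]
  exact hf _ h hh

/-- the frozen invariance is invariance at rational points -/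
theorem isRTransInv_iff_mem (f : Coord G) : AGF.IsRTransInv i f ↔ f ∈ Inv i := by
  have : IsAffine H.left := isAffine_of_isAffineHom i.left
  refine (isRTransInv_iff i f).trans ?_
  rw [mem_Inv]
  constructor
  · rintro h x _ ⟨t, rfl⟩
    exact h k x t
  · intro h B _ _ x t
    have key : (LinearMap.lTensor (Coord G) (res i).toLinearMap) (comul G f) = f ⊗ₜ 1 := by
      refine sub_eq_zero.1 (tensor_eq_zero fun z => eq_zero_of_pts fun w => ?_)
      have e : ∀ u : Coord G ⊗[k] Coord G,
          valHom w (TensorProduct.lid k (Coord H) ((valHom z).toLinearMap.rTensor (Coord H)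
            ((res i).toLinearMap.lTensor (Coord G) u))) =
          Algebra.TensorProduct.lift (valHom z) (valHom (w ≫ i)) (fun _ _ => Commute.all _ _) u := by
        intro u
        induction u with
        | zero => simp [-valHom_apply]
        | add a b ha hb => simp only [map_add, ha, hb]
        | tmul a b => simp [valHom_comp, Algebra.smul_def, -valHom_apply]
      rw [map_sub, map_sub, map_sub, e, ← AlgHom.comp_apply, ← valHom_mul, h z (w ≫ i) ⟨w, rfl⟩]
      simp [-valHom_apply]
    have e : ∀ u : Coord G ⊗[k] Coord G,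
        Algebra.TensorProduct.lift (valHom x) (valHom (t ≫ i)) (fun _ _ => Commute.all _ _) u =
        Algebra.TensorProduct.lift (valHom x) (valHom t) (fun _ _ => Commute.all _ _)
          ((res i).toLinearMap.lTensor (Coord G) u) := by
      intro u
      induction u with
      | zero => simp [-valHom_apply]
      | add a b ha hb => simp only [map_add, ha, hb]
      | tmul a b => simp [valHom_comp, -valHom_apply]
    show valHom (x * (t ≫ i)) f = valHom x f
    rw [valHom_mul, AlgHom.comp_apply, e, key]
    simp [-valHom_apply]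

/-- observability at rational points -/
theorem isObservableIn_iff : AGF.IsObservableIn k i ↔
    ∀ g : Pts G, (∀ f ∈ Inv i, Rt g f = f) → g ∈ HP i :=
  forall_congr' fun g => imp_congr
    ⟨fun h f hf => (isRTransInv_pt_iff g f).1 (h f ((isRTransInv_iff_mem i f).2 hf)),
      fun h f hf => (isRTransInv_pt_iff g f).2 (h f ((isRTransInv_iff_mem i f).1 hf))⟩ Iff.rfl

end Sub

end Groth.Agent.AGFObs
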