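import Groth.Agent.AGFObs.Basic

/-!
Chevalley's theorem and semi-invariants at the level of rational points.
-/

set_option autoImplicit false

universe u

noncomputable section

open CategoryTheory MonoidalCategory CartesianMonoidalCategory MonObj GrpObj AlgebraicGeometry
open scoped TensorProduct
open Groth.Agent.AGFPoints.Basic Groth.Agent.AGFLang

namespace Groth.Agent.AGFObs

variable {k : Type u} [Field k]

section Dual

variable {X : Over (Spec (CommRingCat.of k))} [IsAlgClosed k] [IsAffine X.left] [Smooth X.hom]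

/-- a finite dimensional space of functions has a basis dual to evaluation at points -/
theorem exists_dualBasis (W : Submodule k (Coord X)) [Module.Finite k W] :
    ∃ (d : ℕ) (u : Fin d → Coord X) (y : Fin d → Pts X),
      (∀ j, u j ∈ W) ∧ (∀ a b, valHom (y a) (u b) = if a = b then 1 else 0) ∧
      ∀ w ∈ W, w = ∑ j, valHom (y j) w • u j := by
  classical
  let ev : Pts X → Module.Dual k W := fun z => (valHom z).toLinearMap ∘ₗ W.subtype
  have htop : Submodule.span k (Set.range ev) = ⊤ := by
    refine Submodule.eq_top_iff'.2 fun φ => ?_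
    rw [← Subspace.dualCoannihilator_dualAnnihilator_eq (W := Submodule.span k (Set.range ev)),
      Submodule.mem_dualAnnihilator]
    intro w hw
    rw [Submodule.mem_dualCoannihilator] at hw
    have : (w : Coord X) = 0 := eq_zero_of_pts fun z => hw _ (Submodule.subset_span ⟨z, rfl⟩)
    rw [show w = 0 from Subtype.ext this, map_zero]
  obtain ⟨S, hS, hspan, hli⟩ := exists_linearIndependent k (Set.range ev)
  let b : Module.Basis S k (Module.Dual k W) :=
    Module.Basis.mk hli (by simp [hspan, htop])
  have : Finite S := Module.Finite.finite_basis b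
  have := Fintype.ofFinite S
  obtain ⟨d, ⟨e⟩⟩ : ∃ d, Nonempty (S ≃ Fin d) := ⟨_, ⟨Fintype.equivFin S⟩⟩
  let bd := b.reindex e
  choose y hy using fun j => hS (e.symm j).2
  have hb : ∀ j, bd j = ev (y j) := fun j => by
    rw [Module.Basis.reindex_apply, Module.Basis.mk_apply, hy]
  let F : W →ₗ[k] (Fin d → k) := LinearMap.pi fun j => ev (y j)
  have hFinj : Function.Injective F := by
    refine (injective_iff_map_eq_zero F).2 fun w hw => ?_
    have hall : ∀ φ : Module.Dual k W, φ w = 0 := fun φ => by
      conv_lhs => rw [← bd.sum_repr φ]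
      rw [LinearMap.sum_apply]
      refine Finset.sum_eq_zero fun j _ => ?_
      rw [LinearMap.smul_apply, hb, show ev (y j) w = F w j from rfl, hw]
      simp
    exact (Module.forall_dual_apply_eq_zero_iff k w).1 hall
  have hd : Module.finrank k W = Module.finrank k (Fin d → k) := by
    rw [← Subspace.dual_finrank_eq, Module.finrank_eq_card_basis bd, Module.finrank_pi]
  let E := LinearMap.linearEquivOfInjective F hFinj hd
  refine ⟨d, fun j => (E.symm (Pi.single j 1) : Coord X), y, fun j => (E.symm _).2, fun a b => ?_, fun w hw => ?_⟩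
  · show F (E.symm (Pi.single b 1)) a = _
    rw [← LinearMap.linearEquivOfInjective_apply hFinj hd, LinearEquiv.apply_symm_apply, Pi.single_apply]
  · have key : (⟨w, hw⟩ : W) = ∑ j, valHom (y j) w • E.symm (Pi.single j 1) := by
      apply E.injective
      simp only [map_sum, map_smul, LinearEquiv.apply_symm_apply]
      rw [LinearMap.linearEquivOfInjective_apply]
      conv_lhs => rw [pi_eq_sum_univ' (F ⟨w, hw⟩)]
      rfl
    simpa using congrArg Subtype.val key

end Dual

section Semi

variable {G H : Over (Spec (CommRingCat.of k))} [GrpObj G] [GrpObj H] [IsAffine G.left]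
  (i : H ⟶ G) [IsMonHom i]

/-- `f` is semi-invariant with the character given by the values of `D` on the subgroup -/
def Semi (D f : Coord G) : Prop := ∀ x, ∀ h ∈ HP i, valHom (x * h) f = valHom h D * valHom x f

/-- `D` is semi-invariant for its own character -/
structure IsChar (D : Coord G) : Prop where
  semi : Semi i D D
  one : valHom (1 : Pts G) D = 1

/-- every occurring character has its inverse occurring -/
def CRIT : Prop :=
  ∀ D, IsChar i D → ∃ e : Coord G, valHom (1 : Pts G) e = 1 ∧ ∀ x, ∀ h ∈ HP i, valHom (x * h) e * valHom h D = valHom x e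

theorem IsChar.mul {D : Coord G} (hD : IsChar i D) {h : Pts G} (hh : h ∈ HP i) {h' : Pts G} (hh' : h' ∈ HP i) :
    valHom (h * h') D = valHom h D * valHom h' D := by
  rw [hD.semi h h' hh', mul_comm]

theorem IsChar.ne_zero {D : Coord G} (hD : IsChar i D) {h : Pts G} (hh : h ∈ HP i) : valHom h D ≠ 0 := fun h0 => by
  have := hD.mul i hh ((HP i).inv_mem hh)
  rw [mul_inv_cancel, hD.one, h0, zero_mul] at this
  exact one_ne_zero this

/-- the matrix of translates -/
def tmat {d : ℕ} (u : Fin d → Coord G) (z : Fin d → Pts G) : Matrix (Fin d) (Fin d) (Coord G) :=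
  Matrix.of fun a b => L (z b) (u a)

theorem val_det_tmat {d : ℕ} (u : Fin d → Coord G) (z : Fin d → Pts G) (x : Pts G) :
    valHom x (tmat u z).det = (Matrix.of fun a b => valHom (z b * x) (u a)).det := by
  rw [AlgHom.map_det]
  congr 1
  ext a b
  exact val_L _ _ _

variable [IsAlgClosed k] [Smooth G.hom] [Smooth H.hom] [IsClosedImmersion i.left]

/-- determinants of translates of a stable family are semi-invariant -/
theorem semi_det {d : ℕ} {u : Fin d → Coord G} {y : Fin d → Pts G}
    (hdual : ∀ a b, valHom (y a) (u b) = if a = b then 1 else 0)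
    (hexp : ∀ h ∈ HP i, ∀ a, Rt h (u a) = ∑ j, valHom (y j) (Rt h (u a)) • u j) (z : Fin d → Pts G) :
    Semi i (tmat u y).det (tmat u z).det := by
  intro x h hh
  rw [val_det_tmat, val_det_tmat, val_det_tmat, ← Matrix.det_mul]
  congr 1
  ext a b
  rw [Matrix.mul_apply]
  simp only [Matrix.of_apply]
  rw [← _root_.mul_assoc, ← val_Rt, hexp h hh a, map_sum]
  refine Finset.sum_congr rfl fun j _ => ?_
  rw [map_smul, smul_eq_mul, val_Rt]

theorem isChar_det {d : ℕ} {u : Fin d → Coord G} {y : Fin d → Pts G}
    (hdual : ∀ a b, valHom (y a) (u b) = if a = b then 1 else 0)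
    (hexp : ∀ h ∈ HP i, ∀ a, Rt h (u a) = ∑ j, valHom (y j) (Rt h (u a)) • u j) :
    IsChar i (tmat u y).det := by
  refine ⟨semi_det i hdual hexp y, ?_⟩
  rw [val_det_tmat]
  convert Matrix.det_one (n := Fin d) (R := k)
  ext a b
  simp [hdual, Matrix.one_apply, eq_comm]

/-- Chevalley: the subgroup is cut out by semi-invariants of one character -/
theorem exists_chevalley : ∃ (D : Coord G) (d : ℕ) (f : Fin d → Coord G), IsChar i D ∧
    (∀ j, Semi i D (f j) ∧ valHom (1 : Pts G) (f j) = 0) ∧
    ∀ g : Pts G, valHom g D ≠ 0 → (∀ j, valHom g (f j) = 0) → g ∈ HP i := by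
  classical
  have := finiteType (X := G)
  have : IsNoetherianRing (Coord G) := Algebra.FiniteType.isNoetherianRing k _
  obtain ⟨s, hs⟩ := (IsNoetherian.noetherian (RingHom.ker (res i)) : (RingHom.ker (res i)).FG)
  obtain ⟨W, hW, hsW, hWst⟩ := exists_stable_Rt s
  let W₁ : Submodule k (Coord G) := W ⊓ LinearMap.ker (res i).toLinearMap
  have : Module.Finite k W₁ := Module.Finite.of_injective _ (Submodule.inclusion_injective (inf_le_left : W₁ ≤ W))
  obtain ⟨d, u, y, hu, hdual, hexp⟩ := exists_dualBasis W₁
  have hst : ∀ h ∈ HP i, ∀ a, Rt h (u a) ∈ W₁ := fun h hh a => by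
    refine ⟨hWst h _ (hu a).1, ?_⟩
    show res i (Rt h (u a)) = 0
    rw [res_eq_zero_iff]
    intro g hg
    rw [val_Rt]
    exact (res_eq_zero_iff i).1 (hu a).2 _ ((HP i).mul_mem hg hh)
  have hexp' : ∀ h ∈ HP i, ∀ a, Rt h (u a) = ∑ j, valHom (y j) (Rt h (u a)) • u j :=
    fun h hh a => hexp _ (hst h hh a)
  have hu1 : ∀ a, valHom (1 : Pts G) (u a) = 0 := fun a =>
    (res_eq_zero_iff i).1 (hu a).2 1 (HP i).one_mem
  refine ⟨(tmat u y).det, d, fun l => (tmat u (Function.update y l 1)).det, isChar_det i hdual hexp',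
    fun l => ⟨semi_det i hdual hexp' _, ?_⟩, fun g hg hf => ?_⟩
  · rw [val_det_tmat]
    refine Matrix.det_eq_zero_of_column_eq_zero l fun a => ?_
    simp [Function.update_self, hu1, -valHom_apply]
  rw [mem_HP_iff]
  let M : Matrix (Fin d) (Fin d) k := Matrix.of fun a b => valHom (y b * g) (u a)
  let v : Fin d → k := fun a => valHom g (u a)
  have hM : M.det ≠ 0 := by rwa [val_det_tmat] at hg
  have hcr : M.cramer v = 0 := funext fun l => by
    rw [Matrix.cramer_apply, Pi.zero_apply, ← hf l, val_det_tmat]
    congr 1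
    ext a b
    rw [Matrix.updateCol_apply]
    by_cases hb : b = l
    · subst hb; simp [v]
    · simp [M, hb]
  have hv : v = 0 := by
    have := M.mulVec_cramer v
    rw [hcr, Matrix.mulVec_zero] at this
    exact (smul_eq_zero.1 this.symm).resolve_left hM
  have hsub : ∀ w ∈ W₁, valHom g w = 0 := fun w hw => by
    rw [hexp w hw, map_sum]
    exact Finset.sum_eq_zero fun j _ => by rw [map_smul, show valHom g (u j) = v j from rfl, hv]; simp
  intro a ha
  have hker : RingHom.ker (res i) ≤ RingHom.ker (valHom g) := by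
    rw [← hs, Ideal.span_le]
    exact fun a ha => hsub a ⟨hsW a ha, show res i a = 0 from RingHom.mem_ker.1 (hs ▸ Ideal.subset_span ha)⟩
  exact hker ha

/-- the criterion implies observability -/
theorem obs_of_crit (hc : CRIT i) : ∀ g : Pts G, (∀ f ∈ Inv i, Rt g f = f) → g ∈ HP i := by
  intro g hg
  obtain ⟨D, d, f, hD, hf, hcut⟩ := exists_chevalley i
  obtain ⟨e, he1, he⟩ := hc D hD
  have hinv : ∀ p, Semi i D p → e * p ∈ Inv i := fun p hp x h hh => by
    rw [map_mul, map_mul, hp x h hh, ← he x h hh]
    ring
  have hval : ∀ p, Semi i D p → valHom g e * valHom g p = valHom (1 : Pts G) p := fun p hp => by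
    have := congrArg (valHom (1 : Pts G)) (hg _ (hinv p hp))
    rwa [val_Rt, _root_.one_mul, map_mul, map_mul, he1, _root_.one_mul] at this
  have hne : valHom g e * valHom g D = 1 := (hval D hD.semi).trans hD.one
  refine hcut g (fun h0 => by simp [h0] at hne) fun j => ?_
  have := hval _ (hf j).1
  rw [(hf j).2, mul_eq_zero] at this
  exact this.resolve_left fun h0 => by simp [h0] at hne

end Semi

end Groth.Agent.AGFObs
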