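import Groth.Agent.AGFObs.Chev
import Groth.Agent.FlatMisc.GenericFreeLoc
import Groth.Agent.S11199

/-!
Separation of cosets by invariants of an observable subgroup; inverse characters.
-/

set_option autoImplicit false

universe u

noncomputable section

open CategoryTheory MonoidalCategory CartesianMonoidalCategory MonObj GrpObj AlgebraicGeometry
open scoped TensorProduct
open Groth.Agent.AGFPoints.Basic Groth.Agent.AGFLang

namespace Groth.Agent.AGFObs

variable {k : Type u} [Field k] [IsAlgClosed k]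
variable {G H : Over (Spec (CommRingCat.of k))} [GrpObj G] [GrpObj H] [IsAffine G.left] [Smooth G.hom]
  [Smooth H.hom] (i : H ⟶ G) [IsMonHom i] [IsClosedImmersion i.left]

/-- a finite set of invariants, with translation stable span, separating the cosets -/
structure IsSep (t : Finset (Coord G)) : Prop where
  inv : ∀ f ∈ t, f ∈ Inv i
  stable : ∀ g, ∀ f ∈ t, L g f ∈ Submodule.span k (t : Set (Coord G))
  sep : ∀ x y : Pts G, (∀ f ∈ t, valHom x f = valHom y f) → x⁻¹ * y ∈ HP i

theorem exists_sep (hobs : ∀ g : Pts G, (∀ f ∈ Inv i, Rt g f = f) → g ∈ HP i) : ∃ t, IsSep i t := by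
  obtain ⟨s, hs, hs'⟩ := Groth.Agent.S11199.result k G H i
  obtain ⟨W, hW, hsW⟩ := exists_span_L (G := G) s
  let S : Set (Coord G) := {a | ∃ g, ∃ f ∈ s, L g f = a}
  have hle : Submodule.span k S ≤ W := Submodule.span_le.2 (by rintro _ ⟨g, f, hf, rfl⟩; exact hsW g f hf)
  have hfin : Module.Finite k (Submodule.span k S) := Module.Finite.of_injective _ (Submodule.inclusion_injective hle)
  obtain ⟨t, ht⟩ := Module.Finite.iff_fg.1 hfin
  have hinv : Submodule.span k S ≤ (Inv i).toSubmodule := Submodule.span_le.2 (by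
    rintro _ ⟨g, f, hf, rfl⟩
    exact L_mem_Inv i g ((isRTransInv_iff_mem i f).1 (hs f hf)))
  refine ⟨t, fun f hf => hinv (ht ▸ Submodule.subset_span hf), fun g f hf => ?_, fun x y hxy => ?_⟩
  · have hf' : f ∈ Submodule.span k S := ht ▸ Submodule.subset_span hf
    have : Submodule.span k S ≤ (Submodule.span k S).comap (L g).toLinearMap := Submodule.span_le.2 (by
      rintro _ ⟨g', f', hf', rfl⟩
      exact Submodule.subset_span ⟨g' * g, f', hf', (L_L g g' f').symm⟩)
    rw [ht]
    exact this hf'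
  · have hall : ∀ a ∈ Submodule.span k S, valHom x a = valHom y a := fun a ha =>
      LinearMap.eqOn_span (f := (valHom x).toLinearMap) (g := (valHom y).toLinearMap) hxy (ht.symm ▸ ha)
    refine hobs _ fun f hf => (isRTransInv_pt_iff _ f).1
      (hs' _ (fun a ha => (isRTransInv_pt_iff _ a).2 (ext_pts fun z => ?_)) f ((isRTransInv_iff_mem i f).2 hf))
    have h := hall _ (Submodule.subset_span ⟨z * x⁻¹, a, ha, rfl⟩)
    rw [val_L, val_L, inv_mul_cancel_right, _root_.mul_assoc] at h
    rw [val_Rt]
    exact h.symm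

/-- invariants vanishing on a saturated closed set not containing a given point -/
theorem exists_inv_vanish {t : Finset (Coord G)} (ht : IsSep i t) (J : Ideal (Coord G))
    (hJ : ∀ z : Pts G, (∀ f ∈ J, valHom z f = 0) → ∀ h ∈ HP i, ∀ f ∈ J, valHom (z * h) f = 0)
    (h1 : ∃ f ∈ J, valHom (1 : Pts G) f ≠ 0) :
    ∃ a ∈ Inv i, valHom (1 : Pts G) a = 1 ∧ ∀ z : Pts G, (∀ f ∈ J, valHom z f = 0) → valHom z a = 0 := by
  let B : Subalgebra k (Coord G) := Algebra.adjoin k (t : Set (Coord G))
  have hBinv : B ≤ Inv i := Algebra.adjoin_le ht.inv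
  have hBL : ∀ g, ∀ b ∈ B, L g b ∈ B := fun g b hb => by
    have : B ≤ B.comap (L g) := Algebra.adjoin_le fun f hf =>
      (Submodule.span_le.2 (fun a ha => Algebra.subset_adjoin ha) :
        Submodule.span k (t : Set (Coord G)) ≤ B.toSubmodule) (ht.stable g f hf)
    exact this hb
  have := isReduced (X := G)
  have := finiteType (X := G)
  have : Nontrivial (Coord G) := (valHom (1 : Pts G)).toRingHom.domain_nontrivial
  have : _root_.IsReduced B := isReduced_of_injective B.val Subtype.val_injective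
  have : Algebra.FiniteType k B := (Subalgebra.fg_iff_finiteType B).1 (Subalgebra.fg_adjoin_finset t)
  have : IsNoetherianRing B := Algebra.FiniteType.isNoetherianRing k B
  have : Algebra.FiniteType B (Coord G) := .of_restrictScalars_finiteType k _ _
  obtain ⟨c, -, hc, hfree⟩ := FlatMisc.GenericFree.genFree (R := B) (Coord G) (Coord G) (1 : B) one_ne_zero
  obtain ⟨y, hy⟩ : ∃ y : Pts G, valHom y (c : Coord G) ≠ 0 := by
    by_contra h
    simp only [not_exists, not_not] at h
    exact hc (Subtype.ext (eq_zero_of_pts h))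
  obtain ⟨f₁, hf₁J, hf₁⟩ := h1
  let J' : Set (Coord G) := (L y⁻¹) '' (J : Set (Coord G))
  let S := Localization.Away (c : Coord G)
  haveI : IsScalarTower B (Coord G) S := inferInstance
  haveI hloc : IsLocalization.Away (algebraMap B (Coord G) c) S :=
    inferInstanceAs (IsLocalization.Away (c : Coord G) (Localization.Away (c : Coord G)))
  haveI : IsLocalization (Algebra.algebraMapSubmonoid (Coord G) (Submonoid.powers c)) S := by
    rw [show Algebra.algebraMapSubmonoid (Coord G) (Submonoid.powers c) = Submonoid.powers (algebraMap B (Coord G) c)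
      from Submonoid.map_powers _ c]
    exact hloc
  letI : Algebra (Localization.Away c) S := (IsLocalization.Away.map (Localization.Away c) S (algebraMap B (Coord G)) c).toAlgebra
  haveI : IsScalarTower B (Localization.Away c) S := IsScalarTower.of_algebraMap_eq fun b => by
    rw [RingHom.algebraMap_toAlgebra, IsLocalization.Away.map, IsLocalization.map_eq, ← IsScalarTower.algebraMap_apply]
  haveI : IsLocalizedModule (Submonoid.powers c) (IsScalarTower.toAlgHom B (Coord G) S).toLinearMap :=
    isLocalizedModule_iff_isLocalization.2 inferInstance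
  haveI : Module.Flat B S := hfree.flat_of_isLocalizedModule (R' := Localization.Away c)
    (IsScalarTower.toAlgHom B (Coord G) S).toLinearMap
  haveI : Algebra.FiniteType (Coord G) S :=
    IsLocalization.finiteType_of_monoid_fg (Submonoid.powers (c : Coord G)) S
  haveI : Algebra.FiniteType B S := .trans ‹Algebra.FiniteType B (Coord G)› ‹Algebra.FiniteType (Coord G) S›
  haveI : Algebra.FinitePresentation B S := Algebra.FinitePresentation.of_finiteType.mp ‹_›
  have hopen := PrimeSpectrum.isOpenMap_comap_of_hasGoingDown_of_finitePresentation (R := B) (S := S)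
  let f₀ : Coord G := L y⁻¹ f₁
  have hf₀ : valHom y f₀ ≠ 0 := by
    rwa [val_L, inv_mul_cancel]
  let U : Set (PrimeSpectrum B) :=
    PrimeSpectrum.comap (algebraMap B S) '' (PrimeSpectrum.basicOpen (algebraMap (Coord G) S f₀) : Set (PrimeSpectrum S))
  have hU : IsOpen U := hopen _ (PrimeSpectrum.basicOpen _).isOpen
  let q : Pts G → PrimeSpectrum B := fun z => ⟨RingHom.ker ((valHom z).comp B.val), RingHom.ker_isPrime _⟩
  have hqU : q y ∈ U := by
    let φ : S →+* k := IsLocalization.Away.lift (c : Coord G) (g := (valHom y).toRingHom) hy.isUnit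
    refine ⟨⟨RingHom.ker φ, RingHom.ker_isPrime φ⟩, ?_, PrimeSpectrum.ext (Ideal.ext fun b => ?_)⟩
    · show algebraMap (Coord G) S f₀ ∉ RingHom.ker φ
      rw [RingHom.mem_ker, IsLocalization.Away.lift_eq]
      exact hf₀
    · show φ (algebraMap (Coord G) S (b : Coord G)) = 0 ↔ valHom y (b : Coord G) = 0
      rw [IsLocalization.Away.lift_eq]
      rfl
  obtain ⟨V, ⟨b, rfl⟩, hbq, hbU⟩ := PrimeSpectrum.isTopologicalBasis_basic_opens.exists_subset_of_mem_open hqU hU
  let a : Coord G := L y ((b : Coord G) * (c : Coord G))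
  have hby : valHom y (b : Coord G) ≠ 0 := hbq
  have ha1 : valHom (1 : Pts G) a ≠ 0 := by
    show valHom (1 : Pts G) (L y _) ≠ 0
    rw [val_L, _root_.mul_one, map_mul]
    exact mul_ne_zero hby hy
  refine ⟨(valHom (1 : Pts G) a)⁻¹ • a, (Inv i).smul_mem (L_mem_Inv i y (hBinv (b * c).2)) _, ?_, fun z₀ hz₀ => ?_⟩
  · rw [map_smul, smul_eq_mul, inv_mul_cancel₀ ha1]
  rw [map_smul, smul_eq_mul]
  refine mul_eq_zero_of_right _ ?_
  show valHom z₀ (L y _) = 0
  rw [val_L]
  let z : Pts G := y * z₀
  by_contra hne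
  rw [map_mul] at hne
  have hbz : valHom z (b : Coord G) ≠ 0 := left_ne_zero_of_mul hne
  obtain ⟨P, hP, hPq⟩ := hbU (show q z ∈ (PrimeSpectrum.basicOpen b : Set (PrimeSpectrum B)) from hbz)
  let P₀ : Ideal (Coord G) := P.asIdeal.comap (algebraMap (Coord G) S)
  have hcf : (c : Coord G) * f₀ ∉ P₀ := fun h => by
    rw [Ideal.mem_comap, map_mul] at h
    rcases P.isPrime.mem_or_mem h with h | h
    · exact P.isPrime.ne_top (Ideal.eq_top_of_isUnit_mem _ h (IsLocalization.Away.algebraMap_isUnit _))
    · exact hP h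
  have : IsJacobsonRing (Coord G) := isJacobsonRing_of_finiteType (A := k)
  obtain ⟨m, hm, hPm, hcfm⟩ : ∃ m : Ideal (Coord G), m.IsMaximal ∧ P₀ ≤ m ∧ (c : Coord G) * f₀ ∉ m := by
    by_contra hno
    have hin : (c : Coord G) * f₀ ∈ P₀.jacobson := Ideal.mem_sInf.2 fun {m} hm =>
      of_not_not fun hh => hno ⟨m, hm.2, hm.1, hh⟩
    rw [(isJacobsonRing_iff_prime_eq.1 this) _ (P.isPrime.comap _)] at hin
    exact hcf hin
  obtain ⟨z', hz'⟩ := exists_pt m
  have hval : ∀ f ∈ t, valHom z f = valHom z' f := fun f hf => by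
    let fB : B := ⟨f, Algebra.subset_adjoin hf⟩
    have hmem : fB - algebraMap k B (valHom z f) ∈ (q z).asIdeal := by
      show valHom z (f - algebraMap k (Coord G) (valHom z f)) = 0
      rw [map_sub, AlgHom.commutes]
      exact sub_self _
    have h2 : ((fB - algebraMap k B (valHom z f) : B) : Coord G) ∈ m := hPm (by
      have h3 := hPq.symm ▸ hmem
      exact h3)
    rw [← hz', RingHom.mem_ker, AddSubgroupClass.coe_sub, map_sub, Subalgebra.coe_algebraMap, AlgHom.commutes,
      sub_eq_zero] at h2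
    exact h2.symm
  have hh : z⁻¹ * z' ∈ HP i := ht.sep z z' hval
  have hz₀' : valHom (z₀ * (z⁻¹ * z')) f₁ = 0 := hJ z₀ hz₀ _ hh f₁ hf₁J
  have : valHom z' f₀ = 0 := by
    show valHom z' (L y⁻¹ f₁) = 0
    rw [val_L]
    convert hz₀' using 3
    simp [z, _root_.mul_inv_rev, _root_.mul_assoc]
  exact hcfm (m.mul_mem_left _ (by rw [← hz']; exact this))

/-- observability gives inverse characters -/
theorem crit_of_obs (hobs : ∀ g : Pts G, (∀ f ∈ Inv i, Rt g f = f) → g ∈ HP i) : CRIT i := by
  intro D hD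
  obtain ⟨t, ht⟩ := exists_sep i hobs
  have hJ : ∀ z : Pts G, (∀ f ∈ Ideal.span ({D} : Set (Coord G)), valHom z f = 0) → ∀ h ∈ HP i,
      ∀ f ∈ Ideal.span ({D} : Set (Coord G)), valHom (z * h) f = 0 := fun z hz h hh f hf => by
    obtain ⟨r, rfl⟩ := Ideal.mem_span_singleton'.1 hf
    rw [map_mul, hD.semi z h hh, hz D (Ideal.mem_span_singleton_self D)]
    simp
  obtain ⟨a, ha, ha1, hav⟩ := exists_inv_vanish i ht (Ideal.span {D}) hJ
    ⟨D, Ideal.mem_span_singleton_self D, by rw [hD.one]; exact one_ne_zero⟩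
  have := finiteType (X := G)
  have : IsJacobsonRing (Coord G) := isJacobsonRing_of_finiteType (A := k)
  have hrad : a ∈ (Ideal.span {D}).radical := by
    rw [Ideal.radical_eq_jacobson, Ideal.jacobson, Ideal.mem_sInf]
    rintro m ⟨hm1, hm⟩
    obtain ⟨z, rfl⟩ := exists_pt m (hm := hm)
    exact hav z fun f hf => hm1 hf
  obtain ⟨n, hn⟩ := hrad
  obtain ⟨b, hb⟩ := Ideal.mem_span_singleton'.1 hn
  refine ⟨a * b, ?_, fun x h hh => ?_⟩
  · have := congrArg (valHom (1 : Pts G)) hb
    rw [map_mul, hD.one, _root_.mul_one, map_pow, ha1, one_pow] at this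
    rw [map_mul, ha1, this, _root_.one_mul]
  · rw [map_mul, map_mul, ha x h hh]
    by_cases hax : valHom x a = 0
    · simp [hax]
    have h1 := congrArg (valHom (x * h)) hb
    have h2 := congrArg (valHom x) hb
    rw [map_mul, map_pow, ha x h hh, hD.semi x h hh] at h1
    rw [map_mul, map_pow] at h2
    have hDx : valHom x D ≠ 0 := fun h0 => pow_ne_zero n hax (by rw [← h2, h0, mul_zero])
    have h4 : valHom (x * h) b * valHom h D = valHom x b :=
      mul_right_cancel₀ hDx (by rw [_root_.mul_assoc, h1, h2])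
    rw [_root_.mul_assoc, h4]

/-- observable iff inverse characters occur -/
theorem isObservableIn_iff_crit : AGF.IsObservableIn k i ↔ CRIT i :=
  ⟨fun h => crit_of_obs i ((isObservableIn_iff i).1 h), fun h => (isObservableIn_iff i).2 (obs_of_crit i h)⟩

end Groth.Agent.AGFObs
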