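import Groth.Agent.AGFObs.Rep

/-!
The equivariant section of restriction for an observable subgroup.
-/

set_option autoImplicit false

universe u

noncomputable section

open CategoryTheory MonoidalCategory CartesianMonoidalCategory MonObj GrpObj AlgebraicGeometry
open scoped TensorProduct
open Groth.Agent.AGFPoints.Basic Groth.Agent.AGFLang

namespace Groth.Agent.AGFObs

variable {k : Type u} [Field k] [IsAlgClosed k]
variable {G H : Over (Spec (CommRingCat.of k))} [GrpObj G] [GrpObj H] [IsAffine G.left] [Smooth G.hom]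
  [IsAffine H.left] [Smooth H.hom] (i : H ⟶ G) [IsMonHom i] [IsClosedImmersion i.left]

theorem res_Rt (z : Pts H) (f : Coord G) : res i (Rt (z ≫ i) f) = Rt z (res i f) :=
  ext_pts fun x => by rw [val_res, val_Rt, ← MonObj.mul_comp, ← val_res, val_Rt]

/-- a stable finite space of functions on the subgroup lifts equivariantly to the group -/
theorem exists_section (hc : CRIT i) (P : Submodule k (Coord H)) [Module.Finite k P]
    (hP : ∀ z, ∀ f ∈ P, Rt z f ∈ P) :
    ∃ s : P →ₗ[k] Coord G, (∀ f : P, res i (s f) = f) ∧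
      ∀ (f : P) (z : Pts H), Rt (z ≫ i) (s f) = s ⟨Rt z f, hP z f f.2⟩ := by
  classical
  obtain ⟨s₀, hs₀⟩ := Module.Finite.iff_fg.1 ‹Module.Finite k P›
  choose lift hlift using fun f : Coord H => res_surjective i f
  obtain ⟨W, hW, hsW, hWst⟩ := exists_stable_Rt (s₀.image lift)
  let π : W →ₗ[k] Coord H := (res i).toLinearMap ∘ₗ W.subtype
  have hπ : P ≤ LinearMap.range π := by
    rw [← hs₀, Submodule.span_le]
    intro f hf
    exact ⟨⟨lift f, hsW _ (Finset.mem_image_of_mem _ hf)⟩, hlift f⟩
  have hlin : ∃ σ : P →ₗ[k] W, ∀ f : P, res i (σ f : Coord G) = f := by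
    obtain ⟨σ, hσ⟩ := Module.projective_lifting_property π.rangeRestrict (Submodule.inclusion hπ) π.surjective_rangeRestrict
    exact ⟨σ, fun f => congrArg Subtype.val (LinearMap.congr_fun hσ f)⟩
  obtain ⟨σ, hσ⟩ := hlin
  let W₁ : Submodule k (Coord G) := W ⊓ LinearMap.ker (res i).toLinearMap
  have : Module.Finite k W₁ := Module.Finite.of_injective _ (Submodule.inclusion_injective (inf_le_left : W₁ ≤ W))
  obtain ⟨d, u, y, hu, hdual, hexp⟩ := exists_dualBasis W₁
  have hu0 : ∀ a, ∀ h ∈ HP i, valHom h (u a) = 0 := fun a => (res_eq_zero_iff i).1 (hu a).2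
  have hst : ∀ h ∈ HP i, ∀ a, Rt h (u a) ∈ W₁ := fun h hh a => by
    refine ⟨hWst h _ (hu a).1, ?_⟩
    show res i (Rt h (u a)) = 0
    rw [res_eq_zero_iff]
    intro g hg
    rw [val_Rt]
    exact hu0 a _ ((HP i).mul_mem hg hh)
  have hexp' : ∀ h ∈ HP i, ∀ a, Rt h (u a) = ∑ j, valHom (y j) (Rt h (u a)) • u j :=
    fun h hh a => hexp _ (hst h hh a)
  have hD := isChar_det i hdual hexp'
  obtain ⟨e, he1, he⟩ := hc _ hD
  let z : Fin (d + 1) → Pts G := Fin.cons 1 y
  let minor : Fin (d + 1) → Coord G := fun b =>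
    ((tmat (Fin.cons 0 u : Fin (d + 1) → Coord G) z).submatrix Fin.succ b.succAbove).det
  let s : P →ₗ[k] Coord G := ∑ b : Fin (d + 1),
    (LinearMap.mulRight k (e * ((-1) ^ (b : ℕ) * minor b))) ∘ₗ (L (z b)).toLinearMap ∘ₗ W.subtype ∘ₗ σ
  have hsdet : ∀ f : P, s f = e * (tmat (Fin.cons (σ f : Coord G) u : Fin (d + 1) → Coord G) z).det := fun f => by
    rw [Matrix.det_succ_row_zero, Finset.mul_sum]
    simp only [s, LinearMap.sum_apply, LinearMap.comp_apply, LinearMap.mulRight_apply, Submodule.subtype_apply,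
      AlgHom.toLinearMap_apply]
    refine Finset.sum_congr rfl fun b _ => ?_
    have hm : minor b =
        ((tmat (Fin.cons (σ f : Coord G) u : Fin (d + 1) → Coord G) z).submatrix Fin.succ b.succAbove).det := by
      refine congrArg Matrix.det ?_
      ext a c
      simp [tmat]
    rw [← hm, show tmat (Fin.cons (σ f : Coord G) u : Fin (d + 1) → Coord G) z 0 b = L (z b) (σ f : Coord G) by simp [tmat]]
    ring
  have hval : ∀ (f : P) (x : Pts G), valHom x (s f) = valHom x e *
      (Matrix.of fun a b => valHom (z b * x) ((Fin.cons (σ f : Coord G) u : Fin (d + 1) → Coord G) a)).det := fun f x => by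
    rw [hsdet, map_mul, val_det_tmat]
  refine ⟨s, fun f => ext_pts fun w => ?_, fun f w => ext_pts fun x => ?_⟩
  · have hw : (w ≫ i) ∈ HP i := ⟨w, rfl⟩
    rw [val_res, hval, Matrix.det_succ_column_zero, Fin.sum_univ_succ, Finset.sum_eq_zero (fun a _ => by
      have : valHom (z 0 * (w ≫ i)) (u a) = 0 := by
        simp only [z, Fin.cons_zero, _root_.one_mul]
        exact hu0 a _ hw
      simp [Matrix.of_apply, this, -valHom_apply]), _root_.add_zero]
    have hsub : ((Matrix.of fun a b => valHom (z b * (w ≫ i)) ((Fin.cons (σ f : Coord G) u : Fin (d + 1) → Coord G) a)).submatrix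
        (Fin.succAbove 0) Fin.succ).det = valHom (w ≫ i) (tmat u y).det := by
      rw [val_det_tmat]
      refine congrArg Matrix.det ?_
      ext a b
      simp [z]
    have h1 : valHom (w ≫ i) e * valHom (w ≫ i) (tmat u y).det = 1 := by
      simpa [he1, -valHom_apply] using he 1 _ hw
    rw [hsub]
    simp only [Fin.val_zero, pow_zero, Matrix.of_apply, Fin.cons_zero, z, _root_.one_mul]
    rw [show valHom (w ≫ i) (σ f : Coord G) = valHom w (f : Coord H) by rw [← val_res, hσ],
      mul_left_comm, h1, _root_.mul_one]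
  · set f' : P := ⟨Rt w f, hP w f f.2⟩ with hf'
    set h : Pts G := w ≫ i
    have hh : h ∈ HP i := ⟨w, rfl⟩
    rw [val_Rt, hval, hval]
    let r : Coord G := Rt h (σ f : Coord G) - (σ f' : Coord G)
    have hr : r ∈ W₁ := ⟨W.sub_mem (hWst h _ (σ f).2) (σ f').2, by
      show res i r = 0
      rw [map_sub, hσ, res_Rt, hσ]
      exact sub_self _⟩
    let N : Matrix (Fin (d + 1)) (Fin (d + 1)) k := Matrix.of
      (Fin.cons (Fin.cons 1 fun l => valHom (y l) r) fun a => Fin.cons 0 fun l => valHom (y l) (Rt h (u a)))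
    have hN : N.det = valHom h (tmat u y).det := by
      rw [Matrix.det_succ_column_zero, Fin.sum_univ_succ, Finset.sum_eq_zero (fun a _ => by simp [N]), _root_.add_zero]
      rw [val_det_tmat]
      simp only [Fin.val_zero, pow_zero, N, Matrix.of_apply, Fin.cons_zero, _root_.one_mul]
      refine congrArg Matrix.det ?_
      ext a b
      simp [val_Rt, -valHom_apply]
    have hmul : (Matrix.of fun a b => valHom (z b * (x * h)) ((Fin.cons (σ f : Coord G) u : Fin (d + 1) → Coord G) a)) =
        N * Matrix.of fun a b => valHom (z b * x) ((Fin.cons (σ f' : Coord G) u : Fin (d + 1) → Coord G) a) := by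
      ext a b
      rw [Matrix.mul_apply, Fin.sum_univ_succ]
      simp only [Matrix.of_apply]
      rw [← _root_.mul_assoc, ← val_Rt h]
      refine Fin.cases ?_ (fun a => ?_) a
      · simp only [N, Matrix.of_apply, Fin.cons_zero, Fin.cons_succ, _root_.one_mul]
        have := congrArg (valHom (z b * x)) (hexp r hr)
        rw [map_sum] at this
        simp only [map_smul, smul_eq_mul] at this
        rw [← this, map_sub]
        ring
      · simp only [N, Matrix.of_apply, Fin.cons_zero, Fin.cons_succ, zero_mul, _root_.zero_add]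
        conv_lhs => rw [hexp' h hh a, map_sum]
        simp only [map_smul, smul_eq_mul]
    rw [hmul, Matrix.det_mul, hN, ← _root_.mul_assoc, he x h hh]

end Groth.Agent.AGFObs
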