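import Groth.Agent.AGFObs.Ext

/-!
Rational modules of an observable subgroup extend.
-/

set_option autoImplicit false

universe u

noncomputable section

open CategoryTheory MonoidalCategory CartesianMonoidalCategory MonObj GrpObj AlgebraicGeometry
open scoped TensorProduct
open Groth.Agent.AGFPoints.Basic Groth.Agent.AGFLang

namespace Groth.Agent.AGFObs

variable {k : Type u} [Field k] [IsAlgClosed k]
variable {G H : Over (Spec (CommRingCat.of k))} [GrpObj G] [GrpObj H] [IsAffine G.left] [Smooth G.hom]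
  [Smooth H.hom] (i : H ⟶ G) [IsMonHom i] [IsClosedImmersion i.left]

theorem extendsAlong_of_crit (hc : CRIT i) {V : Type u} [AddCommGroup V] [Module k V] [Module.Finite k V]
    (σ : VecGrp.GMod H V) : σ.ExtendsAlong i := by
  classical
  have : IsAffine H.left := isAffine_of_isAffineHom i.left
  let b := Module.Free.chooseBasis k V
  have := Fintype.ofFinite (Module.Free.ChooseBasisIndex k V)
  let J := Module.Free.ChooseBasisIndex k V
  let c : J → (V →ₗ[k] Coord H) := fun m => coef σ (b.coord m)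
  let P : Submodule k (Coord H) := ⨆ m, LinearMap.range (c m)
  have hcz : ∀ (m : J) (z : Pts H) (v : V), Rt z (c m v) = c m (act σ z v) := fun m z v =>
    ext_pts fun x => by rw [val_Rt, val_coef, val_coef, act_mul]
  have hP : ∀ z, ∀ f ∈ P, Rt z f ∈ P := fun z f hf => by
    have : P ≤ P.comap (Rt z).toLinearMap := iSup_le fun m => by
      rintro _ ⟨v, rfl⟩
      exact le_iSup (fun m => LinearMap.range (c m)) m ⟨act σ z v, (hcz m z v).symm⟩
    exact this hf
  obtain ⟨s, hs, hst⟩ := exists_section i hc P hP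
  obtain ⟨t, ht⟩ := Module.Finite.iff_fg.1 (Module.Finite.range s)
  obtain ⟨W, hW, htW, hWst⟩ := exists_stable_Rt t
  have hsW : ∀ f, s f ∈ W := fun f => by
    have : Submodule.span k (t : Set (Coord G)) ≤ W := Submodule.span_le.2 htW
    exact this (ht ▸ LinearMap.mem_range_self s f)
  let c' : J → (V →ₗ[k] P) := fun m =>
    (c m).codRestrict P fun v => le_iSup (fun m => LinearMap.range (c m)) m ⟨v, rfl⟩
  let φ : V →ₗ[k] (J → W) := LinearMap.pi fun m => (s.codRestrict W hsW) ∘ₗ c' m
  refine ⟨J → W, inferInstance, inferInstance, inferInstance, piMod (funMod hWst) J, φ, ?_,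
    fun B _ _ h x => equivariant_of_pts (piMod (funMod hWst) J) i σ φ (fun z v => ?_) B h x⟩
  · refine (injective_iff_map_eq_zero φ).2 fun v hv => b.repr.injective (Finsupp.ext fun m => ?_)
    have h1 : s (c' m v) = 0 := congrArg Subtype.val (congrFun hv m)
    have h2 := congrArg (valHom (1 : Pts H)) (hs (c' m v))
    rw [h1, map_zero, map_zero, show ((c' m v : P) : Coord H) = c m v from rfl, val_coef, act_one] at h2
    rw [map_zero, Finsupp.zero_apply]
    exact h2.symm
  · funext m
    refine Subtype.ext ?_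
    rw [act_piMod, act_funMod]
    show s (c' m (act σ z v)) = Rt (z ≫ i) (s (c' m v))
    rw [hst]
    exact congrArg s (Subtype.ext (hcz m z v).symm)

theorem crit_of_extends
    (hall : ∀ (V : Type u) [AddCommGroup V] [Module k V] [Module.Finite k V] (σ : VecGrp.GMod H V), σ.ExtendsAlong i) :
    CRIT i := by
  have : IsAffine H.left := isAffine_of_isAffineHom i.left
  intro D hD
  obtain ⟨χ, hχ, hf⟩ := exists_char (res i D)
    (fun z => by rw [val_res]; exact hD.ne_zero i ⟨z, rfl⟩)
    (fun z w => by rw [val_res, val_res, val_res, MonObj.mul_comp]; exact hD.mul i ⟨z, rfl⟩ ⟨w, rfl⟩)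
  obtain ⟨W, _, _, _, ρ, emb, hι, heq⟩ := hall k (invCharMod χ)
  have hw : (emb 1) ≠ 0 := fun h => one_ne_zero (hι (h.trans (map_zero emb).symm))
  have hact : ∀ z : Pts H, act ρ (z ≫ i) ((emb 1)) = valHom z (chiFn χ⁻¹) • (emb 1) := fun z => by
    have h1 := congrArg (TensorProduct.lid k W) (heq k z ((1 : k) ⊗ₜ[k] (1 : k)))
    rw [ρ_one_tmul, LinearMap.baseChange_tmul, LinearMap.baseChange_tmul, ρ_one_tmul, TensorProduct.lid_tmul,
      TensorProduct.lid_tmul, one_smul, one_smul, act_invCharMod, ← smul_eq_mul, map_smul] at h1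
    exact h1.symm
  obtain ⟨e, he1, he⟩ := exists_fun_of_vec i (chiFn χ⁻¹) ρ ((emb 1)) hw
    (fun B _ _ t => ρ_smul_of_pts ρ i ((emb 1)) (chiFn χ⁻¹) hact B t)
  refine ⟨e, he1, fun x hp hhp => ?_⟩
  obtain ⟨z, rfl⟩ := hhp
  have h2 : valHom z (chiFn χ⁻¹) * valHom z (chiFn χ) = 1 := chiVal_inv χ z
  rw [he, ← val_res, ← hf]
  calc valHom z (chiFn χ⁻¹) * valHom x e * valHom z (chiFn χ)
      = (valHom z (chiFn χ⁻¹) * valHom z (chiFn χ)) * valHom x e := by ring
    _ = valHom x e := by rw [h2, _root_.one_mul]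

end Groth.Agent.AGFObs
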