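import Groth.Agent.AGFObs.OpenSub
import Groth.Agent.S0573
import Mathlib.RingTheory.Adjoin.Tower

/-!
Invariants and subgroups of finite index.
-/

set_option autoImplicit false

universe u

noncomputable section

open CategoryTheory MonoidalCategory CartesianMonoidalCategory MonObj GrpObj AlgebraicGeometry
open scoped TensorProduct
open Groth.Agent.AGFPoints.Basic Groth.Agent.AGFLang

namespace Groth.Agent.AGFObs.FiniteIndex

theorem isNagata_field (F : Type u) [Field F] : CAlg.IsNagata F := by
  refine ⟨inferInstance, fun p hp => ?_⟩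
  obtain rfl : p = ⊥ := (Ideal.eq_bot_or_top p).resolve_right hp.ne_top
  intro L _ _ _ _ _
  haveI : Module.Finite (F ⧸ (⊥ : Ideal F)) (FractionRing (F ⧸ (⊥ : Ideal F))) := by
    refine Module.Finite.of_surjective (Algebra.linearMap _ _) fun z => ?_
    obtain ⟨a, b, hb, rfl⟩ := IsFractionRing.div_surjective (A := F ⧸ (⊥ : Ideal F)) z
    haveI : (⊥ : Ideal F).IsMaximal := Ideal.bot_isMaximal
    obtain ⟨c, hc⟩ := ((Ideal.Quotient.maximal_ideal_iff_isField_quotient _).mp ‹_›).mul_inv_cancel
      (nonZeroDivisors.ne_zero hb)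
    refine ⟨a * c, ?_⟩
    have hb0 : algebraMap (F ⧸ (⊥ : Ideal F)) (FractionRing (F ⧸ (⊥ : Ideal F))) b ≠ 0 := fun h =>
      nonZeroDivisors.ne_zero hb (IsFractionRing.injective _ _ (by rw [h, map_zero]))
    rw [Algebra.linearMap_apply, eq_div_iff hb0, ← map_mul, _root_.mul_assoc, mul_comm c b, hc, _root_.mul_one]
  haveI : Module.Finite (F ⧸ (⊥ : Ideal F)) L :=
    Module.Finite.trans (FractionRing (F ⧸ (⊥ : Ideal F))) L
  haveI : IsNoetherianRing (F ⧸ (⊥ : Ideal F)) := Ideal.Quotient.isNoetherianRing _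
  exact Module.Finite.of_injective (integralClosure (F ⧸ (⊥ : Ideal F)) L).val.toLinearMap Subtype.val_injective

/-- finite generation passes along integral extensions inside a reduced algebra of finite type -/
theorem fg_iff_of_integral {k A : Type u} [Field k] [CommRing A] [Algebra k A] [Algebra.FiniteType k A]
    [_root_.IsReduced A] {C D : Subalgebra k A} (hle : C ≤ D)
    (hint : ∀ d ∈ D, _root_.IsIntegral C d) : C.FG ↔ D.FG := by
  letI : Algebra C D := (Subalgebra.inclusion hle).toRingHom.toAlgebra
  have : IsScalarTower k C D := IsScalarTower.of_algebraMap_eq fun _ => rfl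
  have : IsScalarTower C D A := IsScalarTower.of_algebraMap_eq fun _ => rfl
  constructor
  · intro hC
    have : Algebra.FiniteType k C := (Subalgebra.fg_iff_finiteType C).1 hC
    have hN : CAlg.IsNagata C := Nagata.FiniteType.isNagata (isNagata_field k) C
    have : IsNoetherianRing C := Algebra.FiniteType.isNoetherianRing k C
    have : Algebra.FiniteType C A := Algebra.FiniteType.of_restrictScalars_finiteType k C A
    have := Groth.Agent.S0573.result C hN A
    let j : D →ₗ[C] integralClosure C A :=
      { toFun := fun d => ⟨d, hint d d.2⟩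
        map_add' := fun _ _ => rfl
        map_smul' := fun _ _ => rfl }
    have : Module.Finite C D := Module.Finite.of_injective j fun a b h => Subtype.ext (congrArg (fun z : integralClosure C A => (z : A)) h)
    exact (Subalgebra.fg_iff_finiteType D).2 (Algebra.FiniteType.trans (A := D) inferInstance (inferInstance : Algebra.FiniteType C D))
  · intro hD
    have : Algebra.FiniteType k D := (Subalgebra.fg_iff_finiteType D).1 hD
    have : Algebra.FiniteType C D := Algebra.FiniteType.of_restrictScalars_finiteType k C D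
    have : Algebra.IsIntegral C D := ⟨fun d => (isIntegral_algHom_iff (IsScalarTower.toAlgHom C D A) Subtype.val_injective).1 (hint d d.2)⟩
    have : Module.Finite C D := Algebra.IsIntegral.finite
    have h := fg_of_fg_of_fg k C D Algebra.FiniteType.out Module.Finite.fg_top (Subalgebra.inclusion_injective hle)
    exact (Subalgebra.fg_iff_finiteType C).2 ⟨h⟩

variable {k : Type u} [Field k] [IsAlgClosed k] {G H : Over (Spec (CommRingCat.of k))} [GrpObj G] [IsAffine G.left]
  [Smooth G.hom] [GrpObj H] [Smooth H.hom] (i : H ⟶ G) [IsMonHom i] [IsClosedImmersion i.left]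

/-- a subgroup of finite index has integral invariants -/
theorem integral_of_finite_index {H₀ : Over (Spec (CommRingCat.of k))} [GrpObj H₀] (j : H₀ ⟶ H) [IsMonHom j]
    [Finite (Pts H ⧸ HP j)] :
    AGFObs.Inv i ≤ AGFObs.Inv (j ≫ i) ∧ ∀ f ∈ AGFObs.Inv (j ≫ i), _root_.IsIntegral (AGFObs.Inv i) f := by
  classical
  refine ⟨fun f hf x h hh => ?_, fun f hf => ?_⟩
  · obtain ⟨z, rfl⟩ := hh
    exact hf x _ ⟨z ≫ j, Category.assoc _ _ _⟩
  let Q := Pts H ⧸ HP j
  have := Fintype.ofFinite Q
  have hcoset : ∀ (x : Pts G) (z : Pts H), valHom (x * (z ≫ i)) f = valHom (x * ((QuotientGroup.mk z : Q).out ≫ i)) f := fun x z => by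
    obtain ⟨w, hw⟩ : (z⁻¹ * (QuotientGroup.mk z : Q).out) ∈ HP j := QuotientGroup.eq.1 (QuotientGroup.out_eq' _).symm
    have e : ((QuotientGroup.mk z : Q).out ≫ i) = (z ≫ i) * (w ≫ (j ≫ i)) := by
      rw [← Category.assoc, hw, ← MonObj.mul_comp, mul_inv_cancel_left]
    rw [e, ← _root_.mul_assoc]
    exact (hf _ _ ⟨w, rfl⟩).symm
  let F : Q → Coord G := fun q => Rt (q.out ≫ i) f
  let P : Polynomial (Coord G) := ∏ q, (Polynomial.X - Polynomial.C (F q))
  have hcoef : ∀ n, P.coeff n ∈ AGFObs.Inv i := fun n x h hh => by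
    obtain ⟨z, rfl⟩ := hh
    have key : P.map (valHom (x * (z ≫ i))).toRingHom = P.map (valHom x).toRingHom := by
      simp only [P, Polynomial.map_prod, Polynomial.map_sub, Polynomial.map_X, Polynomial.map_C]
      refine Fintype.prod_equiv (MulAction.toPerm z) _ _ fun q => ?_
      congr 2
      show valHom (x * (z ≫ i)) (F q) = valHom x (F (z • q))
      rw [val_Rt, val_Rt, _root_.mul_assoc, ← MonObj.mul_comp z q.out i, hcoset x (z * q.out)]
      congr 2
      conv_rhs => rw [← QuotientGroup.out_eq' q]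
      rfl
    have := congrArg (fun p => Polynomial.coeff p n) key
    rw [Polynomial.coeff_map, Polynomial.coeff_map] at this
    exact this
  have hlift : P ∈ Polynomial.lifts (AGFObs.Inv i).val.toRingHom :=
    (Polynomial.lifts_iff_coeff_lifts P).2 fun n => ⟨⟨_, hcoef n⟩, rfl⟩
  have : Nontrivial (Coord G) := (valHom (1 : Pts G)).toRingHom.domain_nontrivial
  obtain ⟨P', hP', -, hmonic⟩ := Polynomial.lifts_and_degree_eq_and_monic hlift
    (Polynomial.monic_prod_of_monic _ _ fun q _ => Polynomial.monic_X_sub_C _)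
  refine ⟨P', hmonic, ?_⟩
  show Polynomial.eval₂ (AGFObs.Inv i).val.toRingHom f P' = 0
  rw [Polynomial.eval₂_eq_eval_map, hP', Polynomial.eval_prod]
  refine Finset.prod_eq_zero (Finset.mem_univ (QuotientGroup.mk 1 : Q)) ?_
  rw [Polynomial.eval_sub, Polynomial.eval_X, Polynomial.eval_C, sub_eq_zero]
  refine ext_pts fun x => ?_
  rw [val_Rt, ← hcoset, MonObj.one_comp, _root_.mul_one]

end Groth.Agent.AGFObs.FiniteIndex
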