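import Groth.Agent.AGFObs.Additive
import Groth.Agent.AGFObs.Coact

/-!
Connected groups without subtori fix non-zero vectors of rational representations.
-/

set_option autoImplicit false

universe u

noncomputable section

open CategoryTheory MonoidalCategory CartesianMonoidalCategory MonObj GrpObj AlgebraicGeometry Limits
open scoped TensorProduct
open Groth.Agent.AGFPoints.Basic Groth.Agent.AGFLang

namespace Groth.Agent.AGFObs.Fixed

open Groth.Agent.Borel50 Groth.Agent.Borel50.Pts Groth.Agent.Borel50.Lin Groth.Agent.Borel50.Density WithConv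
open Groth.Agent.AGFObs.Additive

attribute [local instance] ptTop

variable {k : Type u} [Field k] [IsAlgClosed k] {U : Over (Spec (CommRingCat.of k))} [GrpObj U] [IsAffine U.left]
  [Smooth U.hom] [ConnectedSpace U.left]

/-- a unipotent Hopf algebra with the same points -/
theorem exists_model (hU : Red.HasNoSubtorus k U) :
    ∃ (A : Type u) (_ : CommRing A) (_ : HopfAlgebra k A), Algebra.FiniteType k A ∧ _root_.IsReduced A ∧
      HopfRep.IsUnipotent k A ∧ ∃ (φ : Pts U ≃* WithConv (A →ₐ[k] k)) (ε : Coord U →ₗ[k] A),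
        ∀ z f, (φ z).ofConv (ε f) = valHom z f := by
  classical
  obtain ⟨A, hA, e, he⟩ := AffGrp.Bridge.exists_iso (R := CommRingCat.of k) U
  let S := (Spec A).asOver (Spec (CommRingCat.of k))
  have : IsIso e.hom.left := inferInstanceAs (IsIso ((Over.forget _).map e.hom))
  have : AlgebraicGeometry.IsReduced (Spec A) := by
    have := GrpScheme.HomFlat.isReduced_of_smooth U.hom
    let φ : Spec A ⟶ U.left := e.hom.left
    have : IsIso φ := ‹IsIso e.hom.left›
    exact isReduced_of_isOpenImmersion φ
  have : _root_.IsReduced A := (affine_isReduced_iff A).1 inferInstance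
  have : Algebra.FiniteType k A := by
    have h : LocallyOfFiniteType S.hom := by rw [← Over.w e.hom]; infer_instance
    have h' : LocallyOfFiniteType (Spec.map (CommRingCat.ofHom (algebraMap k A))) := h
    rw [HasRingHomProperty.Spec_iff (P := @LocallyOfFiniteType)] at h'
    exact RingHom.finiteType_algebraMap.1 h'
  let ee : (Spec (CommRingCat.of k)).asOver (Spec (CommRingCat.of k)) ≅ 𝟙_ (Over (Spec (CommRingCat.of k))) :=
    Over.isoMk (Iso.refl _) (by
      show 𝟙 _ ≫ 𝟙 _ = Spec.map (CommRingCat.ofHom (algebraMap k k))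
      simp)
  let φ : Pt U ≃* WithConv (A →ₐ[k] k) :=
    { toFun := fun g => Spec.mapMulEquiv.symm (ee.hom ≫ g ≫ e.inv)
      invFun := fun w => ee.inv ≫ Spec.mapMulEquiv w ≫ e.hom
      left_inv := fun g => by simp
      right_inv := fun w => by
        show Spec.mapMulEquiv.symm (ee.hom ≫ (ee.inv ≫ Spec.mapMulEquiv w ≫ e.hom) ≫ e.inv) = w
        simp
      map_mul' := fun g h => by
        rw [← map_mul, ← MonObj.comp_mul, ← MonObj.mul_comp] }
  let e0 : VecGrp.pt k k ≅ 𝟙_ (Over (Spec (CommRingCat.of k))) :=
    Over.isoMk (Iso.refl _) (by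
      show 𝟙 _ ≫ 𝟙 _ = Spec.map (CommRingCat.ofHom (algebraMap k k))
      simp)
  let ψ : Pts U ≃* Pt U :=
    { toFun := fun g => e0.inv ≫ g
      invFun := fun g => e0.hom ≫ g
      left_inv := fun g => by simp
      right_inv := fun g => by simp
      map_mul' := fun g h => MonObj.comp_mul _ _ _ }
  have hunip : HopfRep.IsUnipotent k A := (Groth.Agent.S5423.result k A).2 fun g V _ _ _ _ => by
    by_contra hg
    obtain ⟨ℓ, hℓ, hℓk, f, hf⟩ := LieUnip.exists_mu_of_not_nilpotent g V hg
    have : Fact ℓ.Prime := ⟨hℓ⟩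
    haveI : NeZero ℓ := ⟨hℓ.ne_zero⟩
    haveI : NeZero (ℓ : k) := ⟨hℓk⟩
    obtain ⟨ζ, hζ⟩ := HasEnoughRootsOfUnity.exists_primitiveRoot k ℓ
    let c : Multiplicative (ZMod ℓ) →* k := (AddChar.zmodChar ℓ hζ.pow_eq_one).toMonoidHom
    let χ : MonoidAlgebra k (Multiplicative (ZMod ℓ)) →ₐ[k] k := MonoidAlgebra.lift k k _ c
    let w : WithConv (A →ₐ[k] k) := toConv (χ.comp (f : A →ₐ[k] MonoidAlgebra k (Multiplicative (ZMod ℓ))))
    have hpow : ∀ m : ℕ, w ^ m = toConv ((MonoidAlgebra.lift k k _ (c ^ m)).comp
        (f : A →ₐ[k] MonoidAlgebra k (Multiplicative (ZMod ℓ)))) := by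
      intro m
      induction m with
      | zero =>
        rw [pow_zero, pow_zero]
        refine WithConv.ofConv_injective (AlgHom.ext fun a => ?_)
        show Bialgebra.counitAlgHom k A a = MonoidAlgebra.lift k k _ (1 : Multiplicative (ZMod ℓ) →* k) (f a)
        rw [Bialgebra.counitAlgHom_apply, ← CoalgHomClass.counit_comp_apply f a]
        generalize f a = z
        induction z using MonoidAlgebra.induction_linear with
        | zero => simp
        | add x y hx hy => simp only [map_add, hx, hy]
        | single m r => simp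
      | succ m ih =>
        rw [pow_succ, ih, pow_succ]
        refine WithConv.ofConv_injective ?_
        have hd := AlgHom.convMul_comp_bialgHom_distrib (toConv (MonoidAlgebra.lift k k _ (c ^ m)))
          (toConv χ) f
        refine (show _ = _ from hd.symm).trans ?_
        refine congrArg (fun t : MonoidAlgebra k (Multiplicative (ZMod ℓ)) →ₐ[k] k => t.comp _) ?_
        apply MonoidAlgebra.algHom_ext
        case single_one_left => exact Subsingleton.elim _ _
        intro x
        rw [AlgHom.convMul_apply]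
        simp [χ]
    have hw : w ^ ℓ = 1 := by
      rw [hpow, ← pow_zero w, hpow]
      congr 3
      refine MonoidHom.ext fun x => ?_
      rw [MonoidHom.pow_apply, pow_zero, MonoidHom.one_apply]
      obtain ⟨x, rfl⟩ := Multiplicative.ofAdd.surjective x
      show (AddChar.zmodChar ℓ hζ.pow_eq_one x) ^ ℓ = 1
      rw [AddChar.zmodChar_apply, ← pow_mul, mul_comm, pow_mul, hζ.pow_eq_one, one_pow]
    have h1 : φ.symm w = 1 := no_torsion hU hℓk (by rw [← map_pow, hw, map_one])
    have hw1 : w = 1 := by rw [← φ.apply_symm_apply w, h1, map_one]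
    rw [← pow_one w, ← pow_zero w, hpow, hpow] at hw1
    obtain ⟨a, ha⟩ := hf (MonoidAlgebra.single (Multiplicative.ofAdd (1 : ZMod ℓ)) 1)
    have := DFunLike.congr_fun (congrArg WithConv.ofConv hw1) a
    simp only [AlgHom.comp_apply] at this
    rw [show (f : A →ₐ[k] MonoidAlgebra k (Multiplicative (ZMod ℓ))) a = f a from rfl, ha] at this
    simp only [MonoidAlgebra.lift_single, one_smul, pow_one, pow_zero, MonoidHom.one_apply] at this
    refine hζ.ne_one hℓ.one_lt ?_
    have e1 : c (Multiplicative.ofAdd (1 : ZMod ℓ)) = ζ := by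
      show AddChar.zmodChar ℓ hζ.pow_eq_one 1 = ζ
      rw [AddChar.zmodChar_apply, ZMod.val_one, pow_one]
    rw [← e1, this]
  have hval : ∀ (z : Pts U) (f : Coord U),
      ((ψ.trans φ) z).ofConv ((Scheme.ΓSpecIso A).hom (e.hom.left.appTop f)) = valHom z f := fun z f => by
    let w := (ψ.trans φ) z
    have hz : (Spec.mapMulEquiv w).left = (z ≫ e.inv).left := by
      show (Spec.mapMulEquiv (Spec.mapMulEquiv.symm (ee.hom ≫ (e0.inv ≫ z) ≫ e.inv))).left = _
      rw [MulEquiv.apply_symm_apply]
      simp [ee, e0]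
      exact Category.id_comp _
    have hzz : z.left = (z ≫ e.inv).left ≫ e.hom.left := by
      rw [← Over.comp_left, Category.assoc, e.inv_hom_id, Category.comp_id]
    show _ = (Scheme.ΓSpecIso (CommRingCat.of k)).hom (z.left.appTop f)
    rw [hzz, ← hz]
    refine ((congrArg (Scheme.ΓSpecIso (CommRingCat.of k)).hom ?_).trans
      (Iso.inv_hom_id_apply (Scheme.ΓSpecIso (CommRingCat.of k)) _)).symm
    refine Eq.trans ?_ (Comod.QuotAffine.appTop_glob w.ofConv.toRingHom ((Scheme.ΓSpecIso A).hom (e.hom.left.appTop f)))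
    refine congrArg (Spec.mapMulEquiv w).left.appTop ?_
    exact (Iso.hom_inv_id_apply (Scheme.ΓSpecIso A) _).symm
  have hεk : ∀ (c : k) (f : Coord U), (Scheme.ΓSpecIso A).hom (e.hom.left.appTop (c • f : Coord U)) =
      c • (Scheme.ΓSpecIso A).hom (e.hom.left.appTop f) := fun c f => by
    refine UnipLib.ext_pts (k := k) fun g => ?_
    have hg : ∀ f' : Coord U, g ((Scheme.ΓSpecIso A).hom (e.hom.left.appTop f')) =
        valHom ((ψ.trans φ).symm (toConv g)) f' := fun f' => by
      rw [← hval ((ψ.trans φ).symm (toConv g)) f', MulEquiv.apply_symm_apply]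
    rw [map_smul, hg, hg, map_smul]
  exact ⟨A, inferInstance, inferInstance, inferInstance, inferInstance, hunip, ψ.trans φ,
    { toFun := fun f => (Scheme.ΓSpecIso A).hom (e.hom.left.appTop f)
      map_add' := fun f g => (congrArg _ (map_add e.hom.left.appTop.hom f g)).trans (map_add (Scheme.ΓSpecIso A).hom.hom _ _)
      map_smul' := hεk }, fun z f => hval z f⟩

/-- a non-zero finite rational representation has a non-zero fixed vector -/
theorem exists_fixed (hU : Red.HasNoSubtorus k U) {V : Type u} [AddCommGroup V] [Module k V] [Module.Finite k V]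
    [Nontrivial V] (a : Pts U → V →ₗ[k] V) (h1 : ∀ v, a 1 v = v) (hm : ∀ g h v, a (g * h) v = a g (a h v))
    (hr : ∀ (φ : Module.Dual k V) (v : V), ∃ c : Coord U, ∀ z, valHom z c = φ (a z v)) :
    ∃ v : V, v ≠ 0 ∧ ∀ z, a z v = v := by
  classical
  obtain ⟨A, _, _, _, _, hunip, φ, ε, hε⟩ := exists_model hU
  let b := Module.finBasis k V
  choose c hc using hr
  have hpt : ∀ (g : A →ₐ[k] k) (i : Fin (Module.finrank k V)) (v : V),
      g (ε (c (b.coord i) v)) = b.coord i (a (φ.symm (toConv g)) v) := fun g i v => by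
    rw [← hc, ← hε (φ.symm (toConv g)), MulEquiv.apply_symm_apply]
  let co : V →ₗ[k] V ⊗[k] A :=
    { toFun := fun v => ∑ i, b i ⊗ₜ[k] ε (c (b.coord i) v)
      map_add' := fun v w => by
        rw [← Finset.sum_add_distrib]
        refine Finset.sum_congr rfl fun i _ => ?_
        rw [← TensorProduct.tmul_add]
        congr 1
        refine UnipLib.ext_pts (k := k) fun g => ?_
        rw [map_add, hpt, hpt, hpt, map_add, map_add]
      map_smul' := fun r v => by
        rw [RingHom.id_apply, Finset.smul_sum]
        refine Finset.sum_congr rfl fun i _ => ?_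
        rw [← TensorProduct.tmul_smul]
        congr 1
        refine UnipLib.ext_pts (k := k) fun g => ?_
        rw [map_smul, hpt, hpt, map_smul, map_smul] }
  letI : HopfRep.Comod k A V :=
    { coact := co
      coassoc := by
        refine LinearMap.ext fun v => ?_
        show (TensorProduct.assoc k V A A) (co.rTensor A (∑ i, b i ⊗ₜ[k] ε (c (b.coord i) v))) =
          (CoalgebraStruct.comul (R := k) (A := A)).lTensor V (∑ i, b i ⊗ₜ[k] ε (c (b.coord i) v))
        simp only [map_sum, LinearMap.rTensor_tmul, LinearMap.lTensor_tmul]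
        simp only [co, LinearMap.coe_mk, AddHom.coe_mk, TensorProduct.sum_tmul, map_sum, TensorProduct.assoc_tmul]
        rw [Finset.sum_comm]
        refine Finset.sum_congr rfl fun i _ => ?_
        rw [← TensorProduct.tmul_sum]
        congr 1
        refine UnipLib.tensor_ext (k := k) fun x y => ?_
        have e1 : Algebra.TensorProduct.lift x y (fun _ _ => Commute.all _ _) (CoalgebraStruct.comul (R := k) (ε (c (b.coord i) v))) =
            (toConv x * toConv y).ofConv (ε (c (b.coord i) v)) := by
          rw [AlgHom.convMul_apply]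
        rw [e1, map_sum, hpt, toConv_ofConv, map_mul, hm]
        simp only [Algebra.TensorProduct.lift_tmul, hpt]
        conv_rhs => rw [← b.sum_repr (a (φ.symm (toConv y)) v), map_sum, map_sum]
        refine Finset.sum_congr rfl fun j _ => ?_
        rw [map_smul, map_smul, smul_eq_mul, mul_comm]
        rfl
      counit_comp := by
        refine LinearMap.ext fun v => ?_
        show (CoalgebraStruct.counit (R := k) (A := A)).lTensor V (∑ i, b i ⊗ₜ[k] ε (c (b.coord i) v)) = v ⊗ₜ[k] (1 : k)
        simp only [map_sum, LinearMap.lTensor_tmul]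
        conv_rhs => rw [← b.sum_repr v, TensorProduct.sum_tmul]
        refine Finset.sum_congr rfl fun i _ => ?_
        rw [TensorProduct.smul_tmul, smul_eq_mul, _root_.mul_one]
        congr 1
        show Bialgebra.counitAlgHom k A (ε (c (b.coord i) v)) = _
        rw [hpt, show toConv (Bialgebra.counitAlgHom k A) = (1 : WithConv (A →ₐ[k] k)) from rfl, map_one, h1]
        rfl }
  obtain ⟨v, hv, hv0⟩ := (Submodule.ne_bot_iff _).1 (hunip V inferInstance inferInstance)
  refine ⟨v, hv0, fun z => b.ext_elem fun j => ?_⟩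
  have h := congrArg (TensorProduct.lid k A ∘ (b.coord j).rTensor A) (show co v = v ⊗ₜ[k] (1 : A) from hv)
  simp [co, map_sum, Finsupp.single_apply] at h
  have h2 := congrArg (φ z).ofConv h
  rw [hpt, toConv_ofConv, MulEquiv.symm_apply_apply, map_smul, map_one, smul_eq_mul, _root_.mul_one] at h2
  exact h2

end Groth.Agent.AGFObs.Fixed
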