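import Groth.Agent.AGFObs.Coact
import Groth.Agent.GrpScheme.DiagRep

/-!
Homomorphisms to the general linear group from matrices of functions.
-/

set_option autoImplicit false

universe u

noncomputable section

open CategoryTheory MonoidalCategory CartesianMonoidalCategory MonObj GrpObj AlgebraicGeometry
open scoped TensorProduct
open Groth.Agent.AGFPoints.Basic Groth.Agent.AGFLang Groth.Agent.GrpScheme.DiagRep

namespace Groth.Agent.AGFObs.GlHom

variable {k : Type u} [Field k]

/-- the general linear group -/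
abbrev GL' (k : Type u) [Field k] (n : ℕ) : Over (Spec (CommRingCat.of k)) := CoactBr.sp k (CoordGrp.GLn n k)

theorem smooth_GLn (n : ℕ) : Algebra.Smooth k (CoordGrp.GLn n k) := by
  have hft : Algebra.FiniteType k (CoordGrp.GLn n k) :=
    have : Algebra.FiniteType k (CoordGrp.GLb n k) :=
      inferInstanceAs (Algebra.FiniteType k (MvPolynomial (CoordGrp.GLPoly.Idx n) k))
    .of_surjective (CoordGrp.GLn.mk n k) Ideal.Quotient.mk_surjective
  have : Algebra.FormallySmooth k (CoordGrp.GLn n k) := by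
    refine .of_comp_surjective fun C _ _ I hI f => ?_
    have hex : ∀ p : Fin n × Fin n, ∃ c : C, Ideal.Quotient.mk I c = f (CoordGrp.GLn.X p.1 p.2) :=
      fun p => Ideal.Quotient.mk_surjective _
    choose M hM using hex
    obtain ⟨d, hd⟩ := Ideal.Quotient.mk_surjective (f CoordGrp.GLn.Dinv)
    let A : Matrix (Fin n) (Fin n) C := Matrix.of fun i j => M (i, j)
    have hdet : Ideal.Quotient.mk I A.det = f CoordGrp.GLn.det := by
      rw [CoordGrp.GLn.det_eq, AlgHom.map_det, RingHom.map_det]
      congr 1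
      exact Matrix.ext fun i j => hM (i, j)
    have he : A.det * d - 1 ∈ I := by
      rw [← Ideal.Quotient.eq, map_mul, hdet, hd, ← map_mul, CoordGrp.GLn.det_mul_Dinv, map_one, map_one]
    have he2 : (A.det * d - 1) * (A.det * d - 1) = 0 := by
      have := Ideal.mul_mem_mul he he
      rwa [← pow_two I, hI, Ideal.mem_bot] at this
    refine ⟨CoordGrp.GLn.pt n k A (d * (2 - A.det * d)) (by linear_combination -he2), ?_⟩
    refine CoordGrp.GLn.algHom_ext (fun i j => ?_) ?_
    · rw [AlgHom.comp_apply, CoordGrp.GLn.pt_X, Ideal.Quotient.mkₐ_eq_mk]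
      exact hM (i, j)
    · rw [AlgHom.comp_apply, CoordGrp.GLn.pt_Dinv, Ideal.Quotient.mkₐ_eq_mk, map_mul, hd]
      have : Ideal.Quotient.mk I (A.det * d) = 1 := by
        rw [← map_one (Ideal.Quotient.mk I), Ideal.Quotient.eq]; exact he
      rw [map_sub, map_ofNat, this]
      ring
  exact ⟨this, Algebra.FinitePresentation.of_finiteType.1 hft⟩

instance smooth_GL' (n : ℕ) : Smooth (GL' k n).hom :=
  (HasRingHomProperty.Spec_iff (P := @Smooth)).2 (RingHom.smooth_algebraMap.2 (smooth_GLn n))

instance isAffine_GL' (n : ℕ) : IsAffine (GL' k n).left :=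
  inferInstanceAs (IsAffine (Spec (CommRingCat.of (CoordGrp.GLn n k))))

theorem map_valHom_eq {Y : Over (Spec (CommRingCat.of k))} {m : ℕ} (z : Pts Y) (A : Matrix (Fin m) (Fin m) (Coord Y)) :
    (A.map z.left.appTop).map (Scheme.ΓSpecIso (CommRingCat.of k)).hom = A.map (valHom z) :=
  Matrix.ext fun _ _ => rfl

/-- matrices of functions determined by points -/
theorem mat_ext {Y : Over (Spec (CommRingCat.of k))} [IsAlgClosed k] [IsAffine Y.left] [Smooth Y.hom] {m : ℕ}
    {A B : Matrix (Fin m) (Fin m) (Coord Y)} (h : ∀ z : Pts Y, A.map (valHom z) = B.map (valHom z)) : A = B :=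
  Matrix.ext fun i j => ext_pts fun z => congrFun (congrFun (h z) i) j

variable [IsAlgClosed k] {G : Over (Spec (CommRingCat.of k))} [GrpObj G] [IsAffine G.left] [Smooth G.hom]

theorem exists_glHom {n : ℕ} (A : Matrix (Fin n) (Fin n) (Coord G)) (h1 : A.map (valHom (1 : Pts G)) = 1)
    (hm : ∀ x y : Pts G, A.map (valHom (x * y)) = A.map (valHom x) * A.map (valHom y)) :
    ∃ r : G ⟶ GL' k n, IsMonHom r ∧ (glPts k n).mat r = A := by
  have hu : IsUnit A.det := by
    by_contra hne
    obtain ⟨M, hM, hle⟩ := exists_max_ideal_of_mem_nonunits (mem_nonunits_iff.2 hne)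
    obtain ⟨x, hx⟩ := exists_pt M (hm := hM)
    have h0 : valHom x A.det = 0 := RingHom.mem_ker.1 (hx ▸ hle)
    have h2 := congrArg Matrix.det (hm x x⁻¹)
    rw [mul_inv_cancel, h1, Matrix.det_one, Matrix.det_mul] at h2
    rw [AlgHom.map_det] at h0
    rw [show (A.map (valHom x)).det = 0 from h0, zero_mul] at h2
    exact one_ne_zero h2
  obtain ⟨r, hr⟩ := (glPts k n).mat_exists A hu
  have hmul : (fst G G * snd G G) ≫ r = (fst G G ≫ r) * (snd G G ≫ r) := by
    refine (glPts k n).mat_inj ?_
    rw [(glPts k n).mat_mul, (glPts k n).mat_comp, (glPts k n).mat_comp, (glPts k n).mat_comp, hr]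
    have : IsAffine (G ⊗ G).left := inferInstanceAs (IsAffine (Limits.pullback G.hom G.hom))
    have : Smooth (G ⊗ G).hom := inferInstanceAs (Smooth (Limits.pullback.fst G.hom G.hom ≫ G.hom))
    refine mat_ext (Y := G ⊗ G) fun w => ?_
    have key : ∀ P Q : Matrix (Fin n) (Fin n) (Coord (G ⊗ G)),
        (P * Q).map (valHom w) = P.map (valHom w) * Q.map (valHom w) := fun P Q => map_mul (valHom w).mapMatrix P Q
    refine Eq.trans ?_ (key _ _).symm
    show A.map (valHom (w ≫ (fst G G * snd G G))) = A.map (valHom (w ≫ fst G G)) * A.map (valHom (w ≫ snd G G))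
    rw [MonObj.comp_mul]
    exact hm _ _
  have hone : (1 : 𝟙_ (Over (Spec (CommRingCat.of k))) ⟶ G) ≫ r = 1 := by
    have h := congrArg (fun m => lift (1 : 𝟙_ (Over (Spec (CommRingCat.of k))) ⟶ G) 1 ≫ m) hmul
    simp only [← Category.assoc, MonObj.comp_mul, lift_fst, lift_snd, _root_.one_mul] at h
    exact left_eq_mul.1 h
  refine ⟨r, ⟨?_, ?_⟩, hr⟩
  · rw [MonObj.one_eq_one, MonObj.one_eq_one]; exact hone
  · rw [MonObj.mul_eq_mul, hmul, MonObj.mul_eq_mul, MonObj.comp_mul, tensorHom_fst, tensorHom_snd]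

end Groth.Agent.AGFObs.GlHom
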