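import Groth.Agent.AGFObs.Chev
import Groth.Prelude.Def_GmPts

/-!
Characters from semi-invariants.
-/

set_option autoImplicit false

universe u

noncomputable section

open CategoryTheory MonoidalCategory CartesianMonoidalCategory MonObj GrpObj AlgebraicGeometry
open scoped TensorProduct
open Groth.Agent.AGFPoints.Basic Groth.Agent.AGFLang

namespace Groth.Agent.AGFObs

variable {k : Type u} [Field k] {H : Over (Spec (CommRingCat.of k))}

/-- the value of a character as a function -/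
def chiFn (χ : H ⟶ Red.Gm (Spec (CommRingCat.of k))) : Coord H := Red.gmFn χ

theorem chiVal_eq {B : Type u} [CommRing B] [Algebra k B] (χ : H ⟶ Red.Gm (Spec (CommRingCat.of k)))
    (h : VecGrp.pt k B ⟶ H) : VecGrp.chiVal χ h = valHom h (chiFn χ) := rfl

theorem chiFn_ptOfUnit (v : (Coord H)ˣ) : chiFn (GmPts.ptOfUnit (T := H) (S := Spec (CommRingCat.of k)) v) = (v : Coord H) :=
  congrArg Units.val (GmPts.unitOfPt_ptOfUnit (T := H) (S := Spec (CommRingCat.of k)) v)

theorem gm_ext {χ χ' : H ⟶ Red.Gm (Spec (CommRingCat.of k))} (h : chiFn χ = chiFn χ') : χ = χ' :=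
  (GmPts.equiv H).injective (Units.ext h)

/-- a nowhere vanishing multiplicative function is a character -/
theorem exists_char [IsAlgClosed k] [GrpObj H] [IsAffine H.left] [Smooth H.hom] (f : Coord H)
    (hne : ∀ z : Pts H, valHom z f ≠ 0) (hmul : ∀ z w : Pts H, valHom (z * w) f = valHom z f * valHom w f) :
    ∃ χ : H ⟶ Red.Gm (Spec (CommRingCat.of k)), IsMonHom χ ∧ chiFn χ = f := by
  have hu : IsUnit f := by
    by_contra hf
    obtain ⟨m, hm, hle⟩ := Ideal.exists_le_maximal _ (Ideal.span_singleton_ne_top hf)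
    obtain ⟨z, rfl⟩ := exists_pt m
    exact hne z (hle (Ideal.mem_span_singleton_self f))
  let χ : H ⟶ Red.Gm (Spec (CommRingCat.of k)) := GmPts.ptOfUnit (T := H) hu.unit
  have hχ : chiFn χ = f := chiFn_ptOfUnit hu.unit
  refine ⟨χ, ?_, hχ⟩
  have hΔ : comul H f = f ⊗ₜ f := by
    refine sub_eq_zero.1 (tensor_eq_zero fun z => eq_zero_of_pts fun w => ?_)
    have e : ∀ u : Coord H ⊗[k] Coord H,
        valHom w (TensorProduct.lid k (Coord H) ((valHom z).toLinearMap.rTensor (Coord H) u)) =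
        Algebra.TensorProduct.lift (valHom z) (valHom w) (fun _ _ => Commute.all _ _) u := by
      intro u
      induction u with
      | zero => simp [-valHom_apply]
      | add a b ha hb => simp only [map_add, ha, hb]
      | tmul a b => simp [Algebra.smul_def, -valHom_apply]
    rw [map_sub, map_sub, map_sub, e, e, ← AlgHom.comp_apply, ← valHom_mul, hmul, Algebra.TensorProduct.lift_tmul,
      sub_self]
  have hB : ∀ (B : Type u) [CommRing B] [Algebra k B] (x y : VecGrp.pt k B ⟶ H),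
      valHom (x * y) f = valHom x f * valHom y f := fun B _ _ x y => by
    rw [valHom_mul, AlgHom.comp_apply, hΔ, Algebra.TensorProduct.lift_tmul]
  have hmulhom : μ[H] ≫ χ = (χ ⊗ₘ χ) ≫ μ[Red.Gm (Spec (CommRingCat.of k))] := by
    have e : (χ ⊗ₘ χ) ≫ μ[Red.Gm (Spec (CommRingCat.of k))] = (fst H H ≫ χ) * (snd H H ≫ χ) := by
      rw [Hom.mul_def]
      congr 1
    rw [e]
    have := isAffine_tensor (X := H) (Y := H)
    refine (GmPts.equiv (H ⊗ H)).injective (Units.ext (fn_ext fun B _ _ z => ?_))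
    rw [GmPts.equiv_apply, GmPts.equiv_apply, GmPts.val_unitOfPt, GmPts.val_unitOfPt, GmPts.gmFn_mul]
    show valHom (z ≫ μ[H]) (chiFn χ) = valHom z (chiFn (fst H H ≫ χ) * chiFn (snd H H ≫ χ))
    rw [map_mul]
    show valHom (z ≫ μ[H]) (chiFn χ) = valHom (z ≫ fst H H) (chiFn χ) * valHom (z ≫ snd H H) (chiFn χ)
    rw [hχ, ← hB]
    congr 2
    rw [Hom.mul_def]
    exact (congrArg (· ≫ μ[H]) (CartesianMonoidalCategory.hom_ext _ _ (by simp) (by simp))).trans rfl
  refine ⟨?_, hmulhom⟩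
  have hη : (1 : 𝟙_ (Over (Spec (CommRingCat.of k))) ⟶ H) = η[H] := by
    rw [Hom.one_def, toUnit_unit, Category.id_comp]
  have hηG : (1 : 𝟙_ (Over (Spec (CommRingCat.of k))) ⟶ Red.Gm (Spec (CommRingCat.of k))) =
      η[Red.Gm (Spec (CommRingCat.of k))] := by
    rw [Hom.one_def, toUnit_unit, Category.id_comp]
  let a : 𝟙_ (Over (Spec (CommRingCat.of k))) ⟶ Red.Gm (Spec (CommRingCat.of k)) := η[H] ≫ χ
  have h1 : a * a = a := by
    have : η[H] ≫ χ = (lift η[H] η[H] ≫ μ[H]) ≫ χ := by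
      rw [← Hom.mul_def]
      conv_rhs => rw [← hη]
      rw [_root_.one_mul, hη]
    show a * a = η[H] ≫ χ
    rw [this, Category.assoc, hmulhom, ← Category.assoc, Hom.mul_def]
    congr 1
    ext <;> simp [a]
  rw [← hηG]
  show a = 1
  calc a = (a⁻¹ * a) * a := by rw [inv_mul_cancel, _root_.one_mul]
    _ = a⁻¹ * (a * a) := _root_.mul_assoc _ _ _
    _ = 1 := by rw [h1, inv_mul_cancel]

end Groth.Agent.AGFObs
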