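import Groth.Agent.AGFObs.Transfer
import Groth.Agent.AGFObs.AffQuot
import Mathlib.Algebra.MvPolynomial.Funext

/-!
Separation of invariants forbids primitives of non-zero additive functions.
-/

set_option autoImplicit false

universe u

noncomputable section

open CategoryTheory MonoidalCategory CartesianMonoidalCategory MonObj GrpObj AlgebraicGeometry
open scoped TensorProduct
open Groth.Agent.AGFPoints.Basic Groth.Agent.AGFLang

namespace Groth.Agent.AGFObs.NoPrim

variable {k : Type u} [Field k] [IsAlgClosed k] {G : Over (Spec (CommRingCat.of k))} [GrpObj G] [IsAffine G.left]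
  [Smooth G.hom]

/-- a coaction restricted to a stable subalgebra -/
theorem exists_restrict {A : Type u} [CommRing A] [Algebra k A] (δ : A →ₐ[k] Coord G ⊗[k] A) (S : Subalgebra k A)
    (hS : ∀ g : Pts G, ∀ f ∈ S, cAct δ g f ∈ S) :
    ∃ δ' : S →ₐ[k] Coord G ⊗[k] S, ∀ g f, (cAct δ' g f : A) = cAct δ g (f : A) := by
  let j : Coord G ⊗[k] S →ₐ[k] Coord G ⊗[k] A := Algebra.TensorProduct.map (AlgHom.id k _) S.val
  have hj : ∀ x, j x = S.val.toLinearMap.lTensor (Coord G) x := fun x => by
    induction x with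
    | zero => simp
    | add a b ha hb => simp only [map_add, ha, hb]
    | tmul a b => simp [j]
  have hinj : Function.Injective j := fun x y h => by
    rw [hj, hj] at h
    exact Module.Flat.lTensor_preserves_injective_linearMap (M := Coord G) _ Subtype.val_injective h
  have hmem : ∀ f : S, ∃ x, j x = δ (f : A) := fun f => by
    let W : Submodule k A := S.toSubmodule
    have h0 : W.mkQ.lTensor (Coord G) (δ (f : A)) = 0 := by
      refine tensor_eq_zero fun z => ?_
      rw [show (valHom z).toLinearMap.rTensor (A ⧸ W) (W.mkQ.lTensor (Coord G) (δ (f : A))) =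
          W.mkQ.lTensor k ((valHom z).toLinearMap.rTensor A (δ (f : A))) from by
            rw [← LinearMap.comp_apply, ← LinearMap.comp_apply (W.mkQ.lTensor k),
              LinearMap.rTensor_comp_lTensor, LinearMap.lTensor_comp_rTensor],
        ← (TensorProduct.lid k A).symm_apply_apply ((valHom z).toLinearMap.rTensor A _), ← cAct_eq]
      simp [(Submodule.Quotient.mk_eq_zero W).2 (hS z _ f.2)]
    obtain ⟨y, hy⟩ := (lTensor_exact (Coord G) (LinearMap.exact_subtype_mkQ W) W.mkQ_surjective _).1 h0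
    exact ⟨y, (hj y).trans hy⟩
  let e := AlgEquiv.ofInjective j hinj
  refine ⟨e.symm.toAlgHom.comp ((δ.comp S.val).codRestrict j.range fun f => hmem f), fun g f => ?_⟩
  have h2 : j (e.symm ⟨δ (f : A), hmem f⟩) = δ (f : A) := congrArg Subtype.val (e.apply_symm_apply _)
  rw [cAct_eq, cAct_eq, ← h2]
  have key : ∀ w, ((TensorProduct.lid k S ((valHom g).toLinearMap.rTensor S w) : S) : A) =
      TensorProduct.lid k A ((valHom g).toLinearMap.rTensor A (j w)) := fun w => by
    induction w with
    | zero => simp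
    | add a b ha hb => simp only [map_add, Subalgebra.coe_add, ha, hb]
    | tmul a b => simp [j, -valHom_apply]
  exact key _

/-- separation in a stable subalgebra -/
theorem exists_sep_stable {A : Type u} [CommRing A] [Algebra k A] (δ : A →ₐ[k] Coord G ⊗[k] A)
    (h1A : ∀ f, cAct δ (1 : Pts G) f = f) (hmA : ∀ g h f, cAct δ (g * h) f = cAct δ g (cAct δ h f))
    (S : Subalgebra k A) (hS : ∀ g : Pts G, ∀ f ∈ S, cAct δ g f ∈ S) [Algebra.FiniteType k S] [_root_.IsReduced S]
    (hG : VecGrp.IsReductiveGrp k G) (thmAbiv : AGF.ReductiveQuotSeparates k) (I₁ I₂ : Ideal S)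
    (hr₁ : I₁.IsRadical) (hr₂ : I₂.IsRadical)
    (hs₁ : ∀ g : Pts G, ∀ r ∈ I₁, (⟨cAct δ g r, hS g _ r.2⟩ : S) ∈ I₁)
    (hs₂ : ∀ g : Pts G, ∀ r ∈ I₂, (⟨cAct δ g r, hS g _ r.2⟩ : S) ∈ I₂) (htop : I₁ ⊔ I₂ = ⊤) :
    ∃ e f : S, e ∈ I₁ ∧ f ∈ I₂ ∧ e + f = 1 ∧ ∀ g : Pts G, cAct δ g (e : A) = e := by
  obtain ⟨δ', hδ'⟩ := exists_restrict δ S hS
  have h1 : ∀ f, cAct δ' (1 : Pts G) f = f := fun f => Subtype.ext (by rw [hδ', h1A])
  have hm : ∀ g h f, cAct δ' (g * h) f = cAct δ' g (cAct δ' h f) := fun g h f =>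
    Subtype.ext (by rw [hδ', hδ', hδ', hmA])
  have hst : ∀ I : Ideal S, (∀ g : Pts G, ∀ r ∈ I, (⟨cAct δ g r, hS g _ r.2⟩ : S) ∈ I) →
      (ofCoact δ' h1 hm).IsStable (𝟙 G) (I.restrictScalars k) := fun I hI =>
    stable_of_pts _ _ fun g r hr => by
      rw [act_ofCoact, show cAct δ' g r = ⟨cAct δ g r, hS g _ r.2⟩ from Subtype.ext (hδ' g r)]
      exact hI g r hr
  obtain ⟨e, he, f, hf, hef⟩ := Submodule.mem_sup.1 ((Ideal.eq_top_iff_one _).1
    (thmAbiv G hG S (ofCoact δ' h1 hm) (ofCoact_isMult δ' h1 hm) inferInstance I₁ I₂ hr₁ hr₂ (hst _ hs₁) (hst _ hs₂) htop))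
  refine ⟨e, f, he, hf, congrArg Subtype.val hef, fun g => ?_⟩
  have := (mem_fixedSubalgebra_iff (ofCoact δ' h1 hm) (ofCoact_isMult δ' h1 hm) (𝟙 G) (e : S)).1 e.2 g
  rw [Category.comp_id, act_ofCoact] at this
  rw [← hδ', this]

/-- evaluation of mixed functions -/
def ev (x : Pts G) (p : Fin 2 → k) : Coord G ⊗[k] MvPolynomial (Fin 2) k →ₐ[k] k :=
  Algebra.TensorProduct.lift (valHom x) (MvPolynomial.aeval p) fun _ _ => Commute.all _ _

theorem ev_ext {r r' : Coord G ⊗[k] MvPolynomial (Fin 2) k} (h : ∀ x p, ev x p r = ev x p r') : r = r' := by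
  refine tensor_ext fun z => MvPolynomial.funext fun p => ?_
  have e : ∀ y : Coord G ⊗[k] MvPolynomial (Fin 2) k, MvPolynomial.eval p
      (TensorProduct.lid k _ ((valHom z).toLinearMap.rTensor _ y)) = ev z p y := fun y => by
    induction y with
    | zero => simp
    | add a b ha hb => simp only [map_add, ha, hb]
    | tmul a b => simp [ev, MvPolynomial.smul_eval, MvPolynomial.aeval_eq_eval, -valHom_apply]
  rw [e, e]
  exact h z p

variable (G) in
/-- the action on mixed functions -/
def δT : Coord G ⊗[k] MvPolynomial (Fin 2) k →ₐ[k] Coord G ⊗[k] (Coord G ⊗[k] MvPolynomial (Fin 2) k) :=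
  coactMul (lCoact G) Algebra.TensorProduct.includeRight

theorem ev_cAct (g x : Pts G) (p : Fin 2 → k) (r : Coord G ⊗[k] MvPolynomial (Fin 2) k) :
    ev x p (cAct (δT G) g r) = ev (g⁻¹ * x) p r := by
  induction r with
  | zero => simp
  | add a b ha hb => simp only [map_add, ha, hb]
  | tmul f P =>
    rw [δT, cAct_coactMul, cAct_lCoact, cAct_eq]
    simp [ev, val_L, -valHom_apply]

variable {U : Over (Spec (CommRingCat.of k))} [GrpObj U] (u : U ⟶ G) [IsMonHom u]

/-- no primitive exists when invariants separate -/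
theorem false_of_primitive (hG : VecGrp.IsReductiveGrp k G) (thmAbiv : AGF.ReductiveQuotSeparates k)
    (φ : Coord G) (a : Coord U) (hφ : ∀ (g : Pts G) (w : Pts U), valHom (g * (w ≫ u)) φ = valHom g φ + valHom w a)
    (hinf : (Set.range fun w : Pts U => valHom w a).Infinite) : False := by
  classical
  let P := MvPolynomial (Fin 2) k
  let T := Coord G ⊗[k] P
  let uu : T := (1 : Coord G) ⊗ₜ MvPolynomial.X 0
  let wg : Pts G → T := fun g => L g φ ⊗ₜ MvPolynomial.X 0 + (1 : Coord G) ⊗ₜ MvPolynomial.X 1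
  let R : Subalgebra k T := Algebra.adjoin k (insert uu (Set.range wg))
  have hwg : ∀ g x p, ev x p (wg g) = valHom (g * x) φ * p 0 + p 1 := fun g x p => by
    simp [wg, ev, val_L, -valHom_apply]
  have huu : ∀ x p, ev x p uu = p 0 := fun x p => by simp [uu, ev, -valHom_apply]
  have htw : ∀ r ∈ R, ∀ (x : Pts G) (w : Pts U) (p : Fin 2 → k),
      ev (x * (w ≫ u)) p r = ev x ![p 0, p 1 + valHom w a * p 0] r := by
    intro r hr x w p
    induction hr using Algebra.adjoin_induction with
    | mem r hr =>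
      rcases hr with rfl | ⟨g, rfl⟩
      · rw [huu, huu]; rfl
      · rw [hwg, hwg, ← _root_.mul_assoc, hφ]
        simp [-valHom_apply]
        ring
    | algebraMap c => rw [AlgHom.commutes, AlgHom.commutes]
    | add r r' _ _ h h' => rw [map_add, map_add, h, h']
    | mul r r' _ _ h h' => rw [map_mul, map_mul, h, h']
  have hst : ∀ g : Pts G, ∀ r ∈ R, cAct (δT G) g r ∈ R := by
    intro g r hr
    induction hr using Algebra.adjoin_induction with
    | mem r hr =>
      rcases hr with rfl | ⟨h, rfl⟩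
      · rw [show cAct (δT G) g uu = uu from ev_ext fun x p => by rw [ev_cAct, huu, huu]]
        exact Algebra.subset_adjoin (Set.mem_insert _ _)
      · rw [show cAct (δT G) g (wg h) = wg (h * g⁻¹) from ev_ext fun x p => by
          rw [ev_cAct, hwg, hwg, _root_.mul_assoc]]
        exact Algebra.subset_adjoin (Set.mem_insert_of_mem _ ⟨_, rfl⟩)
    | algebraMap c => rw [AlgHom.commutes]; exact R.algebraMap_mem c
    | add r r' _ _ h h' => rw [map_add]; exact add_mem h h'
    | mul r r' _ _ h h' => rw [map_mul]; exact mul_mem h h'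
  have : Algebra.FiniteType k R := by
    refine (Subalgebra.fg_iff_finiteType R).1 ?_
    obtain ⟨W, hW, hφW⟩ := exists_span_L ({φ} : Finset (Coord G))
    obtain ⟨s, hs⟩ := (Module.Finite.iff_fg.1 hW : W.FG)
    let lin : Coord G →ₗ[k] T := (TensorProduct.mk k (Coord G) P).flip (MvPolynomial.X 0)
    have hR0 : ∀ g g' : Pts G, lin (L g φ) - lin (L g' φ) = wg g - wg g' := fun g g' => by
      simp [lin, wg]
    let W' : Submodule k (Coord G) := Submodule.span k (Set.range fun g : Pts G => L g φ - L (1 : Pts G) φ)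
    have hW'W : W' ≤ W := Submodule.span_le.2 (by
      rintro _ ⟨g, rfl⟩
      exact W.sub_mem (hφW g φ (Finset.mem_singleton_self _)) (hφW 1 φ (Finset.mem_singleton_self _)))
    have : Module.Finite k W' := Module.Finite.of_injective _ (Submodule.inclusion_injective hW'W)
    obtain ⟨s', hs'⟩ := (Module.Finite.iff_fg.1 this : W'.FG)
    refine ⟨insert uu (insert (wg 1) (s'.image lin)), le_antisymm (Algebra.adjoin_le ?_) (Algebra.adjoin_le ?_)⟩
    · intro r hr
      rw [Finset.coe_insert, Finset.coe_insert, Finset.coe_image] at hr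
      rcases hr with rfl | rfl | ⟨f, hf, rfl⟩
      · exact Algebra.subset_adjoin (Set.mem_insert _ _)
      · exact Algebra.subset_adjoin (Set.mem_insert_of_mem _ ⟨_, rfl⟩)
      · have : lin f ∈ Subalgebra.toSubmodule R := by
          have hle : W'.map lin ≤ Subalgebra.toSubmodule R := by
            rw [Submodule.map_span, Submodule.span_le]
            rintro _ ⟨_, ⟨g, rfl⟩, rfl⟩
            rw [map_sub, hR0]
            exact R.sub_mem (Algebra.subset_adjoin (Set.mem_insert_of_mem _ ⟨_, rfl⟩))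
              (Algebra.subset_adjoin (Set.mem_insert_of_mem _ ⟨_, rfl⟩))
          exact hle ⟨f, hs' ▸ Submodule.subset_span hf, rfl⟩
        exact this
    · rintro r (rfl | ⟨g, rfl⟩)
      · exact Algebra.subset_adjoin (by simp)
      · have h0 : lin (L g φ - L (1 : Pts G) φ) ∈ Algebra.adjoin k (↑(insert uu (insert (wg 1) (s'.image lin))) : Set T) := by
          have hle : W'.map lin ≤ Subalgebra.toSubmodule (Algebra.adjoin k (↑(insert uu (insert (wg 1) (s'.image lin))) : Set T)) := by
            rw [← hs', Submodule.map_span, Submodule.span_le]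
            rintro _ ⟨f, hf, rfl⟩
            exact Algebra.subset_adjoin (by simp only [Finset.coe_insert, Finset.coe_image]; exact Or.inr (Or.inr ⟨f, hf, rfl⟩))
          exact hle ⟨_, Submodule.subset_span ⟨g, rfl⟩, rfl⟩
        rw [map_sub, hR0] at h0
        have := Subalgebra.add_mem _ h0 (Algebra.subset_adjoin (show wg 1 ∈ (↑(insert uu (insert (wg 1) (s'.image lin))) : Set T) by simp))
        rwa [sub_add_cancel] at this
  have : _root_.IsReduced R := ⟨fun r ⟨n, hn⟩ => Subtype.ext <| ev_ext fun x p => by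
    rw [ZeroMemClass.coe_zero, map_zero]
    exact eq_zero_of_pow_eq_zero (n := n) (by rw [← map_pow, ← SubmonoidClass.coe_pow, hn, ZeroMemClass.coe_zero, map_zero])⟩
  let evR : Pts G → (Fin 2 → k) → R →ₐ[k] k := fun x p => (ev x p).comp R.val
  let I : (Fin 2 → k) → Ideal R := fun p => ⨅ x : Pts G, RingHom.ker (evR x p)
  have hmemI : ∀ p r, r ∈ I p ↔ ∀ x, ev x p (r : T) = 0 := fun p r => by simp [I, evR, Submodule.mem_iInf]
  have hrad : ∀ p, (I p).IsRadical := fun p r ⟨n, hn⟩ => (hmemI p r).2 fun x =>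
    eq_zero_of_pow_eq_zero (n := n) (by rw [← map_pow, ← SubmonoidClass.coe_pow]; exact (hmemI p _).1 hn x)
  have hstI : ∀ p, ∀ g : Pts G, ∀ r ∈ I p, (⟨cAct (δT G) g r, hst g _ r.2⟩ : R) ∈ I p := fun p g r hr =>
    (hmemI p _).2 fun x => by
      show ev x p (cAct (δT G) g (r : T)) = 0
      rw [ev_cAct]
      exact (hmemI p r).1 hr _
  have htop : I ![0, 0] ⊔ I ![0, 1] = ⊤ := by
    let w1 : R := ⟨wg 1, Algebra.subset_adjoin (Set.mem_insert_of_mem _ ⟨_, rfl⟩)⟩
    refine (Ideal.eq_top_iff_one _).2 (Submodule.mem_sup.2 ⟨w1, (hmemI _ _).2 fun x => ?_, 1 - w1,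
      (hmemI _ _).2 fun x => ?_, by ring⟩)
    · show ev x _ (wg 1) = 0
      rw [hwg]; simp
    rw [Subalgebra.coe_sub, map_sub, Subalgebra.coe_one, map_one, show ((w1 : R) : T) = wg 1 from rfl, hwg]
    simp
  obtain ⟨e, f, he, hf, hef, hfix⟩ := exists_sep_stable (δT G)
    (fun r => ev_ext fun x p => by rw [ev_cAct, inv_one, _root_.one_mul])
    (fun g h r => ev_ext fun x p => by rw [ev_cAct, ev_cAct, ev_cAct, _root_.mul_inv_rev, _root_.mul_assoc])
    R hst hG thmAbiv _ _ (hrad _) (hrad _) (hstI _) (hstI _) htop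
  have hconst : ∀ (x : Pts G) (p : Fin 2 → k), ev x p (e : T) = ev 1 p (e : T) := fun x p => by
    have h2 := congrArg (ev 1 p) (hfix x⁻¹)
    rwa [ev_cAct, _root_.inv_inv, _root_.mul_one] at h2
  let Pe : MvPolynomial (Fin 2) k := Algebra.TensorProduct.lift ((Algebra.ofId k (MvPolynomial (Fin 2) k)).comp (valHom (1 : Pts G))) (AlgHom.id k (MvPolynomial (Fin 2) k))
    (fun _ _ => Commute.all _ _) (e : T)
  have hPe : ∀ p, ev 1 p (e : T) = MvPolynomial.eval p Pe := fun p => by
    show _ = MvPolynomial.eval p (Algebra.TensorProduct.lift _ _ _ (e : T))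
    generalize (e : T) = y
    induction y with
    | zero => simp
    | add a b ha hb => simp only [map_add, ha, hb]
    | tmul a b => simp [ev, MvPolynomial.aeval_eq_eval, MvPolynomial.algebraMap_eq, -valHom_apply]
  -- invariance along the additive function
  have hinv : ∀ p0 p1 : k, ∀ w : Pts U,
      MvPolynomial.eval ![p0, p1 + valHom w a * p0] Pe = MvPolynomial.eval ![p0, p1] Pe := fun p0 p1 w => by
    rw [← hPe, ← hPe, ← hconst (1 * (w ≫ u)) ![p0, p1], htw _ e.2]
    simp [-valHom_apply]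
  let line : k → Polynomial k := fun t => MvPolynomial.aeval ![Polynomial.C t, Polynomial.X * Polynomial.C t] Pe
  have hline : ∀ t s, (line t).eval s = MvPolynomial.eval ![t, s * t] Pe := fun t s => by
    have h := MvPolynomial.comp_aeval ![Polynomial.C t, Polynomial.X * Polynomial.C t] (Polynomial.aeval s)
    have h' := DFunLike.congr_fun h Pe
    rw [AlgHom.comp_apply, Polynomial.aeval_def, Polynomial.eval₂_eq_eval_map, Algebra.algebraMap_self, Polynomial.map_id] at h'
    rw [show (line t).eval s = _ from h', MvPolynomial.aeval_eq_eval]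
    congr 2
    funext i
    fin_cases i <;> simp
    ring
  have hlc : ∀ t s, MvPolynomial.eval ![t, s * t] Pe = MvPolynomial.eval ![t, 0] Pe := fun t s => by
    have h0 : line t - Polynomial.C (MvPolynomial.eval ![t, 0] Pe) = 0 := by
      refine Polynomial.eq_zero_of_infinite_isRoot _ (hinf.mono ?_)
      rintro _ ⟨w, rfl⟩
      show (line t - Polynomial.C (MvPolynomial.eval ![t, 0] Pe)).eval (valHom w a) = 0
      rw [Polynomial.eval_sub, hline, Polynomial.eval_C, sub_eq_zero]
      have := hinv t 0 w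
      rwa [_root_.zero_add] at this
    have := congrArg (Polynomial.eval s) h0
    rwa [Polynomial.eval_sub, hline, Polynomial.eval_C, Polynomial.eval_zero, sub_eq_zero] at this
  let diag : Polynomial k := MvPolynomial.aeval ![Polynomial.X, (1 : Polynomial k)] Pe -
    MvPolynomial.aeval ![Polynomial.X, (0 : Polynomial k)] Pe
  have hdiag : ∀ (c t : k), (MvPolynomial.aeval ![Polynomial.X, Polynomial.C c] Pe).eval t = MvPolynomial.eval ![t, c] Pe :=
    fun c t => by
    have h' := DFunLike.congr_fun (MvPolynomial.comp_aeval ![Polynomial.X, Polynomial.C c] (Polynomial.aeval t)) Pe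
    rw [AlgHom.comp_apply, Polynomial.aeval_def, Polynomial.eval₂_eq_eval_map, Algebra.algebraMap_self, Polynomial.map_id] at h'
    rw [h', MvPolynomial.aeval_eq_eval]
    congr 2
    funext i
    fin_cases i <;> simp
  have hd0 : diag = 0 := by
    refine Polynomial.eq_zero_of_infinite_isRoot _ ((Set.finite_singleton (0 : k)).infinite_compl.mono fun t (ht : t ≠ 0) => ?_)
    show diag.eval t = 0
    rw [Polynomial.eval_sub, ← Polynomial.C_1, ← Polynomial.C_0, hdiag, hdiag]
    have := hlc t t⁻¹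
    rw [inv_mul_cancel₀ ht] at this
    rw [this, sub_self]
  have h01 := congrArg (Polynomial.eval 0) hd0
  rw [Polynomial.eval_sub, ← Polynomial.C_1, ← Polynomial.C_0, hdiag, hdiag, Polynomial.eval_C, sub_eq_zero, ← hPe, ← hPe] at h01
  have hsum : (e : T) + (f : T) = 1 := congrArg (fun r : R => (r : T)) hef
  have h1' := congrArg (ev 1 ![0, 1]) hsum
  rw [map_add, map_one, (hmemI _ _).1 hf 1, add_zero] at h1'
  rw [h1', (hmemI _ _).1 he 1] at h01
  exact one_ne_zero h01

end Groth.Agent.AGFObs.NoPrim
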