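import Groth.Agent.AGFObs.Crit
import Groth.Agent.GrpScheme.Points

/-!
Open subgroups.
-/

set_option autoImplicit false

universe u

noncomputable section

open CategoryTheory MonoidalCategory CartesianMonoidalCategory MonObj GrpObj AlgebraicGeometry
open scoped TensorProduct
open Groth.Agent.AGFPoints.Basic Groth.Agent.AGFLang

namespace Groth.Agent.AGFObs

variable {k : Type u} [Field k]

theorem isIdempotentElem_ker {A C : Type u} [CommRing A] [CommRing C] (f : A →+* C) (hf : Function.Surjective f)
    (hflat : f.Flat) : IsIdempotentElem (RingHom.ker f) := by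
  letI : Algebra A C := f.toAlgebra
  haveI : Module.Flat A C := hflat
  refine le_antisymm Ideal.mul_le_right fun x hx => ?_
  obtain ⟨m, a, y, hy, ha⟩ := Module.Flat.isTrivialRelation_of_sum_smul_eq_zero (R := A) (M := C)
    (f := fun _ : Fin 1 => x) (x := fun _ : Fin 1 => (1 : C)) (by
      simp only [Finset.univ_unique, Finset.sum_singleton]
      show f x * 1 = 0
      rw [RingHom.mem_ker.1 hx, zero_mul])
  choose y' hy' using fun j => hf (y j)
  have hι : 1 - ∑ j, a 0 j * y' j ∈ RingHom.ker f := by
    rw [RingHom.mem_ker, map_sub, map_one, map_sum, sub_eq_zero]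
    refine (hy 0).trans (Finset.sum_congr rfl fun j _ => ?_)
    rw [map_mul, hy', Algebra.smul_def, RingHom.algebraMap_toAlgebra]
  have : x * (1 - ∑ j, a 0 j * y' j) = x := by
    rw [mul_sub, _root_.mul_one, Finset.mul_sum, Finset.sum_eq_zero, sub_zero]
    intro j _
    have := ha j
    simp only [Finset.univ_unique, Finset.sum_singleton] at this
    rw [← _root_.mul_assoc]
    exact (congrArg (· * y' j) this).trans (zero_mul _)
  rw [← this]
  exact Ideal.mul_mem_mul hx hι

theorem isClosedImmersion_of_open {G H : Over (Spec (CommRingCat.of k))} [GrpObj G] [GrpObj H] (i : H ⟶ G) [IsMonHom i]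
    [IsOpenImmersion i.left] : IsClosedImmersion i.left :=
  IsClosedImmersion.of_isPreimmersion _
    (GrpScheme.Points.isClosed_range_of_isLocallyClosed i i.left.isOpenEmbedding.isOpen_range.isLocallyClosed)

variable [IsAlgClosed k] {G H : Over (Spec (CommRingCat.of k))} [GrpObj G] [GrpObj H] [IsAffine G.left] [Smooth G.hom]
  [Smooth H.hom] (i : H ⟶ G) [IsMonHom i] [IsClosedImmersion i.left] [IsOpenImmersion i.left]

/-- an open subgroup is the zero set of an invariant idempotent -/
theorem exists_idem : ∃ ε ∈ Inv i, (∀ x : Pts G, x ∈ HP i ↔ valHom x ε = 0) ∧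
    ∀ x : Pts G, valHom x ε = 0 ∨ valHom x ε = 1 := by
  have : IsAffine H.left := isAffine_of_isAffineHom i.left
  have := finiteType (X := G)
  have : IsNoetherianRing (Coord G) := Algebra.FiniteType.isNoetherianRing k _
  have hflat : RingHom.Flat (res i).toRingHom := HasRingHomProperty.appTop (P := @Flat) i.left inferInstance
  let I : Ideal (Coord G) := RingHom.ker (res i)
  have hI : IsIdempotentElem I := isIdempotentElem_ker (res i).toRingHom (res_surjective i) hflat
  obtain ⟨ε, hε, hεI⟩ := (Ideal.isIdempotentElem_iff_of_fg I (IsNoetherian.noetherian I)).1 hI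
  have hmem : ∀ x : Pts G, x ∈ HP i ↔ valHom x ε = 0 := fun x => by
    rw [mem_HP_iff]
    refine ⟨fun h => h ε (RingHom.mem_ker.1 (show ε ∈ I by rw [hεI]; exact Submodule.mem_span_singleton_self ε)), fun h f hf => ?_⟩
    have : f ∈ I := RingHom.mem_ker.2 hf
    rw [hεI, Submodule.mem_span_singleton] at this
    obtain ⟨r, rfl⟩ := this
    rw [smul_eq_mul, map_mul, h, mul_zero]
  have h01 : ∀ x : Pts G, valHom x ε = 0 ∨ valHom x ε = 1 := fun x =>
    IsIdempotentElem.iff_eq_zero_or_one.1 (hε.map (valHom x))
  refine ⟨ε, fun x h hh => ?_, hmem, h01⟩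
  have e : x * h ∈ HP i ↔ x ∈ HP i := (HP i).mul_mem_cancel_right hh
  rw [hmem, hmem] at e
  rcases h01 (x * h) with h1 | h1 <;> rcases h01 x with h2 | h2 <;> simp_all [-valHom_apply]

theorem isObservableIn_of_open : AGF.IsObservableIn k i := by
  obtain ⟨ε, hinv, hmem, -⟩ := exists_idem i
  refine (isObservableIn_iff i).2 fun g hg => (hmem g).2 ?_
  have h1 := congrArg (valHom (1 : Pts G)) (hg ε hinv)
  rwa [val_Rt, _root_.one_mul, (hmem 1).1 (HP i).one_mem] at h1

/-- open subgroups have finite index -/
theorem finite_quotient : Finite (Pts G ⧸ HP i) := by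
  classical
  obtain ⟨ε, hinv, hmem, h01⟩ := exists_idem i
  obtain ⟨W, hW, hεW⟩ := exists_span_L ({1 - ε} : Finset (Coord G))
  let e : Pts G ⧸ HP i → W := fun q => ⟨L q.out⁻¹ (1 - ε), hεW _ _ (Finset.mem_singleton_self _)⟩
  have hval : ∀ q q' : Pts G ⧸ HP i, valHom q'.out (e q : Coord G) = if q' = q then 1 else 0 := fun q q' => by
    show valHom q'.out (L q.out⁻¹ (1 - ε)) = _
    rw [val_L, map_sub, map_one]
    by_cases h : q' = q
    · subst h
      rw [if_pos rfl, inv_mul_cancel, (hmem 1).1 (HP i).one_mem, sub_zero]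
    · rw [if_neg h]
      have hn : q.out⁻¹ * q'.out ∉ HP i := fun hm => h (by
        have := QuotientGroup.eq.2 hm
        rwa [QuotientGroup.out_eq', QuotientGroup.out_eq', eq_comm] at this)
      rcases h01 (q.out⁻¹ * q'.out) with h1 | h1
      · exact absurd ((hmem _).2 h1) hn
      · rw [h1, sub_self]
  have hli : LinearIndependent k e := by
    rw [linearIndependent_iff']
    intro s c hc q hq
    have := congrArg (fun w : W => valHom q.out (w : Coord G)) hc
    simpa [map_sum, hval, hq, -valHom_apply] using this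
  exact hli.finite

end Groth.Agent.AGFObs
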