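import Groth.Agent.AGFObs.Crit
import Groth.Agent.LieKolchin.Basic

/-!
Every closed subgroup of a solvable group is observable.
-/

set_option autoImplicit false

universe u

noncomputable section

open CategoryTheory MonoidalCategory CartesianMonoidalCategory MonObj GrpObj AlgebraicGeometry
open scoped TensorProduct
open Groth.Agent.AGFPoints.Basic Groth.Agent.AGFLang

namespace Groth.Agent.AGFObs

variable {k : Type u} [Field k] {G : Over (Spec (CommRingCat.of k))} [GrpObj G] [IsAffine G.left]

variable (G) in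
/-- precomposition with inversion -/
def inv' : Coord G →ₐ[k] Coord G := valHom (uPt G)⁻¹

theorem val_inv' (x : Pts G) (f : Coord G) : valHom x (inv' G f) = valHom x⁻¹ f := by
  rw [← AlgHom.comp_apply, inv', ← valHom_ptMap, GrpObj.comp_inv, ← eq_ptMap_uPt]

variable (G) in
/-- the Zariski topology on rational points -/
abbrev zar : TopologicalSpace (Pts G) :=
  TopologicalSpace.induced (fun x => (⟨RingHom.ker (valHom x), RingHom.ker_isPrime _⟩ : PrimeSpectrum (Coord G))) inferInstance

theorem continuous_ptMap (ψ : VecGrp.pt k (Coord G) ⟶ G) :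
    @Continuous (Pts G) (Pts G) (zar G) (zar G) fun x : Pts G => VecGrp.ptMap (valHom x) ≫ ψ := by
  letI := zar G
  refine continuous_induced_rng.2 ?_
  refine ((PrimeSpectrum.continuous_comap (valHom ψ).toRingHom).comp continuous_induced_dom).congr fun x => ?_
  refine PrimeSpectrum.ext (Ideal.ext fun a => ?_)
  show valHom x (valHom ψ a) = 0 ↔ valHom (VecGrp.ptMap (valHom x) ≫ ψ) a = 0
  rw [valHom_ptMap]
  rfl

theorem ptMap_const (x y : Pts G) :
    VecGrp.ptMap (valHom x) ≫ VecGrp.ptMap (Algebra.ofId k (Coord G)) ≫ y = y := by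
  rw [← Category.assoc, ← ptMap_comp,
    show (valHom x).comp (Algebra.ofId k (Coord G)) = Algebra.ofId k k from Subsingleton.elim _ _, ptMap_ofId_self]

theorem goodTop : letI := zar G; LieKolchin.GoodTop (Pts G) := by
  letI := zar G
  let c : Pts G → (VecGrp.pt k (Coord G) ⟶ G) := fun y => VecGrp.ptMap (Algebra.ofId k (Coord G)) ≫ y
  refine ⟨fun y => (continuous_ptMap (c y * uPt G)).congr fun x => ?_,
    (continuous_ptMap (uPt G)⁻¹).congr fun x => ?_,
    fun y => (continuous_ptMap (uPt G * c y * (uPt G)⁻¹)).congr fun x => ?_,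
    fun y => (continuous_ptMap (uPt G * c y * (uPt G)⁻¹ * (c y)⁻¹)).congr fun x => ?_⟩
  · rw [MonObj.comp_mul, ptMap_const, ← eq_ptMap_uPt]
  · rw [GrpObj.comp_inv, ← eq_ptMap_uPt]
  · rw [MonObj.comp_mul, MonObj.comp_mul, GrpObj.comp_inv, ptMap_const, ← eq_ptMap_uPt]
  · rw [MonObj.comp_mul, MonObj.comp_mul, MonObj.comp_mul, GrpObj.comp_inv, GrpObj.comp_inv, ptMap_const, ← eq_ptMap_uPt]

theorem isClosed_level (a : Coord G) (c : k) : @IsClosed (Pts G) (zar G) {x : Pts G | valHom x a = c} := by
  letI := zar G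
  have : {x : Pts G | valHom x a = c} =
      (fun x : Pts G => (⟨RingHom.ker (valHom x), RingHom.ker_isPrime _⟩ : PrimeSpectrum (Coord G))) ⁻¹'
        PrimeSpectrum.zeroLocus {a - algebraMap k (Coord G) c} := by
    ext x
    simp [PrimeSpectrum.mem_zeroLocus, RingHom.mem_ker, sub_eq_zero, -valHom_apply]
  rw [this]
  exact (PrimeSpectrum.isClosed_zeroLocus _).preimage continuous_induced_dom

variable [IsAlgClosed k] [Smooth G.hom]

theorem idem_of_pts {e : Coord G} (h : ∀ x : Pts G, valHom x e = 0 ∨ valHom x e = 1) : IsIdempotentElem e :=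
  ext_pts fun x => by rcases h x with h | h <;> simp [h, -valHom_apply]

theorem exists_id_idem : ∃ ε : Coord G, IsIdempotentElem ε ∧ valHom (1 : Pts G) ε = 1 ∧
    ∀ f : Coord G, IsIdempotentElem f → valHom (1 : Pts G) f = 1 → ε * f = ε := by
  have := finiteType (X := G)
  have : IsNoetherianRing (Coord G) := Algebra.FiniteType.isNoetherianRing k _
  let S : Set (Ideal (Coord G)) := {I | ∃ e, IsIdempotentElem e ∧ valHom (1 : Pts G) e = 0 ∧ I = Ideal.span {e}}
  obtain ⟨I, ⟨e, he, he0, rfl⟩, hmax⟩ :=
    (set_has_maximal_iff_noetherian (R := Coord G) (M := Coord G)).mpr ‹_› S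
      ⟨⊥, 0, IsIdempotentElem.zero, map_zero _, by simp⟩
  refine ⟨1 - e, he.one_sub, by rw [map_sub, map_one, he0, sub_zero], fun f hf hf1 => ?_⟩
  let e' : Coord G := 1 - (1 - e) * f
  have hef : e * e' = e := by
    show e * (1 - (1 - e) * f) = e
    linear_combination f * he.eq
  have hle : Ideal.span {e} ≤ Ideal.span {e'} :=
    (Ideal.span_singleton_le_iff_mem _).2 (Ideal.mem_span_singleton'.2 ⟨e, hef⟩)
  have heq : Ideal.span {e'} ≤ Ideal.span {e} := by
    by_contra hn
    exact hmax _ ⟨e', (he.one_sub.mul hf).one_sub, by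
      rw [map_sub, map_mul, map_sub, map_one, he0, hf1]; ring, rfl⟩ (lt_of_le_not_ge hle hn)
  obtain ⟨r, hr⟩ := Ideal.mem_span_singleton'.1 ((Ideal.span_singleton_le_iff_mem _).1 heq)
  have h2 : e' * e = e' := by rw [← hr, _root_.mul_assoc, he.eq]
  show (1 - e) * f = 1 - e
  linear_combination h2 - hef

variable (G) in
/-- the idempotent of the identity component -/
def idOne : Coord G := (exists_id_idem (G := G)).choose

theorem idOne_idem : IsIdempotentElem (idOne G) := (exists_id_idem (G := G)).choose_spec.1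

theorem idOne_one : valHom (1 : Pts G) (idOne G) = 1 := (exists_id_idem (G := G)).choose_spec.2.1

theorem idOne_le {f : Coord G} (hf : IsIdempotentElem f) (hf1 : valHom (1 : Pts G) f = 1) {x : Pts G}
    (hx : valHom x (idOne G) = 1) : valHom x f = 1 := by
  have h : idOne G * f = idOne G := (exists_id_idem (G := G)).choose_spec.2.2 f hf hf1
  have := congrArg (valHom x) h
  rwa [map_mul, hx, _root_.one_mul] at this

variable (G) in
/-- the rational points of the identity component -/
def idComp : Subgroup (Pts G) where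
  carrier := {x | valHom x (idOne G) = 1}
  one_mem' := idOne_one
  mul_mem' {x y} hx hy := by
    have h1 : valHom (1 : Pts G) (L x (idOne G)) = 1 := by rw [val_L, _root_.mul_one]; exact hx
    have := idOne_le (idOne_idem.map (L x)) h1 hy
    rwa [val_L] at this
  inv_mem' {x} hx := by
    have h1 : valHom (1 : Pts G) (inv' G (idOne G)) = 1 := by rw [val_inv', inv_one]; exact idOne_one
    have := idOne_le (idOne_idem.map (inv' G)) h1 hx
    rwa [val_inv'] at this

theorem mem_idComp {x : Pts G} : x ∈ idComp G ↔ valHom x (idOne G) = 1 := Iff.rfl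

instance : (idComp G).Normal where
  conj_mem x hx g := by
    have h1 : valHom (1 : Pts G) (L g (Rt g⁻¹ (idOne G))) = 1 := by
      rw [val_L, _root_.mul_one, val_Rt, mul_inv_cancel]; exact idOne_one
    have := idOne_le ((idOne_idem.map (Rt g⁻¹)).map (L g)) h1 hx
    rwa [val_L, val_Rt] at this

theorem val_idOne_of_notMem {x : Pts G} (hx : x ∉ idComp G) : valHom x (idOne G) = 0 :=
  (IsIdempotentElem.iff_eq_zero_or_one.1 (idOne_idem.map (valHom x))).resolve_right hx

theorem finite_components : Finite (Pts G ⧸ idComp G) := by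
  classical
  obtain ⟨W, hW, hεW⟩ := exists_span_L ({idOne G} : Finset (Coord G))
  let e : Pts G ⧸ idComp G → W := fun q => ⟨L q.out⁻¹ (idOne G), hεW _ _ (Finset.mem_singleton_self _)⟩
  have hval : ∀ q q' : Pts G ⧸ idComp G, valHom q'.out (e q : Coord G) = if q' = q then 1 else 0 := fun q q' => by
    show valHom q'.out (L q.out⁻¹ (idOne G)) = _
    rw [val_L]
    by_cases h : q' = q
    · subst h
      rw [if_pos rfl, inv_mul_cancel]
      exact idOne_one
    · rw [if_neg h]
      refine val_idOne_of_notMem fun hm => h ?_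
      have := QuotientGroup.eq.2 hm
      rwa [QuotientGroup.out_eq', QuotientGroup.out_eq', eq_comm] at this
  have hli : LinearIndependent k e := by
    rw [linearIndependent_iff']
    intro s c hc q hq
    have := congrArg (fun w : W => valHom q.out (w : Coord G)) hc
    simpa [map_sum, hval, hq, -valHom_apply] using this
  exact hli.finite

/-- the vanishing ideal of a set of rational points -/
def vIdeal (s : Set (Pts G)) : Ideal (Coord G) := ⨅ x ∈ s, RingHom.ker (valHom x)

theorem preconnected_idComp : letI := zar G; PreconnectedSpace (idComp G) := by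
  letI := zar G
  have key : ∀ s : Set (idComp G), IsClosed s → ∃ T : Set (Coord G), ∀ x : idComp G, x ∈ s ↔ ∀ f ∈ T, valHom (x : Pts G) f = 0 := by
    intro s hs
    obtain ⟨C, hC, rfl⟩ := isClosed_induced_iff.1 hs
    obtain ⟨D, hD, rfl⟩ := isClosed_induced_iff.1 hC
    obtain ⟨T, rfl⟩ := (PrimeSpectrum.isClosed_iff_zeroLocus _).1 hD
    exact ⟨T, fun x => Iff.rfl⟩
  rw [preconnectedSpace_iff_clopen]
  intro s hs
  obtain ⟨T, hT⟩ := key s hs.1
  obtain ⟨T', hT'⟩ := key sᶜ hs.2.isClosed_compl
  have hst : Ideal.span T ⊔ Ideal.span T' ⊔ Ideal.span {1 - idOne G} = ⊤ := by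
    by_contra hne
    obtain ⟨m, hm, hle⟩ := Ideal.exists_le_maximal _ hne
    obtain ⟨z, rfl⟩ := exists_pt m
    have h0 : valHom z (1 - idOne G) = 0 := hle (Ideal.mem_sup_right (Ideal.mem_span_singleton_self _))
    rw [map_sub, map_one, sub_eq_zero] at h0
    let x : idComp G := ⟨z, h0.symm⟩
    have h1 : x ∈ s := (hT x).2 fun f hf => hle (Ideal.mem_sup_left (Ideal.mem_sup_left (Ideal.subset_span hf)))
    have h2 : x ∈ sᶜ := (hT' x).2 fun f hf => hle (Ideal.mem_sup_left (Ideal.mem_sup_right (Ideal.subset_span hf)))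
    exact h2 h1
  obtain ⟨ab, hab, c, hc, habc⟩ := Submodule.mem_sup.1 (hst ▸ Submodule.mem_top : (1 : Coord G) ∈ _)
  obtain ⟨a, ha, b, hb, rfl⟩ := Submodule.mem_sup.1 hab
  have hvan : ∀ (x : idComp G) (U : Set (Coord G)) (f : Coord G), (∀ g ∈ U, valHom (x : Pts G) g = 0) →
      f ∈ Ideal.span U → valHom (x : Pts G) f = 0 := fun x U f hU hf =>
    (Ideal.span_le (I := RingHom.ker (valHom (x : Pts G)))).2 hU hf
  have hval : ∀ x : idComp G, valHom (x : Pts G) (a * idOne G) = 0 ∧ x ∈ s ∨ valHom (x : Pts G) (a * idOne G) = 1 ∧ x ∉ s := by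
    intro x
    have hx : valHom (x : Pts G) (idOne G) = 1 := x.2
    have hc0 : valHom (x : Pts G) c = 0 := hvan x _ c (by
      rintro g rfl
      rw [map_sub, map_one, hx, sub_self]) hc
    rw [map_mul, hx, _root_.mul_one]
    by_cases hxs : x ∈ s
    · exact Or.inl ⟨hvan x T a ((hT x).1 hxs) ha, hxs⟩
    · refine Or.inr ⟨?_, hxs⟩
      have hb0 := hvan x T' b ((hT' x).1 hxs) hb
      have h1 := congrArg (valHom (x : Pts G)) habc
      rwa [map_add, map_add, hb0, hc0, _root_.add_zero, _root_.add_zero, map_one] at h1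
  have hidem : IsIdempotentElem (a * idOne G) := idem_of_pts fun x => by
    by_cases hx : x ∈ idComp G
    · rcases hval ⟨x, hx⟩ with h | h
      · exact Or.inl h.1
      · exact Or.inr h.1
    · left; rw [map_mul, val_idOne_of_notMem hx, mul_zero]
  rcases hval ⟨1, (idComp G).one_mem⟩ with ⟨h1, -⟩ | ⟨h1, -⟩
  · refine Or.inr (Set.eq_univ_of_forall fun x => ?_)
    have h3 := idOne_le hidem.one_sub (by rw [map_sub, map_one, h1, sub_zero]) x.2
    rcases hval x with h | h
    · exact h.2
    · rw [map_sub, map_one, h.1, sub_self] at h3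
      exact absurd h3 zero_ne_one
  · refine Or.inl (Set.eq_empty_of_forall_notMem fun x hxs => ?_)
    have h3 := idOne_le hidem h1 x.2
    rcases hval x with h | h
    · exact zero_ne_one (h.1.symm.trans h3)
    · exact h.2 hxs

variable {H : Over (Spec (CommRingCat.of k))} [GrpObj H] [Smooth H.hom] (i : H ⟶ G) [IsMonHom i]
  [IsClosedImmersion i.left]

/-- every semi-invariant translate space has a function nonvanishing on the identity component -/
theorem exists_nonvanishing {n : ℕ} (hn : derivedSeries (Pts G) n = ⊥) {D : Coord G} (hD : IsChar i D) :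
    ∃ E : Coord G, Semi i D E ∧ ∀ x ∈ idComp G, valHom x E ≠ 0 := by
  classical
  let S : Set (Coord G) := {a | ∃ y, L y D = a}
  obtain ⟨W, hW, hDW⟩ := exists_span_L ({D} : Finset (Coord G))
  have hle : Submodule.span k S ≤ W := Submodule.span_le.2 (by rintro _ ⟨y, rfl⟩; exact hDW y D (Finset.mem_singleton_self D))
  let V : Submodule k (Coord G) := Submodule.span k S
  have : Module.Finite k V := Module.Finite.of_injective _ (Submodule.inclusion_injective hle)
  have hst : ∀ g, ∀ f ∈ V, L g f ∈ V := fun g f hf => by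
    have : V ≤ V.comap (L g).toLinearMap := Submodule.span_le.2 (by
      rintro _ ⟨y, rfl⟩
      exact Submodule.subset_span ⟨y * g, (L_L g y D).symm⟩)
    exact this hf
  have hsemi : ∀ f ∈ V, Semi i D f := fun f hf => by
    induction hf using Submodule.span_induction with
    | mem a ha =>
      obtain ⟨y, rfl⟩ := ha
      intro x h hh
      rw [val_L, val_L, ← _root_.mul_assoc]
      exact hD.semi _ h hh
    | zero => intro x h _; simp [-valHom_apply]
    | add a b _ _ ha hb => intro x h hh; rw [map_add, map_add, ha x h hh, hb x h hh]; ring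
    | smul c a _ ha => intro x h hh; rw [map_smul, map_smul, ha x h hh, smul_eq_mul, smul_eq_mul]; ring
  have : Nontrivial V := nontrivial_of_ne (⟨D, Submodule.subset_span ⟨1, L_one D⟩⟩ : V) 0 fun h => by
    have := congrArg (fun v : V => valHom (1 : Pts G) (v : Coord G)) h
    simp only [ZeroMemClass.coe_zero, map_zero] at this
    rw [hD.one] at this
    exact one_ne_zero this
  let ρ : idComp G →* Module.End k V :=
    { toFun := fun g => ((L (g : Pts G)⁻¹).toLinearMap).restrict (hst _)
      map_one' := LinearMap.ext fun v => Subtype.ext (by simp [LinearMap.restrict_apply, L_one])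
      map_mul' := fun g h => LinearMap.ext fun v => Subtype.ext (by
        simp [LinearMap.restrict_apply, L_L, _root_.mul_inv_rev]) }
  letI := zar G
  have := preconnected_idComp (G := G)
  have hsolv : derivedSeries (idComp G) n = ⊥ := by
    rw [eq_bot_iff]
    intro x hx
    have h1 : (x : Pts G) ∈ derivedSeries (Pts G) n :=
      map_derivedSeries_le_derivedSeries (idComp G).subtype n (Subgroup.mem_map_of_mem _ hx)
    rw [hn, Subgroup.mem_bot] at h1
    exact Subgroup.mem_bot.2 (Subtype.ext h1)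
  have hadm : LieKolchin.Adm ρ := by
    intro v φ c
    obtain ⟨φ', hφ'⟩ := φ.exists_extend
    let a : Coord G := TensorProduct.rid k (Coord G) (φ'.lTensor (Coord G) (comul G (v : Coord G)))
    have ha : ∀ y : Pts G, φ' (L y (v : Coord G)) = valHom y a := fun y => by
      rw [L_apply_eq]
      show φ' _ = valHom y (TensorProduct.rid k (Coord G) (φ'.lTensor (Coord G) (comul G (v : Coord G))))
      generalize comul G (v : Coord G) = w
      induction w with
      | zero => simp [-valHom_apply]
      | add p q hp hq => simp only [map_add, hp, hq]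
      | tmul p q => simp [-valHom_apply, mul_comm]
    have : {x : idComp G | φ (ρ x v) = c} = Subtype.val ⁻¹' {x : Pts G | valHom x (inv' G a) = c} := by
      ext x
      simp only [Set.mem_setOf_eq, Set.mem_preimage, val_inv', ← ha, ← hφ']
      rfl
    rw [this]
    exact (isClosed_level _ _).preimage continuous_subtype_val
  obtain ⟨v, hv, hev⟩ := LieKolchin.exists_common_eigen n (idComp G) ((goodTop (G := G)).subgroup _) hsolv V ρ hadm
  obtain ⟨y, hy⟩ : ∃ y : Pts G, valHom y (v : Coord G) ≠ 0 := by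
    by_contra hno
    simp only [not_exists, not_not] at hno
    exact hv (Subtype.ext (eq_zero_of_pts hno))
  refine ⟨L y (v : Coord G), hsemi _ (hst y _ v.2), fun x hx => ?_⟩
  rw [val_L]
  have hx' : (y * x * y⁻¹)⁻¹ ∈ idComp G := (idComp G).inv_mem (Subgroup.Normal.conj_mem inferInstance x hx y)
  obtain ⟨c, hc⟩ := Submodule.mem_span_singleton.1 (hev ⟨_, hx'⟩)
  have hc' : c • (v : Coord G) = L (y * x * y⁻¹) (v : Coord G) := by
    have := congrArg Subtype.val hc
    simpa [ρ, LinearMap.restrict_apply] using this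
  have h1 := congrArg (valHom y) hc'
  rw [map_smul, val_L, inv_mul_cancel_right, smul_eq_mul] at h1
  rw [← h1]
  refine mul_ne_zero (fun h0 => ?_) hy
  rw [h0, zero_smul] at hc'
  have h2 := congrArg (L (y * x * y⁻¹)⁻¹) hc'
  rw [map_zero, L_L, mul_inv_cancel, L_one] at h2
  exact hv (Subtype.ext h2.symm)

theorem crit_of_solvable {n : ℕ} (hn : derivedSeries (Pts G) n = ⊥) : CRIT i := by
  classical
  intro D hD
  obtain ⟨E, hE, hEne⟩ := exists_nonvanishing i hn hD
  have hu : IsUnit (E * idOne G + (1 - idOne G)) := by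
    by_contra hf
    obtain ⟨m, hm, hle⟩ := Ideal.exists_le_maximal _ (Ideal.span_singleton_ne_top hf)
    obtain ⟨z, rfl⟩ := exists_pt m
    have h0 : valHom z (E * idOne G + (1 - idOne G)) = 0 := hle (Ideal.mem_span_singleton_self _)
    rw [map_add, map_mul, map_sub, map_one] at h0
    by_cases hz : z ∈ idComp G
    · rw [mem_idComp.1 hz, sub_self, _root_.add_zero, _root_.mul_one] at h0
      exact hEne z hz h0
    · rw [val_idOne_of_notMem hz, mul_zero, _root_.zero_add, sub_zero] at h0
      exact one_ne_zero h0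
  obtain ⟨w, hw⟩ := hu.exists_right_inv
  let e₀ : Coord G := valHom (1 : Pts G) E • (idOne G * w)
  have he₀ : ∀ x : Pts G, valHom x e₀ * valHom x E = (if x ∈ idComp G then valHom (1 : Pts G) E else 0) ∧
      (x ∉ idComp G → valHom x e₀ = 0) := fun x => by
    have h1 := congrArg (valHom x) hw
    rw [map_mul, map_add, map_mul, map_sub, map_one] at h1
    rw [map_smul, map_mul, smul_eq_mul]
    by_cases hx : x ∈ idComp G
    · rw [mem_idComp.1 hx, sub_self, _root_.add_zero, _root_.mul_one] at h1
      rw [if_pos hx, mem_idComp.1 hx, _root_.one_mul]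
      refine ⟨?_, fun h => absurd hx h⟩
      linear_combination (valHom (1 : Pts G) E) * h1
    · rw [if_neg hx, val_idOne_of_notMem hx]
      exact ⟨by ring, fun _ => by ring⟩
  have he₀semi : ∀ x, ∀ gm ∈ HP i, gm ∈ idComp G → valHom (x * gm) e₀ * valHom gm D = valHom x e₀ := fun x gm hgm hgm' => by
    have hiff : x * gm ∈ idComp G ↔ x ∈ idComp G := (idComp G).mul_mem_cancel_right hgm'
    by_cases hx : x ∈ idComp G
    · refine mul_right_cancel₀ (hEne x hx) ?_
      rw [_root_.mul_assoc, ← hE x gm hgm, (he₀ _).1, (he₀ _).1, if_pos hx, if_pos (hiff.2 hx)]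
    · rw [(he₀ x).2 hx, (he₀ _).2 (mt hiff.1 hx), zero_mul]
  let N := (idComp G).subgroupOf (HP i)
  have : N.Normal := (inferInstance : (idComp G).Normal).subgroupOf _
  have : Finite (Pts G ⧸ idComp G) := finite_components
  have : Finite (HP i ⧸ N) := Finite.of_injective
    (QuotientGroup.map N (idComp G) (HP i).subtype le_rfl) (by
      rw [injective_iff_map_eq_one]
      intro q
      induction q using QuotientGroup.induction_on with
      | H h =>
        intro hq
        rw [QuotientGroup.map_mk] at hq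
        exact (QuotientGroup.eq_one_iff _).2 ((QuotientGroup.eq_one_iff ((h : HP i) : Pts G)).1 hq))
  have := Fintype.ofFinite (HP i ⧸ N)
  let T : Pts G → HP i → k := fun x h => (valHom (h : Pts G) D)⁻¹ * valHom (x * (h : Pts G)⁻¹) e₀
  have hTwd : ∀ x (h h' : HP i), (QuotientGroup.mk h : HP i ⧸ N) = QuotientGroup.mk h' → T x h = T x h' := by
    intro x h h' hq
    obtain ⟨gm, hgm, rfl⟩ : ∃ gm : HP i, (gm : Pts G) ∈ idComp G ∧ h' = gm * h := ⟨h' * h⁻¹, by
      have h1 : h' * h⁻¹ ∈ N := by
        rw [← QuotientGroup.eq_one_iff, QuotientGroup.mk_mul, QuotientGroup.mk_inv, hq, mul_inv_cancel]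
      exact h1, by rw [inv_mul_cancel_right]⟩
    show _ = (valHom ((gm : Pts G) * (h : Pts G)) D)⁻¹ * valHom (x * ((gm : Pts G) * (h : Pts G))⁻¹) e₀
    rw [hD.mul i gm.2 h.2, _root_.mul_inv_rev (gm : Pts G), ← _root_.mul_assoc x]
    have h2 := he₀semi (x * (h : Pts G)⁻¹) (gm : Pts G)⁻¹ ((HP i).inv_mem gm.2) ((idComp G).inv_mem hgm)
    have h3 : valHom (gm : Pts G)⁻¹ D = (valHom (gm : Pts G) D)⁻¹ := by
      refine eq_inv_of_mul_eq_one_left ?_
      rw [← hD.mul i ((HP i).inv_mem gm.2) gm.2, inv_mul_cancel, hD.one]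
    rw [h3] at h2
    show (valHom (h : Pts G) D)⁻¹ * valHom (x * (h : Pts G)⁻¹) e₀ = _
    rw [← h2, _root_.mul_inv]
    ring
  let e : Coord G := ∑ q : HP i ⧸ N, (valHom (q.out : Pts G) D)⁻¹ • Rt ((q.out : HP i) : Pts G)⁻¹ e₀
  have he : ∀ x, valHom x e = ∑ q : HP i ⧸ N, T x q.out := fun x => by
    simp only [e, map_sum, map_smul, val_Rt, smul_eq_mul, T]
  refine ⟨e, ?_, fun x h hh => ?_⟩
  · rw [he, Finset.sum_eq_single (1 : HP i ⧸ N)]
    · rw [hTwd 1 _ 1 (by simp)]
      show (valHom (1 : Pts G) D)⁻¹ * valHom (1 * (1 : Pts G)⁻¹) e₀ = 1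
      rw [hD.one, inv_one, inv_one, _root_.one_mul, _root_.one_mul]
      have := (he₀ 1).1
      rw [if_pos (idComp G).one_mem] at this
      exact mul_right_cancel₀ (hEne 1 (idComp G).one_mem) (this.trans (_root_.one_mul _).symm)
    · intro q _ hq
      show _ * _ = (0 : k)
      rw [(he₀ _).2, mul_zero]
      rw [_root_.one_mul, (idComp G).inv_mem_iff]
      intro hm
      refine hq ?_
      rw [← QuotientGroup.out_eq' q]
      exact (QuotientGroup.eq_one_iff _).2 hm
    · simp
  · let h' : HP i := ⟨h, hh⟩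
    rw [he, he, Finset.sum_mul]
    refine Fintype.sum_equiv (Equiv.mulRight (QuotientGroup.mk h' : HP i ⧸ N)⁻¹) _ _ fun q => ?_
    rw [hTwd x (Equiv.mulRight (QuotientGroup.mk h' : HP i ⧸ N)⁻¹ q).out (q.out * h'⁻¹) (by simp)]
    show (valHom (q.out : Pts G) D)⁻¹ * valHom (x * h * (q.out : Pts G)⁻¹) e₀ * valHom h D =
      (valHom ((q.out : Pts G) * h⁻¹) D)⁻¹ * valHom (x * ((q.out : Pts G) * h⁻¹)⁻¹) e₀
    have h1 : valHom ((q.out : Pts G) * h⁻¹) D * valHom h D = valHom (q.out : Pts G) D := by
      rw [← hD.mul i ((HP i).mul_mem q.out.2 ((HP i).inv_mem hh)) hh, inv_mul_cancel_right]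
    rw [← h1, _root_.mul_inv_rev ((q.out : Pts G)), _root_.inv_inv, ← _root_.mul_assoc x, _root_.mul_inv]
    have hne := hD.ne_zero i hh
    field_simp

end Groth.Agent.AGFObs
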