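import Groth.Agent.AGFObs.Coact
import Groth.Agent.AGFObs.Solvable
import Mathlib.RingTheory.Flat.FaithfullyFlat.Algebra
import Mathlib.AlgebraicGeometry.Morphisms.Flat

/-!
Descending an additive function along an affine quotient.
-/

set_option autoImplicit false

universe u

noncomputable section

open CategoryTheory MonoidalCategory CartesianMonoidalCategory MonObj GrpObj AlgebraicGeometry
open scoped TensorProduct
open Groth.Agent.AGFPoints.Basic Groth.Agent.AGFLang

namespace Groth.Agent.AGFObs.Prim

variable {k : Type u} [Field k]

/-- pullback of functions -/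
def pull {G X : Over (Spec (CommRingCat.of k))} (q : G ⟶ X) : Coord X →ₐ[k] Coord G :=
  { (q.left.appTop.hom : Γ(X.left, ⊤) →+* Γ(G.left, ⊤)) with
    commutes' := fun c => by
      show q.left.appTop (X.hom.appTop ((Scheme.ΓSpecIso (CommRingCat.of k)).inv c)) =
        G.hom.appTop ((Scheme.ΓSpecIso (CommRingCat.of k)).inv c)
      rw [← Over.w q]
      rfl }

theorem val_pull {G X : Over (Spec (CommRingCat.of k))} (q : G ⟶ X) {B : Type u} [CommRing B] [Algebra k B]
    (t : VecGrp.pt k B ⟶ G) (f : Coord X) : valHom t (pull q f) = valHom (t ≫ q) f := rfl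

variable [IsAlgClosed k] {G X H U : Over (Spec (CommRingCat.of k))} [GrpObj G] [GrpObj H] [GrpObj U]
  [IsAffine G.left] [Smooth G.hom] [IsAffine H.left] [Smooth H.hom] [IsAffine U.left] [Smooth U.hom]
  [IsAffine X.left] (q : G ⟶ X) [Flat q.left] [Surjective q.left]
  (j : H ⟶ G) [IsMonHom j] [IsClosedImmersion j.left] (u : U ⟶ H) [IsMonHom u]

/-- an additive function extends along an affine quotient -/
theorem exists_primitive
    (hrel : ∀ (C : Type u) [CommRing C] [Algebra k C] (t t' : VecGrp.pt k C ⟶ G), t ≫ q = t' ≫ q →
      ∃ h : VecGrp.pt k C ⟶ H, t * (h ≫ j) = t')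
    (hcon : ∀ (g : Pts G) (w : Pts U), (g * (w ≫ u ≫ j)) ≫ q = g ≫ q)
    (b : Coord H) (a : Coord U) (hb : ∀ (x : Pts H) (w : Pts U), valHom (x * (w ≫ u)) b = valHom x b + valHom w a) :
    ∃ φ : Coord G, ∀ (g : Pts G) (w : Pts U), valHom (g * (w ≫ u ≫ j)) φ = valHom g φ + valHom w a := by
  letI : Algebra (Coord X) (Coord G) := (pull q).toRingHom.toAlgebra
  have : IsScalarTower k (Coord X) (Coord G) := IsScalarTower.of_algebraMap_eq fun c => ((pull q).commutes c).symm
  have hff : Module.FaithfullyFlat (Coord X) (Coord G) := by
    have hflat : Module.Flat (Coord X) (Coord G) :=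
      (HasRingHomProperty.iff_of_isAffine (P := @Flat)).1 (inferInstance : Flat q.left)
    refine Module.FaithfullyFlat.of_comap_surjective fun p => ?_
    have hs : Surjective (Spec.map q.left.appTop) := by
      have : Surjective (G.left.toSpecΓ ≫ Spec.map q.left.appTop) := by
        rw [← Scheme.toSpecΓ_naturality]; infer_instance
      exact Surjective.of_comp G.left.toSpecΓ _
    exact hs.surj p
  let K := Coord U
  let δ : Coord G →ₐ[k] Coord G ⊗[k] K := (Algebra.TensorProduct.map (AlgHom.id k _) (res (u ≫ j))).comp (comul G)
  have hev : ∀ (g : Pts G) (w : Pts U) (f : Coord G),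
      Algebra.TensorProduct.lift (valHom g) (valHom w) (fun _ _ => Commute.all _ _) (δ f) =
        valHom (g * (w ≫ u ≫ j)) f := fun g w f => by
    rw [valHom_mul, AlgHom.comp_apply]
    have key : ∀ z : Coord G ⊗[k] Coord G, Algebra.TensorProduct.lift (valHom g) (valHom w) (fun _ _ => Commute.all _ _)
        (Algebra.TensorProduct.map (AlgHom.id k _) (res (u ≫ j)) z) =
        Algebra.TensorProduct.lift (valHom g) (valHom (w ≫ u ≫ j)) (fun _ _ => Commute.all _ _) z := fun z => by
      induction z with
      | zero => simp
      | add a b ha hb => simp only [map_add, ha, hb]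
      | tmul a b => simp [valHom_comp, -valHom_apply]
    exact key _
  have hext : ∀ z z' : Coord G ⊗[k] K, (∀ (g : Pts G) (w : Pts U),
      Algebra.TensorProduct.lift (valHom g) (valHom w) (fun _ _ => Commute.all _ _) z =
      Algebra.TensorProduct.lift (valHom g) (valHom w) (fun _ _ => Commute.all _ _) z') → z = z' := fun z z' h => by
    refine tensor_ext fun g => ext_pts fun w => ?_
    have e : ∀ y : Coord G ⊗[k] K, valHom w (TensorProduct.lid k K ((valHom g).toLinearMap.rTensor K y)) =
        Algebra.TensorProduct.lift (valHom g) (valHom w) (fun _ _ => Commute.all _ _) y := fun y => by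
      induction y with
      | zero => simp [-valHom_apply]
      | add a b ha hb => simp only [map_add, ha, hb]
      | tmul a b => simp [-valHom_apply]
    rw [e, e]
    exact h g w
  have hS : ∀ s : Coord X, δ (pull q s) = pull q s ⊗ₜ 1 := fun s => hext _ _ fun g w => by
    rw [hev, val_pull, hcon, Algebra.TensorProduct.lift_tmul, map_one, _root_.mul_one, val_pull]
  let D : Coord G →ₗ[Coord X] Coord G ⊗[k] K :=
    { toFun := fun f => δ f - f ⊗ₜ 1
      map_add' := fun f f' => by rw [map_add, TensorProduct.add_tmul]; abel
      map_smul' := fun s f => by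
        rw [RingHom.id_apply, smul_sub, TensorProduct.smul_tmul']
        congr 1
        rw [Algebra.smul_def, map_mul, show algebraMap (Coord X) (Coord G) s = pull q s from rfl, hS, Algebra.smul_def]
        rfl }
  let M := (Coord G ⊗[k] K) ⧸ LinearMap.range D
  have key : ((1 : Coord G) ⊗ₜ[Coord X] (Submodule.Quotient.mk ((1 : Coord G) ⊗ₜ[k] a) : M)) = 0 := by
    obtain ⟨b₀, hb₀⟩ := res_surjective j b
    let z : Coord G ⊗[k] Coord G := Algebra.TensorProduct.map (inv' G) (AlgHom.id k _) (comul G b₀)
    have hz : ∀ g g' : Pts G,
        Algebra.TensorProduct.lift (valHom g) (valHom g') (fun _ _ => Commute.all _ _) z = valHom (g⁻¹ * g') b₀ := fun g g' => by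
      rw [valHom_mul, AlgHom.comp_apply]
      show Algebra.TensorProduct.lift (valHom g) (valHom g') _ (Algebra.TensorProduct.map (inv' G) (AlgHom.id k _) (comul G b₀)) = _
      generalize comul G b₀ = y
      induction y with
      | zero => simp
      | add a b ha hb => simp only [map_add, ha, hb]
      | tmul a b => simp [val_inv', -valHom_apply]
    let Dk : Coord G →ₗ[k] Coord G ⊗[k] K :=
      δ.toLinearMap - (TensorProduct.mk k (Coord G) K).flip 1
    let Δ : Coord G ⊗[k] (Coord G ⊗[k] K) := Dk.lTensor (Coord G) z - (1 : Coord G) ⊗ₜ ((1 : Coord G) ⊗ₜ a)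
    let Θ : Coord G ⊗[k] (Coord G ⊗[k] K) →ₗ[k] K ⊗[k] (Coord G ⊗[k] Coord G) :=
      (TensorProduct.comm k _ K).toLinearMap ∘ₗ (TensorProduct.assoc k (Coord G) (Coord G) K).symm.toLinearMap
    let πS : Coord G ⊗[k] Coord G →ₐ[k] Coord G ⊗[Coord X] Coord G :=
      Algebra.TensorProduct.lift
        ((Algebra.TensorProduct.includeLeft (R := Coord X) (S := Coord X) (A := Coord G) (B := Coord G)).restrictScalars k)
        ((Algebra.TensorProduct.includeRight (R := Coord X) (A := Coord G) (B := Coord G)).restrictScalars k)
        fun _ _ => mul_comm _ _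
    -- functions vanishing on pairs with the same image die
    have hdie : ∀ y : Coord G ⊗[k] Coord G, (∀ (g : Pts G) (h : Pts H),
        Algebra.TensorProduct.lift (valHom g) (valHom (g * (h ≫ j))) (fun _ _ => Commute.all _ _) y = 0) → πS y = 0 := by
      intro y hy
      let iL := (Algebra.TensorProduct.includeLeft (R := Coord X) (S := Coord X) (A := Coord G) (B := Coord G)).restrictScalars k
      let iR := (Algebra.TensorProduct.includeRight (R := Coord X) (A := Coord G) (B := Coord G)).restrictScalars k
      have e : ofHom iL ≫ q = ofHom iR ≫ q := valHom_inj (AlgHom.ext fun s => by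
        rw [← val_pull, ← val_pull, valHom_ofHom, valHom_ofHom]
        show (algebraMap (Coord X) (Coord G) s) ⊗ₜ[Coord X] (1 : Coord G) = (1 : Coord G) ⊗ₜ[Coord X] algebraMap (Coord X) (Coord G) s
        rw [Algebra.algebraMap_eq_smul_one, TensorProduct.smul_tmul])
      obtain ⟨h, hh⟩ := hrel _ _ _ e
      let r : Coord G ⊗[k] Coord G →ₐ[k] Coord G ⊗[k] Coord H :=
        Algebra.TensorProduct.lift Algebra.TensorProduct.includeLeft
          ((Algebra.TensorProduct.map (AlgHom.id k _) (res j)).comp (comul G)) fun _ _ => mul_comm _ _
      have hr : ∀ {C : Type u} [CommRing C] [Algebra k C] (t : VecGrp.pt k C ⟶ G) (t' : VecGrp.pt k C ⟶ H)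
          (y : Coord G ⊗[k] Coord G),
          Algebra.TensorProduct.lift (valHom t) (valHom t') (fun _ _ => Commute.all _ _) (r y) =
          Algebra.TensorProduct.lift (valHom t) (valHom (t * (t' ≫ j))) (fun _ _ => Commute.all _ _) y := by
        intro C _ _ t t' y
        induction y with
        | zero => simp
        | add a b ha hb => simp only [map_add, ha, hb]
        | tmul a b =>
          rw [Algebra.TensorProduct.lift_tmul, Algebra.TensorProduct.lift_tmul, map_mul, valHom_mul]
          simp only [AlgHom.comp_apply, Algebra.TensorProduct.includeLeft_apply, Algebra.TensorProduct.lift_tmul,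
            map_one, _root_.mul_one]
          congr 1
          generalize comul G b = w
          induction w with
          | zero => simp
          | add a b ha hb => simp only [map_add, ha, hb]
          | tmul a b => simp [valHom_comp, -valHom_apply]
      have hr0 : r y = 0 := tensor_eq_zero fun g => eq_zero_of_pts fun x => by
        have e : ∀ v : Coord G ⊗[k] Coord H, valHom x (TensorProduct.lid k _ ((valHom g).toLinearMap.rTensor _ v)) =
            Algebra.TensorProduct.lift (valHom g) (valHom x) (fun _ _ => Commute.all _ _) v := fun v => by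
          induction v with
          | zero => simp [-valHom_apply]
          | add a b ha hb => simp only [map_add, ha, hb]
          | tmul a b => simp [-valHom_apply]
        rw [e, hr]
        exact hy g x
      have := hr (ofHom iL) h y
      rw [hr0, map_zero, hh] at this
      rw [this]
      simp only [valHom_ofHom]
      rfl
    have hΔ : (πS.toLinearMap.lTensor K) (Θ Δ) = 0 := tensor_eq_zero fun w => by
      have e1 : ∀ y : K ⊗[k] (Coord G ⊗[k] Coord G), TensorProduct.lid k _ ((valHom w).toLinearMap.rTensor _
          (πS.toLinearMap.lTensor K y)) = πS (TensorProduct.lid k _ ((valHom w).toLinearMap.rTensor _ y)) := fun y => by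
        induction y with
        | zero => simp
        | add a b ha hb => simp only [map_add, ha, hb]
        | tmul a b => simp [-valHom_apply]
      rw [e1]
      refine hdie _ fun g h => ?_
      have e2 : ∀ y : Coord G ⊗[k] (Coord G ⊗[k] K),
          Algebra.TensorProduct.lift (valHom g) (valHom (g * (h ≫ j))) (fun _ _ => Commute.all _ _)
            (TensorProduct.lid k _ ((valHom w).toLinearMap.rTensor _ (Θ y))) =
          Algebra.TensorProduct.lift (valHom g)
            (Algebra.TensorProduct.lift (valHom (g * (h ≫ j))) (valHom w) (fun _ _ => Commute.all _ _))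
            (fun _ _ => Commute.all _ _) y := fun y => by
        induction y with
        | zero => simp
        | add a b ha hb => simp only [map_add, ha, hb]
        | tmul p rest =>
          induction rest with
          | zero => simp
          | add a b ha hb => simp only [TensorProduct.tmul_add, map_add, ha, hb]
          | tmul p' c => simp [Θ, -valHom_apply]; ring
      rw [e2, map_sub, Algebra.TensorProduct.lift_tmul, Algebra.TensorProduct.lift_tmul, map_one, map_one,
        _root_.one_mul, _root_.one_mul]
      have e3 : ∀ y : Coord G ⊗[k] Coord G,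
          Algebra.TensorProduct.lift (valHom g)
            (Algebra.TensorProduct.lift (valHom (g * (h ≫ j))) (valHom w) (fun _ _ => Commute.all _ _))
            (fun _ _ => Commute.all _ _) (Dk.lTensor (Coord G) y) =
          Algebra.TensorProduct.lift (valHom g) (valHom (g * (h ≫ j) * (w ≫ u ≫ j))) (fun _ _ => Commute.all _ _) y -
          Algebra.TensorProduct.lift (valHom g) (valHom (g * (h ≫ j))) (fun _ _ => Commute.all _ _) y := fun y => by
        induction y with
        | zero => simp
        | add a b ha hb => simp only [map_add, ha, hb]; abel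
        | tmul p p' =>
          simp only [LinearMap.lTensor_tmul, Dk, LinearMap.sub_apply, AlgHom.toLinearMap_apply, LinearMap.flip_apply,
            TensorProduct.mk_apply, TensorProduct.tmul_sub, map_sub, Algebra.TensorProduct.lift_tmul, map_one,
            _root_.mul_one, hev]
      rw [e3, hz, hz, inv_mul_cancel_left, ← _root_.mul_assoc, inv_mul_cancel_left,
        ← Category.assoc w u j, ← MonObj.mul_comp h (w ≫ u) j, valHom_comp, valHom_comp, AlgHom.comp_apply,
        AlgHom.comp_apply, hb₀, hb]
      ring
    let F' : K ⊗[k] (Coord G ⊗[Coord X] Coord G) →ₗ[k] Coord G ⊗[Coord X] (Coord G ⊗[k] K) :=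
      TensorProduct.lift
        (LinearMap.mk₂ k (fun c x => LinearMap.lTensor (Coord G)
          ({ toFun := fun p => p ⊗ₜ[k] c
             map_add' := fun p p' => TensorProduct.add_tmul p p' c
             map_smul' := fun s p => (TensorProduct.smul_tmul' s p c).symm } : Coord G →ₗ[Coord X] Coord G ⊗[k] K) x)
          (fun c c' x => by
            induction x with
            | zero => simp
            | add a b ha hb => simp only [map_add, ha, hb]; abel
            | tmul p p' => simp [TensorProduct.tmul_add])
          (fun r c x => by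
            induction x with
            | zero => simp
            | add a b ha hb => simp only [map_add, smul_add, ha, hb]
            | tmul p p' => simp [TensorProduct.tmul_smul])
          (fun c x x' => map_add _ _ _)
          (fun r c x => LinearMap.map_smul_of_tower _ r x))
    have hF : ∀ y : Coord G ⊗[k] Coord G, F' ((πS.toLinearMap.lTensor K) (Θ (Dk.lTensor (Coord G) y))) =
        (D.lTensor (Coord G)) (πS y) := fun y => by
      induction y with
      | zero => simp
      | add a b ha hb => simp only [map_add, ha, hb]
      | tmul p p' =>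
        have : ∀ v : Coord G ⊗[k] K, F' ((πS.toLinearMap.lTensor K) (Θ (p ⊗ₜ v))) = p ⊗ₜ[Coord X] v := fun v => by
          induction v with
          | zero => simp
          | add a b ha hb => simp only [TensorProduct.tmul_add, map_add, ha, hb]
          | tmul a c => simp [Θ, F', πS]
        rw [LinearMap.lTensor_tmul, this]
        simp [πS, D, Dk]
    have h1 : (D.lTensor (Coord G)) (πS z) = (1 : Coord G) ⊗ₜ[Coord X] ((1 : Coord G) ⊗ₜ[k] a) := by
      have h0 := congrArg F' hΔ
      rw [map_zero, map_sub, map_sub, map_sub, hF, sub_eq_zero] at h0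
      rw [h0]
      simp [Θ, F', πS]
    have h2 := congrArg ((Submodule.mkQ (LinearMap.range D)).lTensor (Coord G)) h1
    rw [← LinearMap.comp_apply, ← LinearMap.lTensor_comp, LinearMap.range_mkQ_comp, LinearMap.lTensor_zero,
      LinearMap.zero_apply, LinearMap.lTensor_tmul] at h2
    exact h2.symm
  have hmem : ((1 : Coord G) ⊗ₜ[k] a) ∈ LinearMap.range D := by
    rw [← Submodule.Quotient.mk_eq_zero]
    exact Module.FaithfullyFlat.tensorProduct_mk_injective (A := Coord X) (B := Coord G) M (key.trans (map_zero _).symm)
  obtain ⟨φ, hφ⟩ := hmem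
  refine ⟨φ, fun g w => ?_⟩
  have := congrArg (Algebra.TensorProduct.lift (valHom g) (valHom w) (fun _ _ => Commute.all _ _)) hφ
  change Algebra.TensorProduct.lift (valHom g) (valHom w) _ (δ φ - φ ⊗ₜ 1) = _ at this
  rw [map_sub, hev, Algebra.TensorProduct.lift_tmul, Algebra.TensorProduct.lift_tmul, map_one, map_one,
    _root_.mul_one, _root_.one_mul, sub_eq_iff_eq_add, add_comm] at this
  exact this

end Groth.Agent.AGFObs.Prim
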