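import Groth.Agent.AGFObs.Additive
import Groth.Agent.AGFObs.Prim
import Groth.Agent.AGFObs.NoPrim
import Groth.Agent.AGFObs.OpenSub
import Groth.Agent.GrpdLib.AffNormalQuot
import Groth.Agent.S7520
import Mathlib.AlgebraicGeometry.Morphisms.FlatMono

/-!
Subgroups with affine quotient in reductive groups are reductive.
-/

set_option autoImplicit false

universe u

noncomputable section

open CategoryTheory MonoidalCategory CartesianMonoidalCategory MonObj GrpObj AlgebraicGeometry
open scoped TensorProduct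
open Groth.Agent.AGFPoints.Basic Groth.Agent.AGFLang

namespace Groth.Agent.AGFObs.RedConv

variable {k : Type u} [Field k] [IsAlgClosed k]

/-- a non-zero additive function on a connected group takes infinitely many values -/
theorem infinite_range {U : Over (Spec (CommRingCat.of k))} [GrpObj U] [IsAffine U.left] [Smooth U.hom]
    [ConnectedSpace U.left] (a : Coord U) (ha : a ≠ 0)
    (hadd : ∀ z w : Pts U, valHom (z * w) a = valHom z a + valHom w a) :
    (Set.range fun w : Pts U => valHom w a).Infinite := by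
  classical
  intro hfin
  let S : Finset k := hfin.toFinset.filter (· ≠ 0)
  let e : Coord U := ∏ s ∈ S, (1 - s⁻¹ • a)
  have h01 : ∀ x : Pts U, (valHom x a = 0 → valHom x e = 1) ∧ (valHom x a ≠ 0 → valHom x e = 0) := fun x => by
    constructor
    · intro h
      rw [map_prod]
      exact Finset.prod_eq_one fun s _ => by rw [map_sub, map_one, map_smul, h, smul_zero, sub_zero]
    · intro h
      rw [map_prod]
      refine Finset.prod_eq_zero (i := valHom x a) (Finset.mem_filter.2 ⟨hfin.mem_toFinset.2 ⟨x, rfl⟩, h⟩) ?_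
      rw [map_sub, map_one, map_smul, smul_eq_mul, inv_mul_cancel₀ h, sub_self]
  obtain ⟨z, hz⟩ : ∃ z : Pts U, valHom z a ≠ 0 := not_forall.1 fun h => ha (eq_zero_of_pts h)
  have h1 : valHom (1 : Pts U) a = 0 := by
    have := hadd 1 1
    rw [_root_.one_mul] at this
    simpa using this
  let V : U.left.Opens := U.left.basicOpen (U := ⊤) e
  let W : U.left.Opens := U.left.basicOpen (U := ⊤) (1 - e : Coord U)
  have hcover : ∀ p : U.left, p ∈ V ∨ p ∈ W := fun p => by
    by_contra hp
    rw [not_or] at hp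
    obtain ⟨x, -, hx⟩ := exists_pz (G := U) isOpen_univ ((V.isOpen.union W.isOpen).isClosed_compl)
      ⟨p, trivial, fun h => h.elim hp.1 hp.2⟩
    by_cases h : valHom x a = 0
    · exact hx (Or.inl ((mem_basicOpen_iff x _).2 (by rw [(h01 x).1 h]; exact one_ne_zero)))
    · exact hx (Or.inr ((mem_basicOpen_iff x _).2 (by rw [map_sub, map_one, (h01 x).2 h, sub_zero]; exact one_ne_zero)))
  obtain ⟨p, -, hpV, hpW⟩ := isPreconnected_univ (α := U.left) (V : Set U.left) (W : Set U.left) V.isOpen W.isOpen
    (fun p _ => hcover p) ⟨pz (1 : Pts U), trivial, (mem_basicOpen_iff _ _).2 (by rw [(h01 1).1 h1]; exact one_ne_zero)⟩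
    ⟨pz z, trivial, (mem_basicOpen_iff z _).2 (by rw [map_sub, map_one, (h01 z).2 hz, sub_zero]; exact one_ne_zero)⟩
  have hz0 : ((e * (1 - e)) : Coord U) = 0 := ext_pts fun x => by
    rw [map_mul, map_sub, map_one, map_zero]
    by_cases h : valHom x a = 0
    · rw [(h01 x).1 h]; simp
    · rw [(h01 x).2 h]; simp
  obtain ⟨x, hxV, -⟩ := exists_pz (G := U) (V.isOpen.inter W.isOpen) isClosed_univ ⟨p, ⟨hpV, hpW⟩, trivial⟩
  refine mul_ne_zero ((mem_basicOpen_iff x _).1 hxV.1) ((mem_basicOpen_iff x _).1 hxV.2) ?_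
  rw [← map_mul, hz0, map_zero]

/-- a subgroup with affine quotient in a reductive group is reductive -/
theorem isReductive_of_affine {G H : Over (Spec (CommRingCat.of k))} [GrpObj G] [IsAffine G.left] [Smooth G.hom]
    [GrpObj H] [Smooth H.hom] (i : H ⟶ G) [IsMonHom i] [IsClosedImmersion i.left]
    (hG : VecGrp.IsReductiveGrp k G) (thmAbiv : AGF.ReductiveQuotSeparates k)
    (X : Over (Spec (CommRingCat.of k))) (act : AlgGrp.Action G X) (o : 𝟙_ (Over (Spec (CommRingCat.of k))) ⟶ X)
    (hX : AGF.IsQuotient i X act o) [IsAffine X.left] : VecGrp.IsReductiveGrp k H := by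
  classical
  have : IsAffine H.left := isAffine_of_isAffineHom i.left
  obtain ⟨H₀, _, jH, _, hjc, hjf, hrange, -, -⟩ := Groth.Agent.S7520.result k H
  have := hjc
  have := hjf
  have : Mono jH := Over.mono_of_mono_left jH
  have : LocallyOfFiniteType (jH.left ≫ H.hom) := inferInstance
  have : IsLocallyNoetherian H.left := LocallyOfFiniteType.isLocallyNoetherian H.hom
  have : IsOpenImmersion jH.left := IsOpenImmersion.of_flat_of_mono jH.left
  have : IsAffine H₀.left := isAffine_of_isAffineHom jH.left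
  have : Smooth H₀.hom := by rw [← Over.w jH]; infer_instance
  have : ConnectedSpace H₀.left :=
    { toPreconnectedSpace := ⟨(jH.left.isClosedEmbedding.isInducing.isPreconnected_image).1 (by
        rw [Set.image_univ, hrange]; exact isPreconnected_connectedComponent)⟩
      toNonempty := ⟨(show (η[H].left (IsLocalRing.closedPoint k)) ∈ Set.range jH.left from
        hrange ▸ mem_connectedComponent).choose⟩ }
  refine ⟨inferInstance, inferInstance, H₀, ‹_›, jH, ‹_›, ‹_›, inferInstance, inferInstance, inferInstance,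
    fun U _ iU _ hcl hsm hconn hnorm hno => ?_⟩
  have := hcl
  have := hsm
  have := hconn
  have : IsAffine U.left := isAffine_of_isAffineHom iU.left
  by_cases hne : ∃ z : Pts U, z ≠ 1
  · exfalso
    obtain ⟨a, ha, hadd⟩ := Additive.exists_additive hno hne
    have : Mono iU := Over.mono_of_mono_left iU
    have : QuasiCompact U.hom := by rw [← Over.w iU]; infer_instance
    obtain ⟨Q, _, q, _, hQa, -, hqf, hqs, hker⟩ := GrpdLib.AffNormalQuot.exists_affine_quotient H₀ U iU hnorm
    have := hQa
    have := hqf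
    have := hqs
    have hi1 : iU ≫ q = 1 := by rw [hker.w, Hom.one_def]
    obtain ⟨φ₀, hφ₀⟩ := Prim.exists_primitive q iU (𝟙 U)
      (fun C _ _ t t' h => by
        have e : (t⁻¹ * t') ≫ q = toUnit _ ≫ η[Q] := by
          rw [MonObj.mul_comp, GrpObj.inv_comp, h, inv_mul_cancel, Hom.one_def]
        exact ⟨hker.lift _ _ e, by rw [hker.lift_fst, mul_inv_cancel_left]⟩)
      (fun g w => by
        rw [Category.id_comp, MonObj.mul_comp, Category.assoc, hi1, MonObj.comp_one, _root_.mul_one])
      a a (fun x w => by rw [Category.comp_id]; exact hadd x w)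
    obtain ⟨b₁, hb₁⟩ := res_surjective jH φ₀
    obtain ⟨ε, -, hεmem, hε01⟩ := exists_idem jH
    have := finite_quotient jH
    have := Fintype.ofFinite (Pts H ⧸ HP jH)
    let b' : Coord H := ∑ c : Pts H ⧸ HP jH, L c.out⁻¹ ((1 - ε) * b₁)
    have hb' : ∀ x : Pts H, valHom x b' = valHom ((QuotientGroup.mk x : Pts H ⧸ HP jH).out⁻¹ * x) b₁ := fun x => by
      rw [map_sum, Finset.sum_eq_single (QuotientGroup.mk x : Pts H ⧸ HP jH)]
      · rw [val_L, map_mul, map_sub, map_one, (hεmem _).1 (QuotientGroup.eq.1 (QuotientGroup.out_eq' _)), sub_zero,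
          _root_.one_mul]
      · intro c _ hc
        rw [val_L, map_mul, map_sub, map_one, (hε01 _).resolve_left fun h0 => hc (by
          rw [← QuotientGroup.out_eq' c]
          exact QuotientGroup.eq.2 ((hεmem _).2 h0)), sub_self, zero_mul]
      · exact fun h => absurd (Finset.mem_univ _) h
    have hb : ∀ (x : Pts H) (w : Pts U), valHom (x * (w ≫ iU ≫ jH)) b' = valHom x b' + valHom w a := fun x w => by
      have hm : (QuotientGroup.mk (x * (w ≫ iU ≫ jH)) : Pts H ⧸ HP jH) = QuotientGroup.mk x := by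
        refine (QuotientGroup.eq.2 ?_).symm
        rw [inv_mul_cancel_left]
        exact ⟨w ≫ iU, Category.assoc _ _ _⟩
      rw [hb', hb', hm, ← _root_.mul_assoc]
      obtain ⟨y, hy⟩ : (QuotientGroup.mk x : Pts H ⧸ HP jH).out⁻¹ * x ∈ HP jH := QuotientGroup.eq.1 (QuotientGroup.out_eq' _)
      rw [← hy, ← Category.assoc, ← MonObj.mul_comp y (w ≫ iU) jH, valHom_comp, valHom_comp, AlgHom.comp_apply,
        AlgHom.comp_apply, hb₁]
      have h3 := hφ₀ y w
      rwa [Category.id_comp] at h3
    obtain ⟨hlft, hflat, hsurj, hpb⟩ := hX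
    have := hlft; have := hflat; have := hsurj
    obtain ⟨φ, hφ⟩ := Prim.exists_primitive (act.orbitMap o) i (iU ≫ jH)
      (fun C _ _ t t' h => (AGFQuot.Basic.comp_eq_iff hpb t t').1 h)
      (fun g w => ((AGFQuot.Basic.comp_eq_iff hpb _ _).2 ⟨w ≫ iU ≫ jH, by simp only [Category.assoc]⟩).symm)
      b' a hb
    exact NoPrim.false_of_primitive ((iU ≫ jH) ≫ i) hG thmAbiv φ a hφ (infinite_range a ha hadd)
  · simp only [ne_eq, not_exists, not_not] at hne
    let e0 : VecGrp.pt k k ≅ 𝟙_ (Over (Spec (CommRingCat.of k))) :=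
      Over.isoMk (Iso.refl _) (by
        show 𝟙 _ ≫ 𝟙 _ = Spec.map (CommRingCat.ofHom (algebraMap k k))
        simp)
    have := GrpScheme.HomFlat.isReduced_of_smooth U.hom
    have := GrpScheme.IdComponent.isSeparated U
    have e : 𝟙 U = (1 : U ⟶ U) := Borel50.Centralizer.hom_ext _ _ fun w => by
      rw [Category.comp_id, MonObj.comp_one, ← e0.inv_hom_id_assoc w, hne (e0.hom ≫ w), MonObj.comp_one]
    have e1 : toUnit U ≫ η[U] = 𝟙 U := by rw [e, Hom.one_def]
    exact ⟨(η[U] : 𝟙_ (Over (Spec (CommRingCat.of k))) ⟶ U).left, by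
      have := congrArg CommaMorphism.left e1
      simpa using this, Over.w _⟩

end Groth.Agent.AGFObs.RedConv
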