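import Groth.Agent.AGFObs.Rep
import Groth.Prelude.Def_W4bk4grossh1223Act

/-!
The regular action of a subgroup on the functions of the group.
-/

set_option autoImplicit false

universe u

noncomputable section

open CategoryTheory MonoidalCategory CartesianMonoidalCategory MonObj GrpObj AlgebraicGeometry
open scoped TensorProduct
open Groth.Agent.AGFPoints.Basic Groth.Agent.AGFLang

namespace Groth.Agent.AGFObs

variable {k : Type u} [Field k] {G H : Over (Spec (CommRingCat.of k))} [GrpObj G] [IsAffine G.left]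

theorem TB_TB {B : Type u} [CommRing B] [Algebra k B] (g h : VecGrp.pt k B ⟶ G) (x : B ⊗[k] Coord G) :
    TB g (TB h x) = TB (g * h) x := by
  induction x with
  | zero => simp
  | add x y hx hy => simp only [map_add, hx, hy]
  | tmul b a => rw [TB_tmul, TB_tmul, map_smul, TB_mul]

theorem TB_one {B : Type u} [CommRing B] [Algebra k B] (x : B ⊗[k] Coord G) :
    TB (1 : VecGrp.pt k B ⟶ G) x = x := by
  induction x with
  | zero => simp
  | add x y hx hy => simp only [map_add, hx, hy]
  | tmul b a => rw [TB_tmul, rtB_one, TensorProduct.smul_tmul', smul_eq_mul, _root_.mul_one]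

/-- translation as an automorphism -/
def TEquiv {B : Type u} [CommRing B] [Algebra k B] (g : VecGrp.pt k B ⟶ G) : B ⊗[k] Coord G ≃ₐ[B] B ⊗[k] Coord G :=
  AlgEquiv.ofAlgHom (TB g) (TB g⁻¹)
    (AlgHom.ext fun x => by rw [AlgHom.comp_apply, TB_TB, mul_inv_cancel, TB_one]; rfl)
    (AlgHom.ext fun x => by rw [AlgHom.comp_apply, TB_TB, inv_mul_cancel, TB_one]; rfl)

variable [GrpObj H] (i : H ⟶ G) [IsMonHom i] [IsAlgClosed k] [Smooth G.hom]

/-- right translation by the subgroup on the functions of the group -/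
def regMod : VecGrp.GMod H (Coord G) where
  ρ B _ _ :=
    { toFun := fun g => (TEquiv (g ≫ i)).toLinearEquiv
      map_one' := LinearEquiv.ext fun x => by
        show TB ((1 : VecGrp.pt k B ⟶ H) ≫ i) x = x
        rw [MonObj.one_comp, TB_one]
      map_mul' := fun g h => LinearEquiv.ext fun x => by
        show TB ((g * h) ≫ i) x = TB (g ≫ i) (TB (h ≫ i) x)
        rw [MonObj.mul_comp g h i, TB_TB] }
  naturality {B B'} _ _ _ _ φ g y := by
    show φ.toLinearMap.rTensor (Coord G) (TB (g ≫ i) y) = TB ((VecGrp.ptMap φ ≫ g) ≫ i) (φ.toLinearMap.rTensor (Coord G) y)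
    rw [Category.assoc]
    induction y using TensorProduct.induction_on with
    | zero => simp
    | add x y hx hy => simp only [map_add, hx, hy]
    | tmul b a =>
      rw [TB_tmul, LinearMap.rTensor_tmul, TB_tmul, ← rtB_natural]
      exact VecGrp.Wmap_smul φ b _

theorem regMod_isMult : (regMod i).IsMult := fun _ _ _ g =>
  ⟨fun x y => map_mul (TEquiv (g ≫ i)) x y, map_one (TEquiv (g ≫ i))⟩

theorem act_regMod (z : Pts H) (f : Coord G) : act (regMod i) z f = Rt (z ≫ i) f := by
  show TensorProduct.lid k (Coord G) (TB (z ≫ i) ((1 : k) ⊗ₜ[k] f)) = _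
  rw [TB_tmul, one_smul]
  exact rtB_pt _ f

variable [IsAffine H.left] [Smooth H.hom]

/-- stability at rational points -/
theorem stable_of_pts {M : Type u} [AddCommGroup M] [Module k M] (ρ : VecGrp.GMod H M) (W : Submodule k M)
    (h : ∀ z : Pts H, ∀ w ∈ W, act ρ z w ∈ W) : ρ.IsStable (𝟙 H) W := by
  intro B _ _ t x hx
  rw [Category.comp_id]
  have hu : W.mkQ.lTensor (Coord H) (ρ.ρ (Coord H) (uPt H) ((1 : Coord H) ⊗ₜ[k] x)) = 0 := by
    refine tensor_eq_zero fun z => ?_
    rw [show (valHom z).toLinearMap.rTensor (M ⧸ W) (W.mkQ.lTensor (Coord H) (ρ.ρ (Coord H) (uPt H) ((1 : Coord H) ⊗ₜ[k] x))) =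
        W.mkQ.lTensor k ((valHom z).toLinearMap.rTensor M (ρ.ρ (Coord H) (uPt H) ((1 : Coord H) ⊗ₜ[k] x))) from by
          rw [← LinearMap.comp_apply, ← LinearMap.comp_apply (W.mkQ.lTensor k),
            LinearMap.rTensor_comp_lTensor, LinearMap.lTensor_comp_rTensor],
      ← ρ_eq, ρ_one_tmul]
    simp [(Submodule.Quotient.mk_eq_zero W).2 (h z x hx)]
  have hB : W.mkQ.lTensor B (ρ.ρ B t ((1 : B) ⊗ₜ[k] x)) = 0 := by
    rw [ρ_eq, ← LinearMap.comp_apply, LinearMap.lTensor_comp_rTensor,
      ← LinearMap.rTensor_comp_lTensor, LinearMap.comp_apply, hu, map_zero]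
  obtain ⟨y, hy⟩ := (lTensor_exact B (LinearMap.exact_subtype_mkQ W) W.mkQ_surjective _).1 hB
  rw [Submodule.baseChange_eq_span]
  rw [← hy]
  clear hy hB hu
  induction y with
  | zero => simp
  | add a b ha hb => rw [map_add]; exact add_mem ha hb
  | tmul b w =>
    rw [LinearMap.lTensor_tmul, show b ⊗ₜ[k] (W.subtype w) = b • ((1 : B) ⊗ₜ[k] (w : M)) by
      rw [TensorProduct.smul_tmul', smul_eq_mul, _root_.mul_one]; rfl]
    exact Submodule.smul_mem _ _ (Submodule.subset_span ⟨w, w.2, rfl⟩)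

end Groth.Agent.AGFObs
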