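import Groth.Agent.AGFObs.Mods
import Groth.Agent.AGFObs.Crit

/-!
Observability and representations.
-/

set_option autoImplicit false

universe u

noncomputable section

open CategoryTheory MonoidalCategory CartesianMonoidalCategory MonObj GrpObj AlgebraicGeometry
open scoped TensorProduct
open Groth.Agent.AGFPoints.Basic Groth.Agent.AGFLang

namespace Groth.Agent.AGFObs

section Char

variable {k : Type u} [Field k] {H : Over (Spec (CommRingCat.of k))}

theorem chiVal_inv {B : Type u} [CommRing B] [Algebra k B] (χ : H ⟶ Red.Gm (Spec (CommRingCat.of k)))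
    (h : VecGrp.pt k B ⟶ H) : VecGrp.chiVal χ⁻¹ h * VecGrp.chiVal χ h = 1 := by
  unfold VecGrp.chiVal
  rw [← map_mul, ← GmPts.gmFn_mul, ← MonObj.comp_mul, inv_mul_cancel, MonObj.comp_one, ← GmPts.val_unitOfPt,
    GmPts.unitOfPt_one, Units.val_one, map_one]

end Char


variable {k : Type u} [Field k] [IsAlgClosed k]
variable {G H : Over (Spec (CommRingCat.of k))} [GrpObj G] [GrpObj H] [IsAffine G.left] [Smooth G.hom]
  [Smooth H.hom] (i : H ⟶ G) [IsMonHom i] [IsClosedImmersion i.left]

/-- a separating set gives a vector with stabiliser the subgroup -/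
theorem exists_stab_of_sep {t : Finset (Coord G)} (ht : IsSep i t) :
    ∃ (V : Type u) (_ : AddCommGroup V) (_ : Module k V) (_ : Module.Finite k V) (ρ : VecGrp.GMod G V) (v : V),
      AGF.IsStabOnPts k i ρ v := by
  classical
  obtain ⟨W, hW, htW, hWst⟩ := exists_stable_Rt t
  refine ⟨{f // f ∈ t} → W, inferInstance, inferInstance, inferInstance, piMod (funMod hWst) _,
    fun f => ⟨f.1, htW _ f.2⟩, fun g => ?_⟩
  rw [ρ_one_tmul]
  constructor
  · intro h
    have h' : act (piMod (funMod hWst) _) g (fun f : {f // f ∈ t} => (⟨f.1, htW _ f.2⟩ : W)) = fun f => ⟨f.1, htW _ f.2⟩ := by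
      simpa using congrArg (TensorProduct.lid k _) h
    have hg : g ∈ HP i := by
      have := ht.sep 1 g fun f hf => ?_
      · simpa using this
      · have h1 := congrArg Subtype.val (congrFun h' ⟨f, hf⟩)
        rw [act_piMod, act_funMod] at h1
        have h2 := congrArg (valHom (1 : Pts G)) h1
        rw [val_Rt, _root_.one_mul] at h2
        exact h2.symm
    exact hg
  · intro hg
    congr 1
    funext f
    refine Subtype.ext ?_
    rw [act_piMod, act_funMod]
    exact ext_pts fun z => by rw [val_Rt]; exact ht.inv _ f.2 z g hg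

/-- the stabiliser of a vector is observable -/
theorem obs_of_stab {V : Type u} [AddCommGroup V] [Module k V] (ρ : VecGrp.GMod G V) (v : V)
    (hv : AGF.IsStabOnPts k i ρ v) : ∀ g : Pts G, (∀ f ∈ Inv i, Rt g f = f) → g ∈ HP i := by
  intro g hg
  refine (hv g).1 ?_
  rw [ρ_one_tmul]
  congr 1
  have hH : ∀ h ∈ HP i, act ρ h v = v := fun h hh => by
    simpa using congrArg (TensorProduct.lid k V) ((ρ_one_tmul ρ h v).symm.trans ((hv h).2 hh))
  refine (Module.forall_dual_apply_eq_zero_iff k (act ρ g v - v)).1 (fun φ => ?_) |> sub_eq_zero.1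
  have hinv : coef ρ φ v ∈ Inv i := fun x h hh => by
    rw [val_coef, val_coef, act_mul, hH h hh]
  have := congrArg (valHom (1 : Pts G)) (hg _ hinv)
  rw [val_Rt, _root_.one_mul, val_coef, val_coef, act_one] at this
  rw [map_sub, this, sub_self]

/-- semi-invariant vectors give semi-invariant functions -/
theorem exists_fun_of_vec (c : Coord H) {V : Type u} [AddCommGroup V] [Module k V] (ρ : VecGrp.GMod G V) (v : V)
    (hv : v ≠ 0)
    (h : ∀ (B : Type u) [CommRing B] [Algebra k B] (t : VecGrp.pt k B ⟶ H),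
      ρ.ρ B (t ≫ i) ((1 : B) ⊗ₜ[k] v) = valHom t c • ((1 : B) ⊗ₜ[k] v)) :
    ∃ D : Coord G, valHom (1 : Pts G) D = 1 ∧ ∀ x, ∀ z : Pts H, valHom (x * (z ≫ i)) D = valHom z c * valHom x D := by
  obtain ⟨φ, hφ⟩ : ∃ φ : Module.Dual k V, φ v = 1 := by
    obtain ⟨φ, hφ⟩ : ∃ φ : Module.Dual k V, φ v ≠ 0 := by
      by_contra hno
      simp only [not_exists, not_not] at hno
      exact hv ((Module.forall_dual_apply_eq_zero_iff k v).1 hno)
    exact ⟨(φ v)⁻¹ • φ, inv_mul_cancel₀ hφ⟩
  have hz : ∀ z : Pts H, act ρ (z ≫ i) v = valHom z c • v := fun z => by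
    simpa [-valHom_apply] using congrArg (TensorProduct.lid k V) ((ρ_one_tmul ρ (z ≫ i) v).symm.trans (h k z))
  exact ⟨coef ρ φ v, by rw [val_coef, act_one, hφ], fun x z => by
    rw [val_coef, val_coef, act_mul, hz, map_smul, map_smul, smul_eq_mul]⟩

/-- semi-invariant functions give semi-invariant vectors -/
theorem exists_vec_of_fun (c : Coord H) (D : Coord G) (h1 : valHom (1 : Pts G) D = 1)
    (hD : ∀ x, ∀ z : Pts H, valHom (x * (z ≫ i)) D = valHom z c * valHom x D) :
    ∃ (V : Type u) (_ : AddCommGroup V) (_ : Module k V) (_ : Module.Finite k V) (ρ : VecGrp.GMod G V) (v : V), v ≠ 0 ∧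
      ∀ (B : Type u) [CommRing B] [Algebra k B] (t : VecGrp.pt k B ⟶ H),
        ρ.ρ B (t ≫ i) ((1 : B) ⊗ₜ[k] v) = valHom t c • ((1 : B) ⊗ₜ[k] v) := by
  have : IsAffine H.left := isAffine_of_isAffineHom i.left
  obtain ⟨W, hW, hDW, hWst⟩ := exists_stable_Rt ({D} : Finset (Coord G))
  refine ⟨W, inferInstance, inferInstance, hW, funMod hWst, ⟨D, hDW D (Finset.mem_singleton_self D)⟩,
    fun h0 => ?_, fun B _ _ t => ρ_smul_of_pts _ i _ c (fun z => Subtype.ext ?_) B t⟩
  · have := congrArg (fun w : W => valHom (1 : Pts G) (w : Coord G)) h0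
    simp only [ZeroMemClass.coe_zero, map_zero] at this
    rw [h1] at this
    exact one_ne_zero this
  · rw [act_funMod]
    exact ext_pts fun x => by rw [val_Rt, SetLike.val_smul, map_smul, smul_eq_mul]; exact hD x z

end Groth.Agent.AGFObs

namespace Groth.Agent.AGFObs

variable {k : Type u} [Field k] {H : Over (Spec (CommRingCat.of k))} [GrpObj H]

theorem chiVal_mul {B : Type u} [CommRing B] [Algebra k B] (χ : H ⟶ Red.Gm (Spec (CommRingCat.of k))) [IsMonHom χ]
    (g h : VecGrp.pt k B ⟶ H) : VecGrp.chiVal χ (g * h) = VecGrp.chiVal χ g * VecGrp.chiVal χ h := by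
  unfold VecGrp.chiVal
  rw [MonObj.mul_comp g h χ, GmPts.gmFn_mul, map_mul]

theorem chiVal_one {B : Type u} [CommRing B] [Algebra k B] (χ : H ⟶ Red.Gm (Spec (CommRingCat.of k))) [IsMonHom χ] :
    VecGrp.chiVal χ (1 : VecGrp.pt k B ⟶ H) = 1 := by
  unfold VecGrp.chiVal
  rw [MonObj.one_comp χ, ← GmPts.val_unitOfPt, GmPts.unitOfPt_one, Units.val_one, map_one]

/-- the line of the inverse character -/
def invCharMod (χ : H ⟶ Red.Gm (Spec (CommRingCat.of k))) [IsMonHom χ] : VecGrp.GMod H k where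
  ρ B _ _ :=
    (LinearMap.GeneralLinearGroup.generalLinearEquiv B (B ⊗[k] k)).toMonoidHom.comp
      (MonoidHom.toHomUnits
        ({ toFun := fun g => (VecGrp.chiVal χ⁻¹ g) • LinearMap.id
           map_one' := by
             have h := chiVal_inv χ (1 : VecGrp.pt k B ⟶ H)
             rw [chiVal_one χ, _root_.mul_one] at h
             rw [h, one_smul]
             rfl
           map_mul' := fun g h => LinearMap.ext fun x => by
             have h1 := chiVal_inv χ (g * h)
             have h2 := chiVal_inv χ g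
             have h3 := chiVal_inv χ h
             rw [chiVal_mul χ] at h1
             have e : VecGrp.chiVal χ⁻¹ (g * h) = VecGrp.chiVal χ⁻¹ g * VecGrp.chiVal χ⁻¹ h :=
               calc VecGrp.chiVal χ⁻¹ (g * h) = VecGrp.chiVal χ⁻¹ (g * h) *
                     ((VecGrp.chiVal χ⁻¹ g * VecGrp.chiVal χ g) * (VecGrp.chiVal χ⁻¹ h * VecGrp.chiVal χ h)) := by
                     rw [h2, h3, _root_.mul_one, _root_.mul_one]
                 _ = (VecGrp.chiVal χ⁻¹ (g * h) * (VecGrp.chiVal χ g * VecGrp.chiVal χ h)) *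
                     (VecGrp.chiVal χ⁻¹ g * VecGrp.chiVal χ⁻¹ h) := by ring
                 _ = _ := by rw [h1, _root_.one_mul]
             simp [e, smul_smul, mul_comm] } : (VecGrp.pt k B ⟶ H) →* Module.End B (B ⊗[k] k)))
  naturality {B B'} _ _ _ _ φ g x := by
    show VecGrp.Wmap φ (VecGrp.chiVal χ⁻¹ g • x) = VecGrp.chiVal χ⁻¹ (VecGrp.ptMap φ ≫ g) • VecGrp.Wmap φ x
    rw [VecGrp.Wmap_smul, chiVal_eq, chiVal_eq, valHom_ptMap]
    rfl

theorem act_invCharMod (χ : H ⟶ Red.Gm (Spec (CommRingCat.of k))) [IsMonHom χ] (z : Pts H) (x : k) :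
    act (invCharMod χ) z x = valHom z (chiFn χ⁻¹) * x := by
  show TensorProduct.lid k k (VecGrp.chiVal χ⁻¹ z • ((1 : k) ⊗ₜ[k] x)) = _
  rw [chiVal_eq, TensorProduct.smul_tmul', TensorProduct.lid_tmul]
  simp [-valHom_apply]

end Groth.Agent.AGFObs
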