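import Groth.Agent.AGFObs.Coact
import Groth.Agent.AGFObs.Solvable

/-!
The transfer principle for rings of invariants.
-/

set_option autoImplicit false

universe u

noncomputable section

open CategoryTheory MonoidalCategory CartesianMonoidalCategory MonObj GrpObj AlgebraicGeometry
open scoped TensorProduct
open Groth.Agent.AGFPoints.Basic Groth.Agent.AGFLang

namespace Groth.Agent.AGFObs

variable {k : Type u} [Field k]

/-- the constants of global functions -/
theorem algebraMap_coord {G : Over (Spec (CommRingCat.of k))} (c : k) :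
    algebraMap k (Coord G) c = G.hom.appTop ((Scheme.ΓSpecIso (CommRingCat.of k)).inv c) := rfl

variable [IsAlgClosed k] {G H : Over (Spec (CommRingCat.of k))} [GrpObj G] [GrpObj H] [IsAffine G.left]
  [Smooth G.hom] [Smooth H.hom] (i : H ⟶ G) [IsMonHom i] [IsClosedImmersion i.left]

theorem subringFGOver_iff : AGF.SubringFGOver k G (AGF.rTransInv i) ↔ (Inv i).FG := by
  constructor
  · rintro ⟨(s : Finset (Coord G)), hs, hle⟩
    refine ⟨s, le_antisymm (Algebra.adjoin_le fun f hf => (isRTransInv_iff_mem i f).1 (hs hf)) fun f hf => ?_⟩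
    have h := hle ((isRTransInv_iff_mem i f).2 hf)
    show f ∈ (Algebra.adjoin k (s : Set (Coord G))).toSubring
    rw [Algebra.adjoin_eq_ring_closure]
    exact h
  · rintro ⟨s, hs⟩
    refine ⟨s, fun f hf => (isRTransInv_iff_mem i f).2 (hs ▸ Algebra.subset_adjoin hf), fun f hf => ?_⟩
    have h : f ∈ (Algebra.adjoin k (s : Set (Coord G))).toSubring := by
      show f ∈ Algebra.adjoin k (s : Set (Coord G))
      rw [hs]
      exact (isRTransInv_iff_mem i f).1 hf
    rw [Algebra.adjoin_eq_ring_closure] at h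
    exact h

variable (G) in
/-- left translation as a coaction -/
def lCoact : Coord G →ₐ[k] Coord G ⊗[k] Coord G :=
  (Algebra.TensorProduct.map (inv' G) (AlgHom.id k (Coord G))).comp (comul G)

theorem cAct_lCoact (g : Pts G) (f : Coord G) : cAct (lCoact G) g f = L g⁻¹ f := by
  rw [cAct_eq, L_apply_eq]
  show TensorProduct.lid k _ ((valHom g).toLinearMap.rTensor _ (Algebra.TensorProduct.map (inv' G) (AlgHom.id k (Coord G)) (comul G f))) = _
  generalize comul G f = w
  induction w with
  | zero => simp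
  | add a b ha hb => simp only [map_add, ha, hb]
  | tmul a b => simp [-valHom_apply, val_inv']

variable (G) in
/-- the left regular action -/
def lRegMod : VecGrp.GMod G (Coord G) :=
  ofCoact (lCoact G) (fun a => by rw [cAct_lCoact, inv_one, L_one])
    (fun g h a => by rw [cAct_lCoact, cAct_lCoact, cAct_lCoact, L_L, _root_.mul_inv_rev])

variable (G) in
theorem lRegMod_isMult : (lRegMod G).IsMult := ofCoact_isMult _ _ _

theorem map_inv'_Inv_eq [IsAffine H.left] :
    (Inv i).map (inv' G) = (lRegMod G).fixedSubalgebra (lRegMod_isMult G) i := by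
  ext f
  rw [Subalgebra.mem_map, mem_fixedSubalgebra_iff]
  constructor
  · rintro ⟨F, hF, rfl⟩ z
    refine ext_pts fun x => ?_
    rw [lRegMod, act_ofCoact, cAct_lCoact, val_L, val_inv', val_inv', _root_.mul_inv_rev, _root_.inv_inv]
    exact hF _ _ ⟨z, rfl⟩
  · intro h
    refine ⟨inv' G f, fun x hp hhp => ?_, ext_pts fun x => by rw [val_inv', val_inv', _root_.inv_inv]⟩
    obtain ⟨z, rfl⟩ := hhp
    have h1 := congrArg (valHom x⁻¹) (h z)
    rw [lRegMod, act_ofCoact, cAct_lCoact, val_L] at h1
    rw [val_inv', val_inv', _root_.mul_inv_rev]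
    exact h1

section Transfer

variable {A : Type u} [CommRing A] [Algebra k A] (ρ : VecGrp.GMod G A) (hρ : ρ.IsMult)

/-- left translation on the invariant subalgebra -/
def LInv (g : Pts G) : Inv i →ₐ[k] Inv i := ((L g).comp (Inv i).val).codRestrict _ fun f => L_mem_Inv i g f.2

theorem exists_coact_Inv : ∃ δ : Inv i →ₐ[k] Coord G ⊗[k] Inv i, ∀ g f, (cAct δ g f : Coord G) = L g⁻¹ (f : Coord G) := by
  let j : Coord G ⊗[k] Inv i →ₐ[k] Coord G ⊗[k] Coord G := Algebra.TensorProduct.map (AlgHom.id k _) (Inv i).val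
  have hj : ∀ x, j x = (Inv i).val.toLinearMap.lTensor (Coord G) x := fun x => by
    induction x with
    | zero => simp
    | add a b ha hb => simp only [map_add, ha, hb]
    | tmul a b => simp [j]
  have hinj : Function.Injective j := fun x y h => by
    rw [hj, hj] at h
    exact Module.Flat.lTensor_preserves_injective_linearMap (M := Coord G) _ Subtype.val_injective h
  have hmem : ∀ f : Inv i, ∃ x, j x = lCoact G (f : Coord G) := fun f => by
    let W : Submodule k (Coord G) := (Inv i).toSubmodule
    have h0 : W.mkQ.lTensor (Coord G) (lCoact G (f : Coord G)) = 0 := by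
      refine tensor_eq_zero fun z => ?_
      rw [show (valHom z).toLinearMap.rTensor (Coord G ⧸ W) (W.mkQ.lTensor (Coord G) (lCoact G (f : Coord G))) =
          W.mkQ.lTensor k ((valHom z).toLinearMap.rTensor (Coord G) (lCoact G (f : Coord G))) from by
            rw [← LinearMap.comp_apply, ← LinearMap.comp_apply (W.mkQ.lTensor k),
              LinearMap.rTensor_comp_lTensor, LinearMap.lTensor_comp_rTensor],
        ← (TensorProduct.lid k (Coord G)).symm_apply_apply ((valHom z).toLinearMap.rTensor (Coord G) _),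
        ← cAct_eq, cAct_lCoact]
      simp [(Submodule.Quotient.mk_eq_zero W).2 (L_mem_Inv i z⁻¹ f.2)]
    obtain ⟨y, hy⟩ := (lTensor_exact (Coord G) (LinearMap.exact_subtype_mkQ W) W.mkQ_surjective _).1 h0
    exact ⟨y, (hj y).trans hy⟩
  let e := AlgEquiv.ofInjective j hinj
  refine ⟨e.symm.toAlgHom.comp (((lCoact G).comp (Inv i).val).codRestrict j.range fun f => hmem f), fun g f => ?_⟩
  have h2 : j (e.symm ⟨lCoact G (f : Coord G), hmem f⟩) = lCoact G (f : Coord G) :=
    congrArg Subtype.val (e.apply_symm_apply _)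
  rw [cAct_eq, ← cAct_lCoact g (f : Coord G), cAct_eq, ← h2]
  have key : ∀ w, ((TensorProduct.lid k (Inv i) ((valHom g).toLinearMap.rTensor (Inv i) w) : Inv i) : Coord G) =
      TensorProduct.lid k (Coord G) ((valHom g).toLinearMap.rTensor (Coord G) (j w)) := fun w => by
    induction w with
    | zero => simp
    | add a b ha hb => simp only [map_add, Subalgebra.coe_add, ha, hb]
    | tmul a b => simp [j, -valHom_apply]
  exact key _

/-- the product of two coactions -/
def coactMul {P Q : Type u} [CommRing P] [Algebra k P] [CommRing Q] [Algebra k Q] (δ₁ : P →ₐ[k] Coord G ⊗[k] P)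
    (δ₂ : Q →ₐ[k] Coord G ⊗[k] Q) : P ⊗[k] Q →ₐ[k] Coord G ⊗[k] (P ⊗[k] Q) :=
  Algebra.TensorProduct.lift
    ((Algebra.TensorProduct.map (AlgHom.id k (Coord G)) Algebra.TensorProduct.includeLeft).comp δ₁)
    ((Algebra.TensorProduct.map (AlgHom.id k (Coord G)) Algebra.TensorProduct.includeRight).comp δ₂)
    fun _ _ => Commute.all _ _

theorem cAct_coactMul {P Q : Type u} [CommRing P] [Algebra k P] [CommRing Q] [Algebra k Q] (δ₁ : P →ₐ[k] Coord G ⊗[k] P)
    (δ₂ : Q →ₐ[k] Coord G ⊗[k] Q) (g : Pts G) (a : P) (b : Q) :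
    cAct (coactMul δ₁ δ₂) g (a ⊗ₜ b) = cAct δ₁ g a ⊗ₜ cAct δ₂ g b := by
  have nat : ∀ {M N : Type u} [CommRing M] [Algebra k M] [CommRing N] [Algebra k N] (φ : M →ₐ[k] N)
      (w : Coord G ⊗[k] M),
      TensorProduct.lid k N ((valHom g).toLinearMap.rTensor N (Algebra.TensorProduct.map (AlgHom.id k (Coord G)) φ w)) =
      φ (TensorProduct.lid k M ((valHom g).toLinearMap.rTensor M w)) := by
    intro M N _ _ _ _ φ w
    induction w with
    | zero => simp
    | add a b ha hb => simp only [map_add, ha, hb]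
    | tmul a b => simp [-valHom_apply]
  have e1 : ∀ c : P, cAct (coactMul δ₁ δ₂) g (c ⊗ₜ[k] (1 : Q)) = cAct δ₁ g c ⊗ₜ (1 : Q) := fun c => by
    rw [cAct_eq, cAct_eq, coactMul, Algebra.TensorProduct.lift_tmul, map_one, _root_.mul_one, AlgHom.comp_apply]
    exact nat _ _
  have e2 : ∀ c : Q, cAct (coactMul δ₁ δ₂) g ((1 : P) ⊗ₜ[k] c) = (1 : P) ⊗ₜ cAct δ₂ g c := fun c => by
    rw [cAct_eq, cAct_eq, coactMul, Algebra.TensorProduct.lift_tmul, map_one, _root_.one_mul, AlgHom.comp_apply]
    exact nat _ _
  have e : a ⊗ₜ[k] b = (a ⊗ₜ[k] (1 : Q)) * ((1 : P) ⊗ₜ[k] b) := by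
    rw [Algebra.TensorProduct.tmul_mul_tmul, _root_.mul_one, _root_.one_mul]
  rw [e, map_mul, e1, e2, Algebra.TensorProduct.tmul_mul_tmul, _root_.mul_one, _root_.one_mul]

/-- evaluation of the first factor -/
def evS (g : Pts G) : (Inv i) ⊗[k] A →ₐ[k] A :=
  Algebra.TensorProduct.lift ((Algebra.ofId k A).comp ((valHom g).comp (Inv i).val)) (AlgHom.id k A)
    fun _ _ => Commute.all _ _

theorem evS_tmul (g : Pts G) (s : Inv i) (a : A) : evS i (A := A) g (s ⊗ₜ a) = valHom g (s : Coord G) • a := by
  rw [evS, Algebra.TensorProduct.lift_tmul, Algebra.smul_def]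
  rfl

include hρ in
theorem fixed_fg (hG : VecGrp.IsReductiveGrp k G) (thmA : VecGrp.ReductiveInvariantsFG k)
    [Algebra.FiniteType k A] (hfg : (Inv i).FG) : (ρ.fixedSubalgebra hρ i).FG := by
  have : IsAffine H.left := isAffine_of_isAffineHom i.left
  have : Algebra.FiniteType k (Inv i) := (Subalgebra.fg_iff_finiteType _).1 hfg
  obtain ⟨δS, hδS⟩ := exists_coact_Inv i
  let δR := coactMul δS (coactOf ρ hρ)
  have hR : ∀ g (s : Inv i) (a : A), cAct δR g (s ⊗ₜ a) = (cAct δS g s) ⊗ₜ (act ρ g a) := fun g s a => by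
    rw [cAct_coactMul, cAct_coactOf]
  have h1 : ∀ x, cAct δR (1 : Pts G) x = x := fun x => by
    induction x with
    | zero => simp
    | add x y hx hy => simp only [map_add, hx, hy]
    | tmul s a =>
      rw [hR, act_one, show cAct δS (1 : Pts G) s = s from Subtype.ext (by rw [hδS, inv_one, L_one])]
  have hm : ∀ g h x, cAct δR (g * h) x = cAct δR g (cAct δR h x) := fun g h x => by
    induction x with
    | zero => simp
    | add x y hx hy => simp only [map_add, hx, hy]
    | tmul s a =>
      rw [hR, hR, hR, act_mul, show cAct δS (g * h) s = cAct δS g (cAct δS h s) from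
        Subtype.ext (by rw [hδS, hδS, hδS, L_L, _root_.mul_inv_rev])]
  obtain ⟨t, htS, htfix⟩ := thmA G hG ((Inv i) ⊗[k] A) (ofCoact δR h1 hm) (ofCoact_isMult δR h1 hm)
    (by
      have e : (Algebra.TensorProduct.includeLeft (R := k) (S := k) (A := Inv i) (B := A)).range ⊔
          (Algebra.TensorProduct.includeRight (R := k) (A := Inv i) (B := A)).range = ⊤ := by
        refine eq_top_iff.2 fun x _ => ?_
        induction x with
        | zero => exact zero_mem _
        | add x y hx hy => exact add_mem (hx trivial) (hy trivial)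
        | tmul s a =>
          rw [show s ⊗ₜ[k] a = (s ⊗ₜ[k] (1 : A)) * ((1 : Inv i) ⊗ₜ[k] a) by
            rw [Algebra.TensorProduct.tmul_mul_tmul, _root_.mul_one, _root_.one_mul]]
          exact mul_mem (le_sup_left (a := (Algebra.TensorProduct.includeLeft (R := k) (S := k) (A := Inv i) (B := A)).range) ⟨s, rfl⟩)
            (le_sup_right (b := (Algebra.TensorProduct.includeRight (R := k) (A := Inv i) (B := A)).range) ⟨a, rfl⟩)
      refine ⟨?_⟩
      rw [← e, ← Algebra.map_top, ← Algebra.map_top]
      exact (Algebra.FiniteType.out.map _).sup (Algebra.FiniteType.out.map _))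
  let ψ := evS i (A := A) (1 : Pts G)
  have hev : ∀ (g z : Pts G) (x : (Inv i) ⊗[k] A), evS i z (cAct δR g x) = act ρ g (evS i (g⁻¹ * z) x) := fun g z x => by
    induction x with
    | zero => simp
    | add x y hx hy => simp only [map_add, hx, hy]
    | tmul s a => rw [hR, evS_tmul, evS_tmul, hδS, val_L, map_smul]
  have himg : ∀ x ∈ (ofCoact δR h1 hm).fixedUnder (𝟙 G), ψ x ∈ ρ.fixedSubalgebra hρ i := fun x hx => by
    rw [mem_fixedSubalgebra_iff]
    intro z
    have hxz : cAct δR (z ≫ i) x = x := by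
      have := (mem_fixedUnder_iff (ofCoact δR h1 hm) (𝟙 G) x).1 hx (z ≫ i)
      rwa [act_ofCoact, Category.comp_id] at this
    have h3 := congrArg (evS i (A := A) (1 : Pts G)) hxz
    rw [hev] at h3
    have h4 : ∀ y : (Inv i) ⊗[k] A, evS i (A := A) ((z ≫ i)⁻¹ * 1) y = ψ y := fun y => by
      induction y with
      | zero => simp
      | add x y hx hy => simp only [map_add, hx, hy]
      | tmul s a =>
        rw [evS_tmul, evS_tmul]
        congr 1
        rw [_root_.mul_one, ← _root_.one_mul (z ≫ i)⁻¹]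
        exact s.2 1 _ ((HP i).inv_mem ⟨z, rfl⟩)
    rw [h4] at h3
    exact h3
  have hsurj : ∀ a ∈ ρ.fixedSubalgebra hρ i, ∃ x ∈ (ofCoact δR h1 hm).fixedUnder (𝟙 G), ψ x = a := fun a ha => by
    classical
    let c := coactOf ρ hρ a
    obtain ⟨J, b⟩ : Σ J : Type u, Module.Basis J k A := ⟨_, Module.Basis.ofVectorSpace k A⟩
    let cj := TensorProduct.equivFinsuppOfBasisRight b c
    have hc0 : ∀ (z : Pts G) (j : J), valHom z (cj j) = b.repr (act ρ z a) j := fun z j => by
      rw [← cAct_coactOf ρ hρ, cAct_eq]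
      have key : ∀ w : Coord G ⊗[k] A, valHom z (TensorProduct.equivFinsuppOfBasisRight b w j) =
          b.repr (TensorProduct.lid k A ((valHom z).toLinearMap.rTensor A w)) j := fun w => by
        induction w with
        | zero => simp [-valHom_apply]
        | add p q hp hq => simp only [map_add, Finsupp.add_apply, hp, hq]
        | tmul p q => simp [-valHom_apply, mul_comm]
      exact key c
    have hcj : ∀ j, cj j ∈ Inv i := fun j x hp hhp => by
      obtain ⟨z, rfl⟩ := hhp
      rw [hc0, hc0, act_mul, (mem_fixedSubalgebra_iff ρ hρ i a).1 ha z]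
    let x : (Inv i) ⊗[k] A := ∑ j ∈ cj.support, (⟨cj j, hcj j⟩ : Inv i) ⊗ₜ[k] b j
    have hx : ∀ z : Pts G, evS i z x = act ρ z a := fun z => by
      rw [map_sum]
      simp only [evS_tmul]
      conv_rhs => rw [← b.linearCombination_repr (act ρ z a), Finsupp.linearCombination_apply]
      rw [Finsupp.sum_of_support_subset (s := cj.support) (b.repr (act ρ z a)) ?_ (fun j c => c • b j)
        (fun j _ => zero_smul _ _)]
      swap
      · intro j hj
        rw [Finsupp.mem_support_iff] at hj ⊢
        intro h0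
        exact hj (by rw [← hc0 z j, h0, map_zero])
      exact Finset.sum_congr rfl fun j _ => by rw [hc0]
    have hext : ∀ p q : (Inv i) ⊗[k] A, (∀ z, evS i z p = evS i z q) → p = q := fun p q h => by
      have hinj : Function.Injective ((Inv i).val.toLinearMap.rTensor A) :=
        Module.Flat.rTensor_preserves_injective_linearMap (M := A) _ Subtype.val_injective
      refine hinj (tensor_ext fun z => ?_)
      have e : ∀ y : (Inv i) ⊗[k] A, TensorProduct.lid k A ((valHom z).toLinearMap.rTensor A ((Inv i).val.toLinearMap.rTensor A y)) =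
          evS i z y := fun y => by
        induction y with
        | zero => simp
        | add a b ha hb => simp only [map_add, ha, hb]
        | tmul s a => rw [evS_tmul]; simp [-valHom_apply]
      rw [e, e]
      exact h z
    refine ⟨x, (mem_fixedUnder_iff (ofCoact δR h1 hm) (𝟙 G) x).2 fun g => hext _ _ fun z => ?_, by
      rw [hx, act_one]⟩
    rw [act_ofCoact, Category.comp_id, hev, hx, hx, ← act_mul, mul_inv_cancel_left]
  classical
  refine ⟨t.image ψ, le_antisymm (Algebra.adjoin_le ?_) fun a ha => ?_⟩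
  · intro a ha
    obtain ⟨x, hx, rfl⟩ := Finset.mem_image.1 (Finset.mem_coe.1 ha)
    exact himg x (htS hx)
  · obtain ⟨x, hx, rfl⟩ := hsurj a ha
    rw [Finset.coe_image, ← AlgHom.map_adjoin]
    exact ⟨x, htfix hx, rfl⟩

end Transfer

end Groth.Agent.AGFObs
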