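import Groth.Agent.Borel50.Lin.Torus
import Groth.Agent.AGFObs.Basic

/-!
A connected solvable group without subtori has no non-trivial character.
-/

set_option autoImplicit false
set_option backward.isDefEq.respectTransparency false

universe u

noncomputable section

open CategoryTheory MonoidalCategory CartesianMonoidalCategory MonObj GrpObj AlgebraicGeometry Limits
open scoped TensorProduct
open WithConv

namespace Groth.Agent.AGFObs.UnipChar

open Groth.Agent.Borel50 Groth.Agent.Borel50.Pts Groth.Agent.Borel50.Lin Groth.Agent.Borel50.Density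
open Groth.Agent.AGFPoints.Basic Groth.Agent.AGFLang
open Groth.Agent.UnipLib (rho)

section Hopf

variable {k : Type u} [Field k] [IsAlgClosed k] {A : Type u} [CommRing A] [HopfAlgebra k A]
  [Algebra.FiniteType k A] [_root_.IsReduced A]

attribute [local instance] LieKolchin.zariski

/-- A faithful matrix representation in which a multiplicative function gives an eigenvector. -/
theorem exists_rep_eigen (x : A) (hx0 : x ≠ 0)
    (hx : ∀ g h : LieKolchin.Pts k A, (g * h).ofConv x = g.ofConv x * h.ofConv x) :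
    ∃ (N : ℕ) (Φ : Rep k (LieKolchin.Pts k A) N) (v : Fin N → k), v ≠ 0 ∧
      ∀ g, (Φ.ρ g).mulVec v = g.ofConv x • v := by
  classical
  obtain ⟨s, hs⟩ := (inferInstance : Algebra.FiniteType k A).out
  obtain ⟨V, hVfin, hsV', hV⟩ := UnipLib.exists_stable (k := k) (insert x s)
  have hsV : ∀ ⦃a⦄, a ∈ s → a ∈ V := fun a ha => hsV' (Finset.mem_insert_of_mem ha)
  let N := Module.finrank k V
  let b : Module.Basis (Fin N) k V := Module.finBasis k V
  let f : LieKolchin.Pts k A → Module.End k V := fun g => (rho g.ofConv).toLinearMap.restrict (hV g.ofConv)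
  have hf1 : f 1 = 1 := LinearMap.ext fun v => Subtype.ext <| by
    refine UnipLib.ext_pts (k := k) fun x => ?_
    show x (rho _ (v : A)) = x v
    rw [UnipLib.pt_rho_self, toConv_ofConv, _root_.mul_one]
  have hfm : ∀ g h, f (g * h) = f g * f h := fun g h => LinearMap.ext fun v => Subtype.ext <| by
    show rho (g * h).ofConv (v : A) = rho g.ofConv (rho h.ofConv (v : A))
    rw [UnipLib.rho_mul, toConv_ofConv, toConv_ofConv]
  let ρ : LieKolchin.Pts k A →* Matrix (Fin N) (Fin N) k :=
    { toFun := fun g => LinearMap.toMatrixAlgEquiv b (f g)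
      map_one' := by rw [hf1, map_one]
      map_mul' := fun g h => by rw [hfm, map_mul] }
  -- coordinate functions
  let π : Fin N → A →ₗ[k] k := fun i =>
    ((b.coord i).comp (Submodule.subtype V).leftInverse)
  have hπ : ∀ i (v : V), π i (v : A) = b.repr v i := fun i v => by
    show b.coord i ((Submodule.subtype V).leftInverse (Submodule.subtype V v)) = _
    rw [LinearMap.leftInverse_apply_of_inj (Submodule.ker_subtype V)]
    rfl
  choose c hc using fun p : Fin N × Fin N => GrpDimOne.exists_coeff (π p.1) ((b p.2 : V) : A)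
  have hρ : ∀ g i j, ρ g i j = g.ofConv (c (i, j)) := fun g i j => by
    show LinearMap.toMatrixAlgEquiv b (f g) i j = _
    rw [hc, LinearMap.toMatrixAlgEquiv_apply, ← hπ]
    rfl
  let θ : MvPolynomial (Fin N × Fin N) k →ₐ[k] A := MvPolynomial.aeval c
  have hev : ∀ g q, ev q (ρ g) = g.ofConv (θ q) := fun g q => by
    have e : (fun p : Fin N × Fin N => ρ g p.1 p.2) = fun p => g.ofConv (c p) := funext fun p => hρ g p.1 p.2
    show MvPolynomial.eval (fun p : Fin N × Fin N => ρ g p.1 p.2) q = _
    rw [e, ← AlgHom.comp_apply, MvPolynomial.comp_aeval, MvPolynomial.aeval_eq_eval]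
  have hθ : Function.Surjective θ := by
    rw [← AlgHom.range_eq_top, eq_top_iff, ← hs]
    refine Algebra.adjoin_le fun a ha => ?_
    have hVle : V ≤ Subalgebra.toSubmodule θ.range := by
      intro v hv
      have e : v = ∑ j, b.repr ⟨v, hv⟩ j • ((b j : V) : A) := by
        have := congrArg Subtype.val (b.sum_repr ⟨v, hv⟩).symm
        simp only [Submodule.coe_sum, Submodule.coe_smul] at this
        exact this
      rw [e]
      refine Submodule.sum_mem _ fun j _ => Submodule.smul_mem _ _ ?_
      refine ⟨∑ i, MvPolynomial.C (Coalgebra.counit (R := k) ((b i : V) : A)) * MvPolynomial.X (i, j), ?_⟩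
      refine UnipLib.ext_pts (k := k) fun g => ?_
      show g (θ _) = g ((b j : V) : A)
      have h1 : ((f (toConv g) (b j) : V) : A) = rho g ((b j : V) : A) := rfl
      have h2 : Bialgebra.counitAlgHom k A (rho g ((b j : V) : A)) = g ((b j : V) : A) := by
        rw [UnipLib.pt_rho_self, show toConv (Bialgebra.counitAlgHom k A) = (1 : LieKolchin.Pts k A) from
          WithConv.ofConv_injective (AlgHom.ext fun a => rfl), _root_.one_mul]
      rw [← h2, ← h1, ← b.sum_repr (f (toConv g) (b j))]
      simp only [map_sum, map_mul, θ, MvPolynomial.aeval_X, MvPolynomial.aeval_C, AlgHom.commutes,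
        Submodule.coe_sum, Submodule.coe_smul, map_smul, Bialgebra.counitAlgHom_apply, smul_eq_mul]
      refine Finset.sum_congr rfl fun i _ => ?_
      rw [show g (c (i, j)) = (toConv g).ofConv (c (i, j)) from rfl, hc, ← hπ i (f (toConv g) (b j)), mul_comm]
      rw [h1]
      rfl
    exact hVle (hsV ha)
  have hxV : x ∈ V := hsV' (Finset.mem_insert_self x s)
  refine ⟨N, { ρ := ρ, inj := ?_, good := LieKolchin.goodTop, noeth := ?_, spec := fun S M => ⟨?_, ?_⟩ },
    ⇑(b.repr ⟨x, hxV⟩), fun h0 => hx0 ?_, fun g => ?_⟩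
  · intro g g' h
    refine WithConv.ext (AlgHom.ext fun a => ?_)
    obtain ⟨q, rfl⟩ := hθ a
    rw [← hev, ← hev, h]
  · have : IsNoetherianRing A := Algebra.FiniteType.isNoetherianRing k A
    exact (Topology.IsInducing.induced LieKolchin.toPrime).noetherianSpace
  · intro h
    have hker : RingHom.ker θ.toRingHom ≤ RingHom.ker (MvPolynomial.eval fun p => M p.1 p.2) := fun q hq => by
      refine h q fun s _ => ?_
      rw [hev, show θ q = 0 from hq, map_zero]
    let g₀ : A →ₐ[k] k := AlgHom.liftOfSurjective θ hθ (MvPolynomial.aeval fun p => M p.1 p.2)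
      (fun q hq => by simpa [RingHom.mem_ker, MvPolynomial.aeval_eq_eval] using hker hq)
    have hg₀ : ∀ q, g₀ (θ q) = ev q M := fun q => by
      rw [show g₀ (θ q) = (g₀.comp θ) q from rfl, AlgHom.liftOfSurjective_comp, MvPolynomial.aeval_eq_eval]
    refine ⟨toConv g₀, ?_, Matrix.ext fun i j => ?_⟩
    · rw [(Topology.IsInducing.induced LieKolchin.toPrime).closure_eq_preimage_closure_image, Set.mem_preimage,
        ← PrimeSpectrum.zeroLocus_vanishingIdeal_eq_closure, PrimeSpectrum.mem_zeroLocus]
      intro a ha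
      obtain ⟨q, rfl⟩ := hθ a
      show g₀ (θ q) = 0
      rw [hg₀]
      refine h q fun s hs => ?_
      rw [hev]
      exact (PrimeSpectrum.mem_vanishingIdeal _ _).1 ha _ ⟨s, hs, rfl⟩
    · rw [hρ]
      show g₀ (c (i, j)) = _
      have := hg₀ (MvPolynomial.X (i, j))
      simpa [θ, ev] using this
  · rintro ⟨x, hx, rfl⟩ q hq
    rw [hev]
    exact closure_minimal (fun s hs => show s ∈ {y : LieKolchin.Pts k A | y.ofConv (θ q) = 0} by
      show s.ofConv _ = 0
      rw [← hev]; exact hq s hs) (LieKolchin.isClosed_setOf_eq _ _) hx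
  · exact congrArg Subtype.val (show (⟨x, hxV⟩ : V) = 0 from b.repr.injective (by
      rw [map_zero]; exact DFunLike.coe_injective h0))
  · have hfx : f g ⟨x, hxV⟩ = g.ofConv x • (⟨x, hxV⟩ : V) := Subtype.ext <| by
      refine UnipLib.ext_pts (k := k) fun y => ?_
      show y (rho g.ofConv x) = y (g.ofConv x • x)
      rw [UnipLib.pt_rho_self, toConv_ofConv, hx, map_smul, smul_eq_mul, mul_comm]
    show (LinearMap.toMatrix b b (f g)).mulVec _ = _
    rw [LinearMap.toMatrix_mulVec_repr, hfx, map_smul]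
    rfl


end Hopf

attribute [local instance] ptTop

/-- a multiplicative function on a connected solvable group without subtori is one -/
theorem eq_one_of_mul {k : Type u} [Field k] [IsAlgClosed k] {U : Over (Spec (CommRingCat.of k))} [GrpObj U]
    [IsAffine U.left] [Smooth U.hom] [ConnectedSpace U.left] (hU : Red.HasNoSubtorus k U) {n : ℕ}
    (hn : derivedSeries (Pt U) n = ⊥) (a : Coord U) (h1 : valHom (1 : AGFObs.Pts U) a = 1)
    (hmul : ∀ z w : AGFObs.Pts U, valHom (z * w) a = valHom z a * valHom w a) (z : AGFObs.Pts U) :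
    valHom z a = 1 := by
  classical
  have := GrpScheme.HomFlat.isReduced_of_smooth U.hom
  obtain ⟨A, hA, e, he⟩ := AffGrp.Bridge.exists_iso (R := CommRingCat.of k) U
  let S := (Spec A).asOver (Spec (CommRingCat.of k))
  have : IsIso e.hom.left := inferInstanceAs (IsIso ((Over.forget _).map e.hom))
  have : IsReduced (Spec A) := by
    let φ : Spec A ⟶ U.left := e.hom.left
    have : IsIso φ := ‹IsIso e.hom.left›
    exact isReduced_of_isOpenImmersion φ
  have : _root_.IsReduced A := (affine_isReduced_iff A).1 inferInstance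
  have : Algebra.FiniteType k A := by
    have h : LocallyOfFiniteType S.hom := by rw [← Over.w e.hom]; infer_instance
    have h' : LocallyOfFiniteType (Spec.map (CommRingCat.ofHom (algebraMap k A))) := h
    rw [HasRingHomProperty.Spec_iff (P := @LocallyOfFiniteType)] at h'
    exact RingHom.finiteType_algebraMap.1 h'
  letI := LieKolchin.zariski (k := k) (A := A)
  let ee : (Spec (CommRingCat.of k)).asOver (Spec (CommRingCat.of k)) ≅ 𝟙_ (Over (Spec (CommRingCat.of k))) :=
    Over.isoMk (Iso.refl _) (by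
      show 𝟙 _ ≫ 𝟙 _ = Spec.map (CommRingCat.ofHom (algebraMap k k))
      simp)
  let φ : Pt U ≃* LieKolchin.Pts k A :=
    { toFun := fun g => Spec.mapMulEquiv.symm (ee.hom ≫ g ≫ e.inv)
      invFun := fun w => ee.inv ≫ Spec.mapMulEquiv w ≫ e.hom
      left_inv := fun g => by simp
      right_inv := fun w => by
        show Spec.mapMulEquiv.symm (ee.hom ≫ (ee.inv ≫ Spec.mapMulEquiv w ≫ e.hom) ≫ e.inv) = w
        simp
      map_mul' := fun g h => by
        rw [← map_mul, ← MonObj.comp_mul, ← MonObj.mul_comp] }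
  have hprime : ∀ w : LieKolchin.Pts k A, LieKolchin.toPrime w =
      (Spec.mapMulEquiv w).left.base (IsLocalRing.closedPoint k) := fun w => by
    refine PrimeSpectrum.ext (Ideal.ext fun a => ?_)
    show a ∈ RingHom.ker w.ofConv.toRingHom ↔ w.ofConv.toRingHom a ∈ IsLocalRing.maximalIdeal k
    rw [RingHom.mem_ker, IsLocalRing.maximalIdeal_eq_bot, Ideal.mem_bot]
  have hpt : ∀ g : Pt U, LieKolchin.toPrime (φ g) = e.inv.left.base (pt g) := fun g => by
    rw [hprime, show Spec.mapMulEquiv (φ g) = ee.hom ≫ g ≫ e.inv from MulEquiv.apply_symm_apply _ _]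
    rfl
  let e0 : VecGrp.pt k k ≅ 𝟙_ (Over (Spec (CommRingCat.of k))) :=
    Over.isoMk (Iso.refl _) (by
      show 𝟙 _ ≫ 𝟙 _ = Spec.map (CommRingCat.ofHom (algebraMap k k))
      simp)
  let ψ : AGFObs.Pts U ≃* Pt U :=
    { toFun := fun g => e0.inv ≫ g
      invFun := fun g => e0.hom ≫ g
      left_inv := fun g => by simp
      right_inv := fun g => by simp
      map_mul' := fun g h => MonObj.comp_mul _ _ _ }
  let glob : A → Γ(Spec A, ⊤) := (Scheme.ΓSpecIso A).inv
  let x : A := (Scheme.ΓSpecIso A).hom (e.hom.left.appTop a)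
  have hea : e.inv.left.appTop (glob x) = a := by
    rw [show glob x = e.hom.left.appTop a from Iso.hom_inv_id_apply (Scheme.ΓSpecIso A) _]
    show (e.inv.left ≫ e.hom.left).appTop a = a
    rw [← Over.comp_left, Iso.inv_hom_id]
    rfl
  have hval : ∀ z : AGFObs.Pts U, valHom z a = ((ψ.trans φ) z).ofConv x := fun z => by
    let w := (ψ.trans φ) z
    have hz : (Spec.mapMulEquiv w).left = (z ≫ e.inv).left := by
      show (Spec.mapMulEquiv (Spec.mapMulEquiv.symm (ee.hom ≫ (e0.inv ≫ z) ≫ e.inv))).left = _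
      rw [MulEquiv.apply_symm_apply]
      simp [ee, e0]
      try exact Category.id_comp _
    conv_lhs => rw [← hea]
    show (Scheme.ΓSpecIso (CommRingCat.of k)).hom (z.left.appTop (e.inv.left.appTop (glob x))) = _
    rw [show z.left.appTop (e.inv.left.appTop (glob x)) = (z ≫ e.inv).left.appTop (glob x) from rfl, ← hz]
    exact ((DFunLike.congr_fun (congrArg CommRingCat.Hom.hom
      (Scheme.ΓSpecIso_inv_naturality (CommRingCat.ofHom w.ofConv.toRingHom))) x).symm ▸
      Iso.inv_hom_id_apply (Scheme.ΓSpecIso (CommRingCat.of k)) _)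
  have hx : ∀ g h : LieKolchin.Pts k A, (g * h).ofConv x = g.ofConv x * h.ofConv x := fun g h => by
    obtain ⟨p, rfl⟩ := (ψ.trans φ).surjective g
    obtain ⟨q, rfl⟩ := (ψ.trans φ).surjective h
    rw [← map_mul, ← hval, ← hval, ← hval, hmul]
  have hx0 : x ≠ 0 := fun h0 => by
    have := hval 1
    rw [h1, h0, map_zero] at this
    exact one_ne_zero this
  obtain ⟨N, Φ, v, hv, hev⟩ := exists_rep_eigen (k := k) x hx0 hx
  suffices key : ∀ (Ψ : Rep k (Pt U) N), (∀ y, Ψ.ρ y = Φ.ρ (φ y)) → valHom z a = 1 by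
    refine key (Φ.comapEquiv φ ?_ ?_) fun y => rfl
    · refine continuous_induced_rng.2 ?_
      rw [show LieKolchin.toPrime ∘ φ = e.inv.left.base ∘ pt from funext hpt]
      exact e.inv.left.continuous.comp continuous_induced_dom
    · refine continuous_induced_rng.2 ?_
      have : pt ∘ φ.symm = e.hom.left.base ∘ LieKolchin.toPrime := funext fun w => by
        show pt (ee.inv ≫ Spec.mapMulEquiv w ≫ e.hom) = e.hom.left.base (LieKolchin.toPrime w)
        rw [hprime]
        rfl
      rw [this]
      exact e.hom.left.continuous.comp continuous_induced_dom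
  intro Ψ hΨ
  have := preconnectedSpace_pt (G := U)
  obtain ⟨P, Q, hQP, hup⟩ := Ψ.exists_upper hn
  obtain ⟨T, hT, hcov⟩ := (Ψ.conj P Q hQP).exists_toral_lift hup
  obtain ⟨K, _, j, _, _, _, hK, hr⟩ := Lin.Torus.exists_torus hT
  have : IsIso K.hom := hU K j hK
  have hT1 : ∀ t ∈ T, t = 1 := fun t ht => by
    rw [← hr] at ht
    obtain ⟨w, rfl⟩ := ht
    have hw : w = 1 := Over.OverMorphism.ext ((cancel_mono K.hom).1 (by rw [Over.w, Over.w]))
    rw [hw, map_one]
  obtain ⟨t, ht, he⟩ := hcov (ψ z)
  have hu : ψ z ∈ (Ψ.conj P Q hQP).unipotent hup 1 := (Ψ.conj P Q hQP).mem_unipotent_of_diag (by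
    rw [← he, hT1 t ht, map_one])
  have hnil : (P * Ψ.ρ (ψ z) * Q - 1) ^ N = 0 :=
    eq_zero_of_fil (by omega) (pow_mem_fil ((Ψ.conj P Q hQP).mem_unipotent.1 hu) N)
  let c := P.mulVec v
  have hc : c ≠ 0 := fun h => hv (by
    have := congrArg Q.mulVec h
    rwa [Matrix.mulVec_mulVec, hQP, Matrix.one_mulVec, Matrix.mulVec_zero] at this)
  have hev' : (P * Ψ.ρ (ψ z) * Q - 1).mulVec c = (valHom z a - 1) • c := by
    rw [Matrix.sub_mulVec, Matrix.one_mulVec, sub_smul, one_smul, Matrix.mulVec_mulVec, _root_.mul_assoc, hQP,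
      _root_.mul_one, ← Matrix.mulVec_mulVec, hΨ, hev, Matrix.mulVec_smul, hval]
    rfl
  have hpow : ∀ m, ((P * Ψ.ρ (ψ z) * Q - 1) ^ m).mulVec c = (valHom z a - 1) ^ m • c := by
    intro m
    induction m with
    | zero => simp
    | succ m ih => rw [pow_succ', ← Matrix.mulVec_mulVec, ih, Matrix.mulVec_smul, hev', smul_smul, pow_succ]
  have h0 := hpow N
  rw [hnil, Matrix.zero_mulVec] at h0
  exact sub_eq_zero.1 (eq_zero_of_pow_eq_zero ((smul_eq_zero.1 h0.symm).resolve_right hc))

end Groth.Agent.AGFObs.UnipChar
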